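import Groth.Agent.SurfMin.Main
import Groth.Agent.ExcContr.Stein
import Groth.Prelude.Def_ClSub2

/-!
Resolutions of normal surfaces: contracting a curve of the first kind, and termination.
-/

set_option autoImplicit false
set_option linter.style.haveILetI false
set_option linter.unusedSectionVars false
set_option backward.isDefEq.respectTransparency false
set_option backward.isDefEq.respectTransparency.types false
set_option maxHeartbeats 800000

universe u

open CategoryTheory CategoryTheory.Limits AlgebraicGeometry TopologicalSpace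
open Groth.Agent.H23

noncomputable section

namespace Groth.Agent.SurfMin

open Groth.Agent

variable (k : Type u) [Field k] [IsAlgClosed k] {X : Scheme.{u}} (sX : X ⟶ Spec (CommRingCat.of k))
  (U : X.Opens)

/-- A resolution of a surface. -/
structure IsRes {S : Scheme.{u}} (π : S ⟶ X) : Prop where
  proper : IsProper π
  int : IsIntegral S
  dim : topologicalKrullDim S = 2
  smooth : Smooth (π ≫ sX)
  unit : IsIso (ClSub.unitToPush π)
  iso : IsIso (π ∣_ U)

variable [IsProper sX] [IsIntegral X] (hn : Pi1.IsNormalScheme X)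

theorem IsRes.isSurf {S : Scheme.{u}} {π : S ⟶ X} (h : IsRes k sX U π) :
    letI : S.Over (Spec (CommRingCat.of k)) := ⟨π ≫ sX⟩
    IsSurf k S :=
  haveI := h.proper
  letI : S.Over (Spec (CommRingCat.of k)) := ⟨π ≫ sX⟩
  ⟨inferInstanceAs (IsProper (π ≫ sX)), h.smooth, h.int, h.dim⟩

theorem IsRes.of_and {S : Scheme.{u}} {π : S ⟶ X}
    (h : IsProper π ∧ IsIntegral S ∧ topologicalKrullDim S = 2 ∧ Smooth (π ≫ sX) ∧
      IsIso (ClSub.unitToPush π) ∧ IsIso (π ∣_ U)) : IsRes k sX U π :=
  ⟨h.1, h.2.1, h.2.2.1, h.2.2.2.1, h.2.2.2.2.1, h.2.2.2.2.2⟩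

theorem IsRes.to_and {S : Scheme.{u}} {π : S ⟶ X} (h : IsRes k sX U π) :
    IsProper π ∧ IsIntegral S ∧ topologicalKrullDim S = 2 ∧ Smooth (π ≫ sX) ∧
      IsIso (ClSub.unitToPush π) ∧ IsIso (π ∣_ U) :=
  ⟨h.proper, h.int, h.dim, h.smooth, h.unit, h.iso⟩

include hn in
/-- A contracted curve of the first kind of a resolution can be blown down. -/
theorem exists_contract (hUne : (U : Set X).Nonempty) {S : Scheme.{u}} {π : S ⟶ X} (h : IsRes k sX U π)
    {E : S.IdealSheafData}
    (hE : letI : S.Over (Spec (CommRingCat.of k)) := ⟨π ≫ sX⟩; IsM1 k E)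
    {x : X} (hx : π.base '' (E.support : Set S) = {x}) :
    ∃ (S₁ : Scheme.{u}) (π₁ : S₁ ⟶ X) (b : S ⟶ S₁),
      IsRes k sX U π₁ ∧ b ≫ π₁ = π ∧ Models.IsContractionOf E.subschemeι b := by
  letI : S.Over (Spec (CommRingCat.of k)) := ⟨π ≫ sX⟩
  have hS := IsRes.isSurf k sX U h
  haveI := h.proper; haveI := h.int; haveI := h.iso
  haveI := hS.proper; haveI := hS.smooth; haveI := hS.noeth k
  have hbir := bir_of_restrict π U hUne
  have hxU : x ∉ U := fun hxU => by
    obtain ⟨a, ha, b, hb, hab⟩ := curve_nontrivial k hE.curve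
    have ea : π a = x := hx.le ⟨a, ha, rfl⟩
    have eb : π b = x := hx.le ⟨b, hb, rfl⟩
    have e : (π ∣_ U) ⟨a, show π a ∈ U by rw [ea]; exact hxU⟩ = (π ∣_ U) ⟨b, show π b ∈ U by rw [eb]; exact hxU⟩ :=
      Subtype.ext (by rw [morphismRestrict_base_coe, morphismRestrict_base_coe]; exact ea.trans eb.symm)
    exact hab (congrArg Subtype.val ((π ∣_ U).homeomorph.injective e))
  obtain ⟨S₁, o₁, b, hbk, hS₁, hb⟩ := exists_contraction k hS hE
  haveI := hS₁.proper; haveI := hS₁.smooth; haveI := hS₁.int; haveI := hS₁.noeth k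
  haveI := hE.curve.1
  have hexc := isExcCurve_of_m1 k hS.dim hE
  have hrange : Set.range ((E.subschemeι ≫ π).base : E.subscheme → X) = {x} := by
    rw [← hx, ← E.range_subschemeι, ← Set.range_comp]
    rfl
  obtain ⟨π₁, hπ₁, -⟩ := S7307.result E.subschemeι hexc b hb π x hrange
  have hk₁ : π₁ ≫ sX = S₁ ↘ Spec (CommRingCat.of k) := by
    have hr : Set.range ((E.subschemeι ≫ π ≫ sX).base : E.subscheme → (Spec (CommRingCat.of k) : Scheme.{u})) = {sX x} := by
      rw [← Category.assoc]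
      show Set.range (sX.base ∘ (E.subschemeι ≫ π).base) = _
      rw [Set.range_comp, hrange, Set.image_singleton]
    obtain ⟨ψ, -, huniq⟩ := S7307.result E.subschemeι hexc b hb (π ≫ sX) _ hr
    rw [huniq (π₁ ≫ sX) (by show b ≫ π₁ ≫ sX = π ≫ sX; rw [← Category.assoc, hπ₁]), huniq _ hbk]
  haveI : IsProper (π₁ ≫ sX) := by rw [hk₁]; infer_instance
  haveI : IsProper π₁ := IsProper.of_comp π₁ sX
  obtain ⟨-, hbP, P, hP, hbr, -, -, hB⟩ := id hb
  haveI := hbP
  haveI := PointBlow.isIso_off hP hB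
  have hP1 : π₁ P = x := by
    obtain ⟨a, ha⟩ := hbr.ge (Set.mem_singleton P)
    rw [← ha, ← Scheme.Hom.comp_apply, Category.assoc, hπ₁]
    exact hrange.le ⟨a, rfl⟩
  have hst : ∀ w, π₁ w ∈ U → IsIso (π₁.stalkMap w) := fun w hw => by
    have hwP : w ≠ P := fun e => hxU (by rw [← hP1, ← e]; exact hw)
    obtain ⟨z, hz⟩ := (b ∣_ (⟨({P} : Set S₁)ᶜ, hP.isOpen_compl⟩ : S₁.Opens)).surjective ⟨w, hwP⟩
    obtain rfl : b z.1 = w := by
      have := congrArg Subtype.val hz
      rwa [morphismRestrict_base_coe] at this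
    haveI := PointBlow.isIso_stalkMap_off hP hB hwP
    have h1 : IsIso (π.stalkMap z.1) :=
      (MorphismProperty.isomorphisms CommRingCat).arrow_mk_iso_iff
        (morphismRestrictStalkMap π U ⟨z.1, show π z.1 ∈ U by rw [← hπ₁, Scheme.Hom.comp_apply]; exact hw⟩) |>.1
        (show IsIso ((π ∣_ U).stalkMap _) from inferInstance)
    rw [Scheme.Hom.stalkMap_congr_hom _ _ hπ₁.symm, Scheme.Hom.stalkMap_comp] at h1
    have h2 : IsIso (π₁.stalkMap (b z.1) ≫ b.stalkMap z.1) :=
      (MorphismProperty.isomorphisms CommRingCat).cancel_left_of_respectsIso _ _ |>.1 h1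
    exact IsIso.of_isIso_comp_right _ (b.stalkMap z.1)
  have hgen : π₁ (genericPoint S₁) = genericPoint X := by
    have hb1 : π₁ (b (genericPoint S)) = genericPoint X := by
      rw [← Scheme.Hom.comp_apply, hπ₁]
      exact SurfSeq.map_generic π hbir
    exact ((hb1 ▸ (genericPoint_specializes (b (genericPoint S))).map π₁.continuous :
      π₁ (genericPoint S₁) ⤳ genericPoint X).antisymm (genericPoint_specializes _)).eq
  have hgU : genericPoint X ∈ U := (genericPoint_specializes hUne.some).mem_open U.2 hUne.some_mem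
  have hbir₁ : IsIso (π₁.stalkMap (genericPoint S₁)) := hst _ (by rw [hgen]; exact hgU)
  refine ⟨S₁, π₁, b, ⟨inferInstance, inferInstance, hS₁.dim, by rw [hk₁]; infer_instance,
    ExcContr.isIso_unitToPush π₁ fun W => isIso_app_of_birational hn π₁ hbir₁ W,
    Sol.isIso_restrict_of_stalk π₁ hbir₁ U hUne hst⟩, hπ₁, hb⟩

/-- The exceptional generic points of a modification. -/
def badPts {S : Scheme.{u}} (π : S ⟶ X) : Set S :=
  {ξ | ¬ IsIso (π.stalkMap ξ) ∧ ¬ IsClosed ({ξ} : Set S)}

theorem badPts_finite {S : Scheme.{u}} {π : S ⟶ X} (h : IsRes k sX U π) (hUne : (U : Set X).Nonempty) :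
    (badPts π).Finite := by
  letI : S.Over (Spec (CommRingCat.of k)) := ⟨π ≫ sX⟩
  have hS := IsRes.isSurf k sX U h
  haveI := h.proper; haveI := h.int; haveI := h.iso
  haveI := hS.noeth k
  have hbir := bir_of_restrict π U hUne
  refine (SurfSeq.finite_dim_one π hbir).subset fun ξ hξ => ⟨hξ.1, ?_⟩
  have hd : ∀ z : S, ringKrullDim (S.presheaf.stalk z) ≤ 2 :=
    fun z => (SchTop.ringKrullDim_stalk_le z).trans hS.dim.le
  have h2 : ringKrullDim (S.presheaf.stalk ξ) ≠ 2 := fun e => hξ.2 (SurfSeq.closed_two hd e)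
  have hle : ringKrullDim (S.presheaf.stalk ξ) ≤ 1 := by_contra fun e => h2 (SurfSeq.eq_two (hd ξ) e)
  rw [ringKrullDim_stalk_eq_coheight] at hle ⊢
  have hle' : Order.coheight ξ ≤ 1 := WithBot.coe_le_coe.1 hle
  refine WithBot.coe_eq_coe.2 (le_antisymm hle' (Order.one_le_iff_ne_zero.2 fun h0 => hξ.1 ?_))
  have hmax : IsMax ξ := Order.coheight_eq_zero.1 h0
  have he : genericPoint S = ξ :=
    ((genericPoint_specializes ξ).antisymm (hmax (show ξ ≤ genericPoint S from genericPoint_specializes _))).eq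
  rw [← he]
  exact hbir

/-- Blowing down strictly decreases the number of exceptional curves. -/
theorem badPts_lt (hUne : (U : Set X).Nonempty) {S S₁ : Scheme.{u}} {π : S ⟶ X} (h : IsRes k sX U π)
    {π₁ : S₁ ⟶ X} (h₁ : IsRes k sX U π₁) {b : S ⟶ S₁} (hbπ : b ≫ π₁ = π) {E : S.IdealSheafData}
    (hE : letI : S.Over (Spec (CommRingCat.of k)) := ⟨π ≫ sX⟩; IsM1 k E)
    (hb : Models.IsContractionOf E.subschemeι b) : (badPts π₁).ncard < (badPts π).ncard := by
  classical
  letI : S.Over (Spec (CommRingCat.of k)) := ⟨π ≫ sX⟩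
  have hS := IsRes.isSurf k sX U h
  haveI := h.proper; haveI := h.int
  haveI := hS.proper; haveI := hS.smooth; haveI := hS.noeth k
  haveI := hE.curve.1
  obtain ⟨hN₁, hbP, P, hP, hbr, -, -, hB⟩ := id hb
  haveI := hN₁
  haveI := hbP
  haveI := PointBlow.isIso_off hP hB
  have hpre : ∀ w : badPts π₁, ∃ z : S, b z = w.1 := fun w => by
    obtain ⟨z, hz⟩ := (b ∣_ (⟨({P} : Set S₁)ᶜ, hP.isOpen_compl⟩ : S₁.Opens)).surjective
      ⟨w.1, fun e => w.2.2 (by rw [show w.1 = P from e]; exact hP)⟩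
    refine ⟨z.1, ?_⟩
    have := congrArg Subtype.val hz
    rwa [morphismRestrict_base_coe] at this
  choose g hg using hpre
  let η := E.subschemeι (genericPoint E.subscheme)
  have hηE : η ∈ (E.support : Set S) := E.range_subschemeι.le ⟨_, rfl⟩
  have hηc : ¬ IsClosed ({η} : Set S) := fun hc => by
    refine (curve_nontrivial k hE.curve).not_subsingleton ?_
    refine (Set.subsingleton_singleton (a := η)).anti fun z hz => ?_
    obtain ⟨c, rfl⟩ : z ∈ Set.range E.subschemeι := by rw [E.range_subschemeι]; exact hz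
    exact ((genericPoint_specializes c).map E.subschemeι.continuous).mem_closed hc rfl
  have hbη : b η = P := hbr.le ⟨_, rfl⟩
  have hη : η ∈ badPts π := by
    refine ⟨fun hiso => ?_, hηc⟩
    haveI := h.iso
    have hbir := bir_of_restrict π U hUne
    obtain ⟨W, hW, hOI⟩ := PurBir.exists_isOpenImmersion_of_isIso_stalkMap π hiso
    haveI := hOI
    have hval : ∀ e : E.subscheme, π (E.subschemeι e) = π₁ P := fun e => by
      rw [← hbπ, Scheme.Hom.comp_apply]
      exact congrArg π₁.base (hbr.le ⟨e, rfl⟩)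
    haveI : JacobsonSpace S := LocallyOfFiniteType.jacobsonSpace (S ↘ Spec (CommRingCat.of k))
    obtain ⟨p, ⟨hpE, hpW⟩, hpc⟩ := nonempty_inter_closedPoints
      (show ((E.support : Set S) ∩ W).Nonempty from ⟨η, hηE, hW⟩)
      (E.support.isClosed.isLocallyClosed.inter W.2.isLocallyClosed)
    obtain ⟨cp, rfl⟩ : p ∈ Set.range E.subschemeι := by rw [E.range_subschemeι]; exact hpE
    have he : (⟨E.subschemeι cp, hpW⟩ : W) = ⟨η, hW⟩ :=
      (W.ι ≫ π).isOpenEmbedding.injective (show π (E.subschemeι cp) = π η from (hval cp).trans (hval _).symm)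
    have he' : E.subschemeι cp = η := congrArg (fun w : (W : Set S) => (w : S)) he
    exact hηc (he' ▸ mem_closedPoints_iff.1 hpc)
  have hmaps : ∀ w : badPts π₁, g w ∈ badPts π \ {η} := fun w => by
    have hwP : b (g w) ≠ P := fun e => w.2.2 (by rw [← hg w, e]; exact hP)
    refine ⟨⟨fun hiso => ?_, fun hc => ?_⟩, fun e => hwP (by rw [show g w = η from e]; exact hbη)⟩
    · haveI := PointBlow.isIso_stalkMap_off hP hB hwP
      have h1 := hiso
      rw [Scheme.Hom.stalkMap_congr_hom _ _ hbπ.symm, Scheme.Hom.stalkMap_comp] at h1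
      have h2 : IsIso (π₁.stalkMap (b (g w)) ≫ b.stalkMap (g w)) :=
        (MorphismProperty.isomorphisms CommRingCat).cancel_left_of_respectsIso _ _ |>.1 h1
      exact w.2.1 (hg w ▸ IsIso.of_isIso_comp_right _ (b.stalkMap (g w)))
    · refine w.2.2 ?_
      rw [← hg w, ← Set.image_singleton]
      exact b.isClosedMap _ hc
  have hfin := badPts_finite k sX U h hUne
  have hle : (badPts π₁).ncard ≤ (badPts π \ {η}).ncard := by
    rw [← Nat.card_coe_set_eq, ← Nat.card_coe_set_eq]
    haveI : Finite ↥(badPts π \ {η}) := hfin.sdiff.to_subtype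
    exact Nat.card_le_card_of_injective (fun w => (⟨g w, hmaps w⟩ : ↥(badPts π \ {η})))
      fun w w' e => Subtype.ext (by rw [← hg w, ← hg w', show g w = g w' from congrArg Subtype.val e])
  exact hle.trans_lt (Set.ncard_sdiff_singleton_lt_of_mem hη hfin)

end Groth.Agent.SurfMin
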