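import Groth.Agent.SurfMin.Lift
import Groth.Agent.CDivEq.Basic

/-!
Blowing up a point: the exceptional line and the longer triangular family.
-/

set_option autoImplicit false
set_option linter.style.haveILetI false
set_option linter.unusedSectionVars false
set_option backward.isDefEq.respectTransparency false
set_option backward.isDefEq.respectTransparency.types false
set_option maxHeartbeats 800000

universe u

open CategoryTheory CategoryTheory.Limits AlgebraicGeometry TopologicalSpace Opposite IsLocalRing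
open LaurentPolynomial Groth.Agent.Synt29
open scoped nonZeroDivisors

noncomputable section

namespace Groth.Agent.SurfMin.Dlog

/-- Regular parameters on a two-dimensional regular local ring. -/
theorem exists_pair (R : Type u) [CommRing R] [IsRegularLocalRing R] (h2 : ringKrullDim R = 2) :
    ∃ f g : R, maximalIdeal R = Ideal.span {f, g} ∧ (Ideal.span {f}).IsPrime ∧ g ∉ Ideal.span {f} ∧
      (Ideal.span {g}).IsPrime ∧ f ∉ Ideal.span {g} := by
  classical
  have hn : (maximalIdeal R).spanFinrank = 2 := by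
    have := (isRegularLocalRing_iff R).mp ‹_›
    rw [h2] at this
    exact_mod_cast this
  have hfg := (maximalIdeal R).fg_of_isNoetherianRing
  obtain ⟨f, g, hne, hfg'⟩ := Set.ncard_eq_two.1 ((Submodule.FG.generators_ncard hfg).trans hn)
  have hm : maximalIdeal R = Ideal.span {f, g} := by rw [← hfg']; exact (maximalIdeal R).span_generators.symm
  have hle : ∀ x : R, x ∈ maximalIdeal R → ¬ maximalIdeal R ≤ Ideal.span {x} := fun x hx hle => by
    have he : maximalIdeal R = Ideal.span {x} := le_antisymm hle ((Ideal.span_singleton_le_iff_mem _).2 hx)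
    have : (maximalIdeal R).spanFinrank ≤ 1 := he ▸ (Submodule.spanFinrank_span_le_ncard_of_finite
      (Set.finite_singleton x)).trans (Set.ncard_singleton x).le
    omega
  have main : ∀ f g : R, maximalIdeal R = Ideal.span {f, g} → (Ideal.span {f}).IsPrime ∧ g ∉ Ideal.span {f} := by
    intro f g hm
    have hf : f ∈ maximalIdeal R := hm ▸ Ideal.subset_span (Set.mem_insert f _)
    have hg : g ∈ maximalIdeal R := hm ▸ Ideal.subset_span (Set.mem_insert_of_mem f rfl)
    have hgf : g ∉ Ideal.span {f} := fun h => hle f hf (by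
      rw [hm, Ideal.span_le, Set.insert_subset_iff]
      exact ⟨Ideal.mem_span_singleton_self f, Set.singleton_subset_iff.2 h⟩)
    refine ⟨?_, hgf⟩
    have hf2 : f ∉ maximalIdeal R ^ 2 := fun h => hle g hg (by
      refine Submodule.le_of_le_smul_of_le_jacobson_bot hfg (IsLocalRing.maximalIdeal_le_jacobson _) ?_
      rw [smul_eq_mul, ← sq]
      calc maximalIdeal R = Ideal.span {f, g} := hm
        _ ≤ _ := by
          rw [Ideal.span_le, Set.insert_subset_iff]
          exact ⟨Ideal.mem_sup_right h, Set.singleton_subset_iff.2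
            (Ideal.mem_sup_left (Ideal.mem_span_singleton_self g))⟩)
    haveI := RegLoc6.isLocalRing_quot hf
    haveI := (RegLoc6.isRegularLocalRing_quot_and hf hf2).1
    haveI := RegLoc6.isDomain_of_isRegularLocalRing (R ⧸ Ideal.span {f})
    exact (Ideal.Quotient.isDomain_iff_prime _).mp inferInstance
  exact ⟨f, g, hm, (main f g hm).1, (main f g hm).2, (main g f (hm.trans (by rw [Set.pair_comm]))).1,
    (main g f (hm.trans (by rw [Set.pair_comm]))).2⟩

/-- The chart of a blowing up of `(f, g)`. -/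
abbrev Chart {R : Type u} [CommRing R] (f g : R) : Type u :=
  Polynomial R ⧸ Ideal.span ({Polynomial.C f * Polynomial.X - Polynomial.C g} : Set (Polynomial R))

/-- The coordinate of the chart. -/
abbrev Chart.coord {R : Type u} [CommRing R] (f g : R) : Chart f g := Ideal.Quotient.mk _ Polynomial.X

/-- The constants of the chart. -/
abbrev Chart.base {R : Type u} [CommRing R] (f g : R) : R →+* Chart f g :=
  (Ideal.Quotient.mk _).comp Polynomial.C

theorem Chart.rel {R : Type u} [CommRing R] (f g : R) :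
    Chart.base f g f * Chart.coord f g = Chart.base f g g := by
  rw [RingHom.comp_apply, RingHom.comp_apply, ← map_mul, Ideal.Quotient.mk_eq_mk_iff_sub_mem]
  exact Ideal.mem_span_singleton_self _

theorem Chart.base_mem_nzd {R : Type u} [CommRing R] [IsDomain R] {f g : R} (hf : f ≠ 0)
    (hp : (Ideal.span {f}).IsPrime) (hg : g ∉ Ideal.span {f}) : Chart.base f g f ∈ (Chart f g)⁰ := by
  refine mem_nonZeroDivisors_iff_right.2 fun x hx => ?_
  obtain ⟨p, rfl⟩ := Ideal.Quotient.mk_surjective x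
  rw [RingHom.comp_apply, ← map_mul, Ideal.Quotient.eq_zero_iff_mem, Ideal.mem_span_singleton'] at hx
  obtain ⟨q, hq⟩ := hx
  have hq' : ∀ i, q.coeff i ∈ Ideal.span {f} := fun i => by
    have h := congrArg (Polynomial.map (Ideal.Quotient.mk (Ideal.span {f}))) hq
    have h0 : Ideal.Quotient.mk (Ideal.span {f}) f = 0 :=
      Ideal.Quotient.eq_zero_iff_mem.2 (Ideal.mem_span_singleton_self f)
    rw [Polynomial.map_mul, Polynomial.map_mul, Polynomial.map_sub, Polynomial.map_mul, Polynomial.map_C,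
      Polynomial.map_C, h0, map_zero, zero_mul, zero_sub, mul_zero, mul_neg, neg_eq_zero] at h
    have h1 := congrArg (fun r => Polynomial.coeff r i) h
    simp only [Polynomial.coeff_mul_C, Polynomial.coeff_map, Polynomial.coeff_zero] at h1
    haveI := (Ideal.Quotient.isDomain_iff_prime _).2 hp
    exact Ideal.Quotient.eq_zero_iff_mem.1 ((mul_eq_zero.1 h1).resolve_right
      fun h => hg (Ideal.Quotient.eq_zero_iff_mem.1 h))
  have hdvd : Polynomial.C f ∣ q :=
    (Polynomial.C_dvd_iff_dvd_coeff _ _).2 fun i => Ideal.mem_span_singleton.1 (hq' i)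
  obtain ⟨q', rfl⟩ := hdvd
  refine Ideal.Quotient.eq_zero_iff_mem.2 (Ideal.mem_span_singleton'.2 ⟨q', ?_⟩)
  refine mul_left_cancel₀ (Polynomial.C_ne_zero.2 hf) ?_
  linear_combination hq

theorem Chart.map_span {R : Type u} [CommRing R] (f g : R) :
    (Ideal.span {f, g}).map (Chart.base f g) = Ideal.span {Chart.base f g f} := by
  rw [Ideal.map_span, Set.image_pair]
  refine le_antisymm ?_ (Ideal.span_mono (by simp))
  rw [Ideal.span_le, Set.insert_subset_iff, Set.singleton_subset_iff]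
  exact ⟨Ideal.mem_span_singleton_self _, Ideal.mem_span_singleton.2 ⟨_, (Chart.rel f g).symm⟩⟩

variable {X : Scheme.{u}}

/-- A regular element of an affine ring stays regular on every open. -/
theorem cancel_res {A : CommRingCat.{u}} {d : A} (hd : d ∈ A⁰) {O : (Spec A).Opens} {x y : Γ(Spec A, O)}
    (h : x * res le_top ((Scheme.ΓSpecIso A).inv d) = y * res le_top ((Scheme.ΓSpecIso A).inv d)) : x = y := by
  refine TopCat.Presheaf.section_ext (Spec A).sheaf O x y fun z hz => ?_
  have hd' : (Scheme.ΓSpecIso A).inv d ∈ (Γ(Spec A, ⊤))⁰ := by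
    refine mem_nonZeroDivisors_iff_right.2 fun w hw => ?_
    have h2 := congrArg (Scheme.ΓSpecIso A).hom hw
    rw [map_mul, map_zero, Iso.inv_hom_id_apply] at h2
    exact (ConcreteCategory.bijective_of_isIso (Scheme.ΓSpecIso A).hom).1
      ((mem_nonZeroDivisors_iff_right.1 hd _ h2).trans (map_zero _).symm)
  have hgm := CDivEq.germ_mem_nonZeroDivisors (⟨⊤, isAffineOpen_top _⟩ : (Spec A).affineOpens) (x := z) trivial hd'
  have h' := congrArg ((Spec A).presheaf.germ O z hz) h
  rw [map_mul, map_mul, show (Spec A).presheaf.germ O z hz (res le_top ((Scheme.ΓSpecIso A).inv d)) =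
    (Spec A).presheaf.germ ⊤ z trivial ((Scheme.ΓSpecIso A).inv d) from
      (Spec A).presheaf.germ_res_apply _ _ _ _] at h'
  exact (mul_cancel_right_mem_nonZeroDivisors hgm).1 h'

/-- The cocycle of an effective Cartier ideal. -/
theorem exists_cocyc [IsIntegral X] [X.IsSeparated] {E : X.IdealSheafData} (hE : BlowUp.IsEffCartierIdeal E) :
    ∃ (C : Cocyc X) (hC : ∀ a, IsAffineOpen (C.U a)) (f : ∀ a, Γ(X, C.U a)),
      (∀ a, E.ideal ⟨C.U a, hC a⟩ = Ideal.span {f a}) ∧
        ∀ a b W (ha : W ≤ C.U a) (hb : W ≤ C.U b), C.g a b W ha hb * res hb (f b) = res ha (f a) := by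
  choose U hxU f hf hU using hE
  have hne : ∀ (a b : X) (W : X.Opens) (hb : W ≤ (U b).1), W.1.Nonempty → res hb (f b) ≠ 0 := by
    intro a b W hb hW h
    haveI : Nonempty (W : Scheme.{u}) := hW.to_subtype
    haveI : Nonempty ((U b).1 : Scheme.{u}) := ⟨⟨b, hxU b⟩⟩
    have := AlgebraicGeometry.map_injective_of_isIntegral X (homOfLE hb) (h.trans (map_zero _).symm)
    exact nonZeroDivisors.ne_zero (hf b) this
  have key : ∀ a b, ∃ w : Γ(X, (U a).1 ⊓ (U b).1), IsUnit w ∧
      w * res inf_le_right (f b) = res inf_le_left (f a) := by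
    intro a b
    have hA : IsAffineOpen ((U a).1 ⊓ (U b).1) := (U a).2.inf (U b).2
    have e1 := E.map_ideal (U := ⟨_, hA⟩) (V := U a) (show (U a).1 ⊓ (U b).1 ≤ (U a).1 from inf_le_left)
    have e2 := E.map_ideal (U := ⟨_, hA⟩) (V := U b) (show (U a).1 ⊓ (U b).1 ≤ (U b).1 from inf_le_right)
    rw [hU a, Ideal.map_span, Set.image_singleton] at e1
    rw [hU b, Ideal.map_span, Set.image_singleton, ← e1] at e2
    obtain ⟨w, hw⟩ := Ideal.mem_span_singleton'.1 (e2.ge (Ideal.mem_span_singleton_self _))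
    obtain ⟨w', hw'⟩ := Ideal.mem_span_singleton'.1 (e2.le (Ideal.mem_span_singleton_self _))
    refine ⟨w, ?_, hw⟩
    rcases Set.eq_empty_or_nonempty (((U a).1 ⊓ (U b).1 : X.Opens) : Set X) with he | hne'
    · haveI : Subsingleton Γ(X, (U a).1 ⊓ (U b).1) := by
        rw [show (U a).1 ⊓ (U b).1 = ⊥ from Opens.ext he]
        infer_instance
      exact isUnit_of_subsingleton w
    haveI : Nonempty (((U a).1 ⊓ (U b).1 : X.Opens) : Scheme.{u}) := hne'.to_subtype
    refine IsUnit.of_mul_eq_one w' (mul_right_cancel₀ (hne a b _ inf_le_right hne') ?_)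
    change w * res inf_le_right (f b) = res inf_le_left (f a) at hw
    change w' * res inf_le_left (f a) = res inf_le_right (f b) at hw'
    rw [one_mul, mul_comm w, mul_assoc, hw, hw']
  choose w hwu hw using key
  refine ⟨{ ι := X, U := fun a => (U a).1, cov := fun x => ⟨x, hxU x⟩
            g := fun a b W ha hb => res (le_inf ha hb) (w a b)
            unit := fun a b W ha hb => (hwu a b).map _
            natural := fun a b W W' ha hb h => res_res _ _ _
            mul := fun a b c W ha hb hc => ?_ }, fun a => (U a).2, f, hU, fun a b W ha hb => ?_⟩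
  swap
  · have := congrArg (res (le_inf ha hb)) (hw a b)
    rwa [map_mul, res_res, res_res] at this
  rcases Set.eq_empty_or_nonempty (W : Set X) with he | hne'
  · haveI : Subsingleton Γ(X, W) := by rw [show W = ⊥ from Opens.ext he]; infer_instance
    exact Subsingleton.elim _ _
  haveI : Nonempty (W : Scheme.{u}) := hne'.to_subtype
  refine mul_right_cancel₀ (hne a c W hc hne') ?_
  have h1 := congrArg (res (le_inf ha hb)) (hw a b)
  have h2 := congrArg (res (le_inf hb hc)) (hw b c)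
  have h3 := congrArg (res (le_inf ha hc)) (hw a c)
  rw [map_mul, res_res, res_res] at h1 h2 h3
  rw [mul_assoc, h2, h1, h3]

/-- Comparison of two generators of a pulled back ideal on an affine scheme. -/
theorem exists_units [X.IsSeparated] {A : Type u} [CommRing A] {d : A} (hd : d ∈ A⁰)
    {E : X.IdealSheafData} (l : Spec (CommRingCat.of A) ⟶ X)
    (hE : E.comap l = BlowUpLib.centre (Ideal.span {d})) {C : Cocyc X} (hC : ∀ a, IsAffineOpen (C.U a))
    (f : ∀ a, Γ(X, C.U a)) (hf : ∀ a, E.ideal ⟨C.U a, hC a⟩ = Ideal.span {f a})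
    (hg : ∀ a b W (ha : W ≤ C.U a) (hb : W ≤ C.U b), C.g a b W ha hb * res hb (f b) = res ha (f a)) :
    ∃ u : ∀ a, Γ(Spec (CommRingCat.of A), l ⁻¹ᵁ C.U a), (∀ a, IsUnit (u a)) ∧
      (∀ a, l.app _ (f a) = u a * res le_top (OmAff.toΓ A d)) ∧
      ∀ a b W (ha : W ≤ C.U a) (hb : W ≤ C.U b),
        l.app W (C.g a b W ha hb) * res ((Opens.map l.base).map (homOfLE hb)).le (u b) =
          res ((Opens.map l.base).map (homOfLE ha)).le (u a) := by
  have key : ∀ a, ∃ u : Γ(Spec (CommRingCat.of A), l ⁻¹ᵁ C.U a), IsUnit u ∧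
      l.app _ (f a) = u * res le_top (OmAff.toΓ A d) := fun a => by
    haveI : IsAffineHom l := IsAffineHom.of_comp l (terminal.from X)
    have hV : IsAffineOpen (l ⁻¹ᵁ C.U a) := (hC a).preimage l
    let V : (Spec (CommRingCat.of A)).affineOpens := ⟨_, hV⟩
    have e1 := ModPairLib.ideal_comap E l ⟨C.U a, hC a⟩ V le_rfl
    rw [hf a, Ideal.map_span, Set.image_singleton, hE] at e1
    have e2 := (BlowUpLib.centre (Ideal.span {d})).map_ideal (U := V) (V := ⟨⊤, isAffineOpen_top _⟩)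
      (show V.1 ≤ ⊤ from le_top)
    rw [BlowUpLib.centre_top, Ideal.map_map, Ideal.map_span, Set.image_singleton, e1] at e2
    have hfa : (l.appLE (C.U a) (l ⁻¹ᵁ C.U a) le_rfl) (f a) = l.app _ (f a) := by
      rw [Scheme.Hom.appLE_eq_app]
    have e3 : Ideal.span {res le_top (OmAff.toΓ A d)} = Ideal.span {l.app _ (f a)} := by
      rw [← hfa]; exact e2
    obtain ⟨u, hu⟩ := Ideal.mem_span_singleton'.1 (e3.ge (Ideal.mem_span_singleton_self _))
    obtain ⟨u', hu'⟩ := Ideal.mem_span_singleton'.1 (e3.le (Ideal.mem_span_singleton_self _))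
    refine ⟨u, IsUnit.of_mul_eq_one u' (cancel_res (A := CommRingCat.of A) hd ?_), hu.symm⟩
    show u * u' * res le_top (OmAff.toΓ A d) = 1 * res le_top (OmAff.toΓ A d)
    rw [one_mul, mul_comm u, mul_assoc, hu, hu']
  choose u huu hu using key
  refine ⟨u, huu, hu, fun a b W ha hb => cancel_res (A := CommRingCat.of A) hd ?_⟩
  have h := congrArg (l.app W) (hg a b W ha hb)
  rw [map_mul, show l.app W (res hb (f b)) = res ((Opens.map l.base).map (homOfLE hb)).le (l.app _ (f b)) from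
      res_app l hb _, show l.app W (res ha (f a)) = res ((Opens.map l.base).map (homOfLE ha)).le (l.app _ (f a)) from
      res_app l ha _, hu, hu, map_mul, map_mul, res_res, res_res] at h
  rw [mul_assoc]
  exact h

/-- The centre of a regular element is effective Cartier. -/
theorem isEffCartier_centre {B : Type u} [CommRing B] {d : B} (hd : d ∈ B⁰) :
    BlowUp.IsEffCartierIdeal (BlowUpLib.centre (Ideal.span {d})) := by
  refine fun x => ⟨⟨⊤, isAffineOpen_top _⟩, trivial, OmAff.toΓ _ d, ?_, ?_⟩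
  · refine mem_nonZeroDivisors_iff_right.2 fun w hw => ?_
    obtain ⟨w, rfl⟩ := OmegaStalk.toΓ_surjective _ w
    rw [← map_mul] at hw
    have := (ConcreteCategory.bijective_of_isIso (Scheme.ΓSpecIso _).inv).1 (hw.trans (map_zero _).symm)
    rw [mem_nonZeroDivisors_iff_right.1 hd _ this, map_zero]
  · rw [BlowUpLib.centre_top, Ideal.map_span, Set.image_singleton]

variable {k : Type u} [Field k]

/-- Trivializations from generators on a chart. -/
def trivOfUnits {A : Type u} [CommRing A] {C : Cocyc X} (l : Spec (CommRingCat.of A) ⟶ X)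
    (s : A1 k ⟶ Spec (CommRingCat.of A)) (u : ∀ a, Γ(Spec (CommRingCat.of A), l ⁻¹ᵁ C.U a))
    (hu : ∀ a, IsUnit (u a))
    (hr : ∀ a b W (ha : W ≤ C.U a) (hb : W ≤ C.U b),
      l.app W (C.g a b W ha hb) * res ((Opens.map l.base).map (homOfLE hb)).le (u b) =
        res ((Opens.map l.base).map (homOfLE ha)).le (u a)) : Triv C (s ≫ l) where
  v a := s.app (l ⁻¹ᵁ C.U a) (u a)
  unit a := (hu a).map (s.app (l ⁻¹ᵁ C.U a)).hom
  rel a b W ha hb := by
    have eb : s.app (l ⁻¹ᵁ W) (res ((Opens.map l.base).map (homOfLE hb)).le (u b)) =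
        res ((Opens.map (s ≫ l).base).map (homOfLE hb)).le (s.app (l ⁻¹ᵁ C.U b) (u b)) :=
      res_app s ((Opens.map l.base).map (homOfLE hb)).le (u b)
    have ea : s.app (l ⁻¹ᵁ W) (res ((Opens.map l.base).map (homOfLE ha)).le (u a)) =
        res ((Opens.map (s ≫ l).base).map (homOfLE ha)).le (s.app (l ⁻¹ᵁ C.U a) (u a)) :=
      res_app s ((Opens.map l.base).map (homOfLE ha)).le (u a)
    rw [← ea, ← eb, ← hr a b W ha hb, map_mul]
    rfl

theorem res_app_toΓ {A B : Type u} [CommRing A] [CommRing B] (φ : A →+* B) (x : A)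
    {V : (Spec (CommRingCat.of A)).Opens} {O : (Spec (CommRingCat.of B)).Opens}
    (hO : O ≤ Spec.map (CommRingCat.ofHom φ) ⁻¹ᵁ V) :
    res hO ((Spec.map (CommRingCat.ofHom φ)).app V (res le_top (OmAff.toΓ A x))) =
      res le_top (OmAff.toΓ B (φ x)) := by
  rw [← OmegaLib.appTop_SpecMap_toΓ]
  exact (congrArg (res hO) (res_app _ le_top _)).trans (res_res _ _ _)

/-- The degree of the exceptional cocycle on the line of the charts. -/
theorem deg_exc [X.IsSeparated] {sX : X ⟶ Spec (CommRingCat.of k)} {A0 A1' B : Type u} [CommRing A0] [CommRing A1']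
    [CommRing B] (φ0 : A0 →+* B) (φ1 : A1' →+* B) (ψ : B →+* LaurentPolynomial k) {d0 : A0} {d1 : A1'}
    (hd0 : d0 ∈ A0⁰) (hd1 : d1 ∈ A1'⁰) (hdB : φ0 d0 ∈ B⁰) (τ : B) (hτ : φ1 d1 = τ * φ0 d0) (hψτ : ψ τ = T 1)
    (ψ0 : A0 →+* Polynomial k) (ψi : A1' →+* Polynomial k) (h0 : ψ.comp φ0 = Polynomial.toLaurent.comp ψ0)
    (hi : ψ.comp φ1 = (flip k).toRingHom.comp ψi)
    (l0 : Spec (CommRingCat.of A0) ⟶ X) (li : Spec (CommRingCat.of A1') ⟶ X)
    (hq : Spec.map (CommRingCat.ofHom φ0) ≫ l0 = Spec.map (CommRingCat.ofHom φ1) ≫ li)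
    {E : X.IdealSheafData} (hE0 : E.comap l0 = BlowUpLib.centre (Ideal.span {d0}))
    (hEi : E.comap li = BlowUpLib.centre (Ideal.span {d1}))
    {C : Cocyc X} (hC : ∀ a, IsAffineOpen (C.U a))
    (f : ∀ a, Γ(X, C.U a)) (hf : ∀ a, E.ideal ⟨C.U a, hC a⟩ = Ideal.span {f a})
    (hg : ∀ a b W (ha : W ≤ C.U a) (hb : W ≤ C.U b), C.g a b W ha hb * res hb (f b) = res ha (f a))
    (ν : Line k sX) (hj0 : ν.j0 = Spec.map (CommRingCat.ofHom ψ0) ≫ l0)
    (hji : ν.ji = Spec.map (CommRingCat.ofHom ψi) ≫ li) : Deg C ν 1 := by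
  obtain ⟨u0, hu0, hf0', hr0⟩ := exists_units hd0 l0 hE0 hC f hf hg
  obtain ⟨ui, hui, hfi', hri⟩ := exists_units hd1 li hEi hC f hf hg
  obtain ⟨j0, ji, e0', ei', glue⟩ := ν
  change j0 = _ at hj0
  change ji = _ at hji
  subst hj0 hji
  refine ⟨trivOfUnits l0 _ u0 hu0 hr0, trivOfUnits li _ ui hui hri, fun a O e e' => ?_⟩
  let q0 := Spec.map (CommRingCat.ofHom φ0)
  let qi := Spec.map (CommRingCat.ofHom φ1)
  let sB : Gm k ⟶ Spec (CommRingCat.of B) := Spec.map (CommRingCat.ofHom ψ)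
  have hB0 : inc0 k ≫ Spec.map (CommRingCat.ofHom ψ0) = sB ≫ q0 := by
    simp only [inc0, sB, q0, ← Spec.map_comp, ← CommRingCat.ofHom_comp, h0]
    rfl
  have hBi : incInf k ≫ Spec.map (CommRingCat.ofHom ψi) = sB ≫ qi := by
    simp only [incInf, sB, qi, ← Spec.map_comp, ← CommRingCat.ofHom_comp, hi]
  let Ob := q0 ⁻¹ᵁ (l0 ⁻¹ᵁ C.U a)
  have hOb : Ob = qi ⁻¹ᵁ (li ⁻¹ᵁ C.U a) := by
    show (q0 ≫ l0) ⁻¹ᵁ C.U a = _
    rw [hq]; rfl
  have E0 := congrArg (fun x => res (le_refl Ob) (q0.app (l0 ⁻¹ᵁ C.U a) x)) (hf0' a)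
  have Ei := congrArg (fun x => res hOb.le (qi.app (li ⁻¹ᵁ C.U a) x)) (hfi' a)
  simp only [map_mul] at E0 Ei
  have key : res (le_refl Ob) (q0.app (l0 ⁻¹ᵁ C.U a) (u0 a)) =
      res le_top (OmAff.toΓ B τ) * res hOb.le (qi.app (li ⁻¹ᵁ C.U a) (ui a)) := by
    refine cancel_res (A := CommRingCat.of B) hdB ?_
    rw [res_app_toΓ φ0 d0] at E0
    rw [res_app_toΓ φ1 d1, hτ, map_mul, map_mul] at Ei
    have hfa : res (le_refl Ob) (q0.app (l0 ⁻¹ᵁ C.U a) (l0.app (C.U a) (f a))) =
        res hOb.le (qi.app (li ⁻¹ᵁ C.U a) (li.app (C.U a) (f a))) :=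
      res_app_congr hq (U := C.U a) (O := Ob) (le_refl Ob) hOb.le (f a)
    show _ * res le_top (OmAff.toΓ B (φ0 d0)) = _ * res le_top (OmAff.toΓ B (φ0 d0))
    rw [← E0, hfa, Ei]
    ring
  have hO : O ≤ sB ⁻¹ᵁ Ob := e.trans (le_of_eq (show
    (inc0 k ≫ Spec.map (CommRingCat.ofHom ψ0)) ⁻¹ᵁ (l0 ⁻¹ᵁ C.U a) = sB ⁻¹ᵁ Ob by rw [hB0]; rfl))
  have hk := congrArg (fun x => res hO (sB.app Ob x)) key
  simp only [map_mul] at hk
  show res e ((inc0 k).app _ ((Spec.map (CommRingCat.ofHom ψ0)).app _ (u0 a))) =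
    _ * res e' ((incInf k).app _ ((Spec.map (CommRingCat.ofHom ψi)).app _ (ui a)))
  have hl : res hO (sB.app Ob (res (le_refl Ob) (q0.app (l0 ⁻¹ᵁ C.U a) (u0 a)))) =
      res hO (sB.app Ob (q0.app (l0 ⁻¹ᵁ C.U a) (u0 a))) :=
    (congrArg (res hO) (res_app sB (le_refl Ob) _)).trans (res_res _ _ _)
  refine (((res_app_congr hB0 (U := l0 ⁻¹ᵁ C.U a) e hO (u0 a)).trans hl.symm).trans hk).trans (congrArg₂ (· * ·) ?_ ?_)
  · rw [res_app_toΓ ψ τ hO, hψτ]
  · refine ((congrArg (res hO) (res_app sB hOb.le _)).trans (res_res _ _ _)).trans ?_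
    exact (res_app_congr hBi (U := li ⁻¹ᵁ C.U a) e' _ (ui a)).symm

/-- The map of a chart to the affine line. -/
def chartPsi {R : Type u} [CommRing R] (χ : R →+* k) (f g : R) (hf : χ f = 0) (hg : χ g = 0) :
    Chart f g →+* Polynomial k :=
  Ideal.Quotient.lift _ (Polynomial.mapRingHom χ) fun x hx => by
    obtain ⟨q, rfl⟩ := Ideal.mem_span_singleton'.1 hx
    rw [map_mul, map_sub, map_mul]
    simp [Polynomial.coe_mapRingHom, hf, hg]

theorem chartPsi_base {R : Type u} [CommRing R] (χ : R →+* k) (f g : R) (hf : χ f = 0) (hg : χ g = 0) (a : R) :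
    chartPsi χ f g hf hg (Chart.base f g a) = Polynomial.C (χ a) := Polynomial.map_C _

theorem chartPsi_coord {R : Type u} [CommRing R] (χ : R →+* k) (f g : R) (hf : χ f = 0) (hg : χ g = 0) :
    chartPsi χ f g hf hg (Chart.coord f g) = Polynomial.X := Polynomial.map_X _

/-- The overlap of the two charts. -/
theorem exists_overlap {R : Type u} [CommRing R] [IsDomain R] (χ : R →+* k) {f g : R} (hf0 : f ≠ 0)
    (hpf : (Ideal.span {f}).IsPrime) (hgf : g ∉ Ideal.span {f}) (hf : χ f = 0) (hg : χ g = 0) :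
    ∃ (B : Type u) (_ : CommRing B) (φ0 : Chart f g →+* B) (φ1 : Chart g f →+* B)
      (ψ : B →+* LaurentPolynomial k) (τ : B),
      φ0 (Chart.base f g f) ∈ B⁰ ∧ φ1.comp (Chart.base g f) = φ0.comp (Chart.base f g) ∧
      φ1 (Chart.base g f g) = τ * φ0 (Chart.base f g f) ∧ ψ τ = T 1 ∧
      ψ.comp φ0 = Polynomial.toLaurent.comp (chartPsi χ f g hf hg) ∧
      ψ.comp φ1 = (flip k).toRingHom.comp (chartPsi χ g f hg hf) := by
  let B := Localization.Away (Chart.coord f g)
  let loc : Chart f g →+* B := algebraMap _ _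
  have hu : IsUnit (loc (Chart.coord f g)) := IsLocalization.Away.algebraMap_isUnit _
  let β : R →+* B := loc.comp (Chart.base f g)
  have hgτ : β g = β f * loc (Chart.coord f g) := by
    show loc (Chart.base f g g) = loc (Chart.base f g f) * loc (Chart.coord f g)
    exact (congrArg loc (Chart.rel f g)).symm.trans (map_mul loc _ _)
  let ε : Chart g f →+* B := Ideal.Quotient.lift _ (Polynomial.eval₂RingHom β (↑hu.unit⁻¹)) fun x hx => by
    obtain ⟨q, rfl⟩ := Ideal.mem_span_singleton'.1 hx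
    rw [map_mul, map_sub, map_mul]
    simp only [Polynomial.coe_eval₂RingHom, Polynomial.eval₂_C, Polynomial.eval₂_X]
    rw [hgτ, mul_assoc (β f), IsUnit.mul_val_inv, mul_one, sub_self, mul_zero]
  have hεb : ε.comp (Chart.base g f) = β := RingHom.ext fun x => Polynomial.eval₂_C _ _
  have hnzd : β f ∈ B⁰ := IsLocalization.map_nonZeroDivisors_le (Submonoid.powers (Chart.coord f g)) B
    ⟨_, Chart.base_mem_nzd hf0 hpf hgf, rfl⟩
  let ψ : B →+* LaurentPolynomial k := IsLocalization.Away.lift (Chart.coord f g)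
    (g := Polynomial.toLaurent.comp (chartPsi χ f g hf hg)) (by
      rw [RingHom.comp_apply, chartPsi_coord, Polynomial.toLaurent_X]
      exact isUnit_T 1)
  have hψ : ∀ x, ψ (loc x) = Polynomial.toLaurent (chartPsi χ f g hf hg x) := fun x =>
    IsLocalization.Away.lift_eq _ _ x
  have hψτ : ψ (loc (Chart.coord f g)) = T 1 := by
    rw [hψ, chartPsi_coord, Polynomial.toLaurent_X]
  refine ⟨B, inferInstance, loc, ε, ψ, loc (Chart.coord f g), hnzd, hεb, ?_, hψτ, RingHom.ext hψ, ?_⟩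
  · rw [← RingHom.comp_apply ε, hεb, hgτ]
    exact mul_comm _ _
  refine Ideal.Quotient.ringHom_ext (Polynomial.ringHom_ext (fun a => ?_) ?_)
  · show ψ (ε (Chart.base g f a)) = flip k (chartPsi χ g f hg hf (Chart.base g f a))
    rw [← RingHom.comp_apply ε, hεb]
    show ψ (loc (Chart.base f g a)) = _
    rw [hψ, chartPsi_base, chartPsi_base, Polynomial.toLaurent_C, LaurentPolynomial.C_eq_algebraMap]
    exact ((flip k).commutes _).symm
  · show ψ (ε (Chart.coord g f)) = flip k (chartPsi χ g f hg hf (Chart.coord g f))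
    rw [chartPsi_coord, flip, Polynomial.aeval_X, show ε (Chart.coord g f) = ↑hu.unit⁻¹ from Polynomial.eval₂_X _ _]
    refine (isUnit_T (R := k) 1).mul_left_cancel ?_
    rw [← hψτ, ← map_mul, IsUnit.mul_val_inv, map_one, hψτ, ← T_add, add_neg_cancel, T_zero]

variable {Y : Scheme.{u}} (b : X ⟶ Y) {P : Y} (hP : IsClosed ({P} : Set Y))
  (hb : BlowUp.IsBlowUp b (PointBlow.pt hP))

include hb in
theorem exists_chart_lift [IsDomain (Y.presheaf.stalk P)] {f g : Y.presheaf.stalk P}
    (hm : maximalIdeal _ = Ideal.span {f, g}) (hf : f ≠ 0) (hp : (Ideal.span {f}).IsPrime)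
    (hg : g ∉ Ideal.span {f}) :
    ∃ l : Spec (CommRingCat.of (Chart f g)) ⟶ X,
      l ≫ b = Spec.map (CommRingCat.ofHom (Chart.base f g)) ≫ Y.fromSpecStalk P ∧
      ((PointBlow.pt hP).comap b).comap l = BlowUpLib.centre (Ideal.span {Chart.base f g f}) := by
  let G := Spec.map (CommRingCat.ofHom (Chart.base f g)) ≫ Y.fromSpecStalk P
  have hG : (PointBlow.pt hP).comap G = BlowUpLib.centre (Ideal.span {Chart.base f g f}) := by
    rw [Scheme.IdealSheafData.comap_comp, Contraction7.comap_fromSpecStalk hP]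
    refine (RegBlow6.comap_centre_specMap (Chart.base f g) _).trans ?_
    rw [hm, Chart.map_span]
  obtain ⟨l, hl, -⟩ := hb.2 _ G (hG ▸ isEffCartier_centre (Chart.base_mem_nzd hf hp hg))
  exact ⟨l, hl, by rw [← Scheme.IdealSheafData.comap_comp, hl, hG]⟩

include hb in
/-- The exceptional line and cocycle. -/
theorem exists_exc_line [IsAlgClosed k] [IsIntegral X] [X.IsSeparated] {sY : Y ⟶ Spec (CommRingCat.of k)}
    [LocallyOfFiniteType sY]
    [IsRegularLocalRing (Y.presheaf.stalk P)] (h2 : ringKrullDim (Y.presheaf.stalk P) = 2) :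
    ∃ (C : Cocyc X) (ν : Line k (b ≫ sY)), Deg C ν 1 ∧ (∀ x, b (ν.j0 x) = P) ∧ ∀ x, b (ν.ji x) = P := by
  haveI : IsDomain (Y.presheaf.stalk P) := RegLoc6.isDomain_of_isRegularLocalRing _
  obtain ⟨f, g, hm, hpf, hgf, hpg, hfg⟩ := exists_pair _ h2
  have hf0 : f ≠ 0 := fun h => hfg (h ▸ zero_mem _)
  have hg0 : g ≠ 0 := fun h => hgf (h ▸ zero_mem _)
  obtain ⟨l0, hl0, hE0⟩ := exists_chart_lift b hP hb hm hf0 hpf hgf
  obtain ⟨li, hli, hEi⟩ := exists_chart_lift b hP hb (hm.trans (by rw [Set.pair_comm])) hg0 hpg hfg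
  let χ : Y.presheaf.stalk P →+* k := (Y.residue P ≫ (residueFieldIsoBase sY P hP).hom).hom
  let y : Spec (CommRingCat.of k) ⟶ Y := Spec.map (CommRingCat.ofHom χ) ≫ Y.fromSpecStalk P
  have hy : y = pointOfClosedPoint sY P hP := by
    rw [pointOfClosedPoint, Scheme.fromSpecResidueField]
    exact (congrArg (· ≫ Y.fromSpecStalk P) (Spec.map_comp _ _)).trans (Category.assoc _ _ _)
  have hys : y ≫ sY = 𝟙 _ := hy ▸ pointOfClosedPoint_comp sY P hP
  have hym : ∀ z, y z = P := fun z => hy ▸ pointOfClosedPoint_apply sY P hP z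
  have hχ0 : ∀ x ∈ maximalIdeal (Y.presheaf.stalk P), χ x = 0 := fun x hx => by
    show (residueFieldIsoBase sY P hP).hom (Y.residue P x) = 0
    rw [show Y.residue P x = 0 from (IsLocalRing.residue_eq_zero_iff x).2 hx, map_zero]
  have hf : χ f = 0 := hχ0 f (hm ▸ Ideal.subset_span (Set.mem_insert f _))
  have hg : χ g = 0 := hχ0 g (hm ▸ Ideal.subset_span (Set.mem_insert_of_mem f rfl))
  have hs : ∀ (f g : Y.presheaf.stalk P) (hf : χ f = 0) (hg : χ g = 0),
      Spec.map (CommRingCat.ofHom (chartPsi χ f g hf hg)) ≫ Spec.map (CommRingCat.ofHom (Chart.base f g)) ≫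
        Y.fromSpecStalk P = sA1 k ≫ y := by
    intro f g hf hg
    simp only [y, sA1, OmegaLib.sMap, ← Spec.map_comp_assoc]
    exact congrArg (· ≫ _) (congrArg (fun r => Spec.map r)
      (CommRingCat.hom_ext (RingHom.ext fun x => chartPsi_base χ f g hf hg x)))
  obtain ⟨B, iB, φ0, φ1, ψ, τ, hd, hφ, hτ, hψτ, h0, hi⟩ := exists_overlap χ hf0 hpf hgf hf hg
  have hq : Spec.map (CommRingCat.ofHom φ0) ≫ l0 = Spec.map (CommRingCat.ofHom φ1) ≫ li := by
    let G := Spec.map (CommRingCat.ofHom (φ0.comp (Chart.base f g))) ≫ Y.fromSpecStalk P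
    have e0 : (Spec.map (CommRingCat.ofHom φ0) ≫ l0) ≫ b = G := by
      rw [Category.assoc, hl0, ← Spec.map_comp_assoc]; rfl
    have e1 : (Spec.map (CommRingCat.ofHom φ1) ≫ li) ≫ b = G := by
      rw [Category.assoc, hli, ← Spec.map_comp_assoc, ← CommRingCat.ofHom_comp, hφ]
    have hc : BlowUp.IsEffCartierIdeal ((PointBlow.pt hP).comap G) := by
      rw [← e0, Scheme.IdealSheafData.comap_comp, Scheme.IdealSheafData.comap_comp, hE0,
        RegBlow6.comap_centre_specMap, Ideal.map_span, Set.image_singleton]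
      exact isEffCartier_centre hd
    exact (hb.2 _ G hc).unique e0 e1
  let s0 : A1 k ⟶ _ := Spec.map (CommRingCat.ofHom (chartPsi χ f g hf hg))
  let si : A1 k ⟶ _ := Spec.map (CommRingCat.ofHom (chartPsi χ g f hg hf))
  have hb0 : (s0 ≫ l0) ≫ b = sA1 k ≫ y := by rw [Category.assoc, hl0]; exact hs f g hf hg
  have hbi : (si ≫ li) ≫ b = sA1 k ≫ y := by rw [Category.assoc, hli]; exact hs g f hg hf
  have hB0 : inc0 k ≫ s0 = Spec.map (CommRingCat.ofHom ψ) ≫ Spec.map (CommRingCat.ofHom φ0) := by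
    simp only [inc0, s0, ← Spec.map_comp, ← CommRingCat.ofHom_comp, h0]
    rfl
  have hBi : incInf k ≫ si = Spec.map (CommRingCat.ofHom ψ) ≫ Spec.map (CommRingCat.ofHom φ1) := by
    simp only [incInf, si, ← Spec.map_comp, ← CommRingCat.ofHom_comp, hi]
  let νE : Line k (b ≫ sY) :=
    { j0 := s0 ≫ l0
      ji := si ≫ li
      h0 := by rw [← Category.assoc, hb0, Category.assoc, hys, Category.comp_id]
      hi := by rw [← Category.assoc, hbi, Category.assoc, hys, Category.comp_id]
      glue := by rw [← Category.assoc, hB0, ← Category.assoc, hBi, Category.assoc, Category.assoc, hq] }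
  obtain ⟨C, hC, fE, hfE, hgE⟩ := exists_cocyc hb.1
  refine ⟨C, νE, deg_exc φ0 φ1 ψ (Chart.base_mem_nzd hf0 hpf hgf) (Chart.base_mem_nzd hg0 hpg hfg) hd τ hτ hψτ
    _ _ h0 hi l0 li hq hE0 hEi hC fE hfE hgE νE rfl rfl, fun x => ?_, fun x => ?_⟩
  · show b ((s0 ≫ l0) x) = P
    rw [← Scheme.Hom.comp_apply, hb0, Scheme.Hom.comp_apply, hym]
  · show b ((si ≫ li) x) = P
    rw [← Scheme.Hom.comp_apply, hbi, Scheme.Hom.comp_apply, hym]

include hb in
/-- A blowing up of a closed point gives one more member. -/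
theorem wit_succ [IsAlgClosed k] [IsIntegral X] [IsLocallyNoetherian Y] {sY : Y ⟶ Spec (CommRingCat.of k)}
    [IsProper sY] [IsProper b] [IsRegularLocalRing (Y.presheaf.stalk P)]
    (h2 : ringKrullDim (Y.presheaf.stalk P) = 2) {n : ℕ} (h : Wit sY n) : Wit (b ≫ sY) (n + 1) := by
  haveI : Y.IsSeparated := ⟨by rw [← terminal.comp_from sY]; infer_instance⟩
  haveI : X.IsSeparated := ⟨by rw [← terminal.comp_from b]; infer_instance⟩
  haveI := PointBlow.isIso_off hP hb
  obtain ⟨C, ν, h1, h0⟩ := h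
  have hν : ∀ i, (ν i).j0 (genericPoint (A1 k)) ∈ (⟨{P}ᶜ, hP.isOpen_compl⟩ : Y.Opens) := fun i hi =>
    (h1 i).not_isClosed (by rw [Set.mem_singleton_iff.1 hi]; exact hP)
  choose ν' e0 ei using fun i => exists_line_lift b _ (ν i) (hν i)
  obtain ⟨CE, νE, hE, hE0, hEi⟩ := exists_exc_line (k := k) b hP hb (sY := sY) h2
  refine ⟨Fin.cases CE fun i => (C i).pull b, Fin.cases νE ν', ?_, ?_⟩
  · exact Fin.cases hE fun i => (h1 i).pull (e0 i) (ei i)
  · refine Fin.cases (fun l hl => ?_) fun i => Fin.cases (fun h => absurd h (Fin.not_lt_zero _)) fun l hl =>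
      (h0 i l (Fin.succ_lt_succ_iff.1 hl)).pull (e0 i) (ei i)
    revert hl
    refine Fin.cases (fun h => absurd h (lt_irrefl _)) (fun l _ => ?_) l
    obtain ⟨a0, ha0⟩ := (C l).cov P
    exact (deg_const (C l) (νE.map b rfl) a0
      (eq_top_iff.2 fun x _ => by show b (νE.j0 x) ∈ (C l).U a0; rw [hE0]; exact ha0)
      (eq_top_iff.2 fun x _ => by show b (νE.ji x) ∈ (C l).U a0; rw [hEi]; exact ha0)).pull rfl rfl

end Groth.Agent.SurfMin.Dlog
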