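import Groth.Agent.SurfMin.Seq
import Groth.Agent.SurfSeq.Main
import Groth.Agent.MinModel.Extend
import Groth.Agent.Sol.Regular
import Groth.Agent.ProjNorm6.Basic
import Groth.Agent.S7307
import Groth.Agent.S7315

/-!
Minimal resolutions of normal surfaces over an algebraically closed field.
-/

set_option autoImplicit false
set_option linter.style.haveILetI false
set_option linter.unusedSectionVars false
set_option backward.isDefEq.respectTransparency false
set_option backward.isDefEq.respectTransparency.types false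
set_option maxHeartbeats 800000

universe u

open CategoryTheory CategoryTheory.Limits AlgebraicGeometry TopologicalSpace
open Groth.Agent.H23

noncomputable section

namespace Groth.Agent.SurfMin

open Groth.Agent

attribute [local instance] PicMul.clMonoid

/-- A morphism that is an isomorphism over a nonempty open is birational. -/
theorem bir_of_restrict {S X : Scheme.{u}} [IsIntegral S] [IsIntegral X] (π : S ⟶ X) (U : X.Opens)
    [IsIso (π ∣_ U)] (hU : (U : Set X).Nonempty) : IsIso (π.stalkMap (genericPoint S)) := by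
  haveI : IsOpenImmersion ((π ⁻¹ᵁ U).ι ≫ π) := by
    rw [← morphismRestrict_ι]; infer_instance
  obtain ⟨v, hv⟩ := hU
  exact PurBir.isIso_stalkMap_of_mem π
    (PurBir.genericPoint_mem ⟨(inv (π ∣_ U) ⟨v, hv⟩).1, (inv (π ∣_ U) ⟨v, hv⟩).2⟩)

/-- The regular locus of an integral scheme contains the generic point. -/
theorem regular_nonempty {X : Scheme.{u}} [IsIntegral X] [IsLocallyNoetherian X] (hn : Pi1.IsNormalScheme X)
    (U : X.Opens) (hU : ∀ x : X, x ∈ U ↔ IsRegularLocalRing (X.presheaf.stalk x)) : (U : Set X).Nonempty := by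
  refine ⟨genericPoint X, (hU _).2 ?_⟩
  haveI := (hn (genericPoint X)).1
  haveI := (hn (genericPoint X)).2
  refine ProjNorm6.isRegularLocalRing_of_dim_le_one _ ?_
  rw [ringKrullDim_stalk_eq_coheight, Order.coheight_eq_zero.2 fun z _ => genericPoint_specializes z]
  exact zero_le_one

variable (k : Type u) [Field k] [IsAlgClosed k]

/-- A curve of the first kind on a smooth proper surface can be contracted to a smooth proper surface. -/
theorem exists_contraction {S : Scheme.{u}} [S.Over (Spec (CommRingCat.of k))] (hS : IsSurf k S)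
    {E : S.IdealSheafData} (hE : IsM1 k E) :
    ∃ (S₁ : Scheme.{u}) (_ : S₁.Over (Spec (CommRingCat.of k))) (b : S ⟶ S₁),
      b ≫ (S₁ ↘ Spec (CommRingCat.of k)) = S ↘ Spec (CommRingCat.of k) ∧ IsSurf k S₁ ∧
        Models.IsContractionOf E.subschemeι b := by
  haveI := hS.proper; haveI := hS.smooth; haveI := hS.int
  haveI := hS.noeth k
  obtain ⟨H, hH⟩ := SurfAdj.exists_ample k hS.dim
  obtain ⟨N, hN⟩ := exists_inverse k hS.dim hE.curve
  have hexc := isExcCurve_of_m1 k hS.dim hE
  obtain ⟨S₁, b, g, hb, hbg, hg, -⟩ := S7315.result k (S ↘ Spec (CommRingCat.of k)) H hH E.subschemeι hexc N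
    (by rw [Scheme.IdealSheafData.ker_subschemeι]; exact hN)
  letI : S₁.Over (Spec (CommRingCat.of k)) := ⟨g⟩
  obtain ⟨hN₁, hbP, P, hP, hrange, hPreg, hPdim, hB⟩ := id hb
  haveI := hN₁; haveI := hbP
  haveI := hg
  haveI : IsProper (S₁ ↘ Spec (CommRingCat.of k)) := hg
  haveI := PointBlow.isIso_off hP hB
  have hsurj : Function.Surjective b := fun w => by
    by_cases hw : w = P
    · obtain ⟨a, ha⟩ := hrange.ge (Set.mem_singleton P)
      exact ⟨E.subschemeι a, by rw [hw]; exact ha⟩
    obtain ⟨v, hv⟩ := (b ∣_ (⟨({P} : Set S₁)ᶜ, hP.isOpen_compl⟩ : S₁.Opens)).surjective ⟨w, hw⟩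
    refine ⟨v.1, ?_⟩
    have := congrArg Subtype.val hv
    rwa [morphismRestrict_base_coe] at this
  have hreg : ∀ w : S₁, IsRegularLocalRing (S₁.presheaf.stalk w) := fun w => by
    by_cases hw : w = P
    · exact hw ▸ hPreg
    obtain ⟨z, rfl⟩ := hsurj w
    haveI := PointBlow.isIso_stalkMap_off hP hB hw
    haveI := hS.regular k z
    exact IsRegularLocalRing.of_ringEquiv (asIso (b.stalkMap z)).symm.commRingCatIsoToRingEquiv
  haveI : IrreducibleSpace S₁ := by
    refine (irreducibleSpace_def S₁).2 ?_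
    show IsIrreducible (Set.univ : Set S₁)
    rw [← hsurj.range_eq, ← Set.image_univ]
    exact (IrreducibleSpace.isIrreducible_univ S).image _ b.continuous.continuousOn
  haveI : AlgebraicGeometry.IsReduced S₁ := by
    haveI : ∀ w : S₁, _root_.IsReduced (S₁.presheaf.stalk w) := fun w => by
      haveI := hreg w
      haveI : IsDomain (S₁.presheaf.stalk w) := RegLoc6.isDomain_of_isRegularLocalRing _
      infer_instance
    exact isReduced_of_isReduced_stalk S₁
  haveI : IsIntegral S₁ := isIntegral_of_irreducibleSpace_of_isReduced S₁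
  have hbir : IsIso (b.stalkMap (genericPoint S)) := by
    have hne : genericPoint S₁ ≠ P := fun h => by
      have h2 : Order.coheight P = 2 :=
        WithBot.coe_eq_coe.1 (((ringKrullDim_stalk_eq_coheight P).symm.trans hPdim).trans (by rfl))
      have h0 : Order.coheight P = 0 := Order.coheight_eq_zero.2 fun w _ => show w ≤ P from
        h ▸ genericPoint_specializes w
      exact absurd (h2.symm.trans h0) (by decide)
    exact bir_of_restrict b (⟨({P} : Set S₁)ᶜ, hP.isOpen_compl⟩ : S₁.Opens) ⟨genericPoint S₁, hne⟩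
  exact ⟨S₁, ⟨g⟩, b, hbg, ⟨hg, CurveCohLib.RegularCurve.smooth_of_regular k fun w _ => hreg w, inferInstance,
    (dim_eq_of_birational k b g hbir).symm.trans hS.dim⟩, hb⟩

variable {X : Scheme.{u}} (sX : X ⟶ Spec (CommRingCat.of k)) [IsProper sX] [IsIntegral X]
  (hdimX : topologicalKrullDim X = 2) (hn : Pi1.IsNormalScheme X)
  {S : Scheme.{u}} (π : S ⟶ X) [IsProper π] [IsIntegral S]

include hn hdimX in
/-- A morphism to a surface without contracted curves of the first kind descends along contractions. -/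
theorem descend [S.Over (Spec (CommRingCat.of k))] (hover : S ↘ Spec (CommRingCat.of k) = π ≫ sX) (hS : IsSurf k S)
    (hbirπ : IsIso (π.stalkMap (genericPoint S)))
    (hno : ∀ E : S.IdealSheafData, IsM1 k E → ¬ ∃ x : X, π.base '' (E.support : Set S) = {x})
    {Y' Y : Scheme.{u}} {r : Y' ⟶ Y} (hr : Models.IsContractionSeq r) :
    ∀ [Y.Over (Spec (CommRingCat.of k))] [IsIntegral Y], IsSurf k Y → ∀ (φ : Y ⟶ X),
      φ ≫ sX = Y ↘ Spec (CommRingCat.of k) → IsProper φ → IsIso (φ.stalkMap (genericPoint Y)) →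
      ∀ c : Y' ⟶ S, c ≫ π = r ≫ φ → ∃ u : Y ⟶ S, u ≫ π = φ := by
  induction hr with
  | @iso Y' Y e =>
    intro _ _ _ φ _ _ _ c hc
    exact ⟨e.inv ≫ c, by rw [Category.assoc, hc, Iso.inv_hom_id_assoc]⟩
  | @step Y' V Y G ι b r hι hG hb hr ih =>
    intro _ _ hY φ hφk hφP hφbir c hc
    haveI := hY.proper; haveI := hY.smooth; haveI := hY.noeth k
    letI : Y'.Over (Spec (CommRingCat.of k)) := ⟨(b ≫ r) ≫ (Y ↘ Spec (CommRingCat.of k))⟩
    letI : V.Over (Spec (CommRingCat.of k)) := ⟨r ≫ (Y ↘ Spec (CommRingCat.of k))⟩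
    obtain ⟨hY', hbrP, hbrbir⟩ := surf_of_seq k (Models.IsContractionSeq.step ι b r hι hG hb hr) rfl hY
    obtain ⟨hV, hrP, -⟩ := surf_of_seq k hr rfl hY
    haveI := hY'.proper; haveI := hY'.smooth; haveI := hY'.int; haveI := hY'.noeth k
    haveI := hV.proper; haveI := hV.smooth; haveI := hV.int
    haveI := hbrP; haveI := hφP
    haveI := hS.proper; haveI := hS.smooth; haveI := hS.noeth k
    obtain ⟨-, -, P, hP, hrange, -, -, hπb⟩ := id hb
    have hoverb : Y' ↘ Spec (CommRingCat.of k) = b ≫ (V ↘ Spec (CommRingCat.of k)) := Category.assoc b r _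
    obtain ⟨-, -, hII⟩ := SurfRows.blowPt_exc k P hP b hoverb hπb hV.dim hY'.dim
    obtain ⟨hIint, hId, hIe⟩ := SurfRows.blowPt_curve k P hP b hoverb hπb hV.dim
    set I := BlowUp.exceptional b (Scheme.IdealSheafData.vanishingIdeal ⟨{P}, hP⟩) with hIdef
    have hIc : IsCurve I := ⟨hIint, hId⟩
    have hec : ec k I = 1 := (ec_eq k I).trans hIe
    haveI : IsProper (c ≫ π) := by rw [hc]; infer_instance
    haveI : IsProper c := IsProper.of_comp c π
    have hcbir : IsIso (c.stalkMap (genericPoint Y')) := by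
      have h1 : IsIso (((b ≫ r) ≫ φ).stalkMap (genericPoint Y')) := by
        rw [Scheme.Hom.stalkMap_comp]
        haveI := hbrbir
        haveI : IsIso (φ.stalkMap ((b ≫ r) (genericPoint Y'))) := by
          rw [SurfSeq.map_generic (b ≫ r) hbrbir]; exact hφbir
        infer_instance
      have hgc : c (genericPoint Y') = genericPoint S := by
        have h2 : π (c (genericPoint Y')) = genericPoint X := by
          rw [← Scheme.Hom.comp_apply, hc]
          exact SurfSeq.map_generic _ h1
        obtain ⟨W, hW, hOI⟩ := SurfSeq.exists_open π hbirπ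
        haveI := hOI
        refine VarDim.eq_of_specializes_of_deg_le (p := π ≫ sX) (genericPoint_specializes (c (genericPoint Y'))) ?_ |>.symm
        have e1 := VarDim.deg_comp_eq π sX (c (genericPoint Y'))
        rw [h2] at e1
        have e2 : topologicalKrullDim S = topologicalKrullDim X := dim_eq_of_birational k π sX hbirπ
        rw [VarDim.topologicalKrullDim_eq_deg_genericPoint (π ≫ sX),
          VarDim.topologicalKrullDim_eq_deg_genericPoint sX] at e2
        have e3 : VarDim.deg (π ≫ sX) (genericPoint S) = VarDim.deg sX (genericPoint X) := by exact_mod_cast e2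
        omega
      rw [Scheme.Hom.stalkMap_congr_hom _ _ hc.symm, Scheme.Hom.stalkMap_comp] at h1
      haveI : IsIso (π.stalkMap (c (genericPoint Y'))) := by rw [hgc]; exact hbirπ
      have h3 : IsIso (π.stalkMap (c (genericPoint Y')) ≫ c.stalkMap (genericPoint Y')) := by
        exact (MorphismProperty.isomorphisms CommRingCat).cancel_left_of_respectsIso _ _ |>.1 h1
      exact IsIso.of_isIso_comp_left (π.stalkMap (c (genericPoint Y'))) _
    have hck : c ≫ (S ↘ Spec (CommRingCat.of k)) = Y' ↘ Spec (CommRingCat.of k) := by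
      rw [hover, ← Category.assoc, hc, Category.assoc, hφk]
      rfl
    have hseq : Models.IsContractionSeq c := by
      have h := SurfSeq.seq_of_birational (hY'.regular k)
        (fun z => (SchTop.ringKrullDim_stalk_le z).trans hY'.dim.le) c hcbir (hS.regular k)
        (fun z => (SchTop.ringKrullDim_stalk_le z).trans hS.dim.le) S _ (Models.IsContractionSeq.iso (Iso.refl S))
      rwa [Iso.refl_hom, Category.comp_id] at h
    have himgπ : (c ≫ π).base '' (I.support : Set Y') = {φ (r P)} := by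
      obtain ⟨z₀, hz₀⟩ := (curve_nontrivial k hIc).nonempty
      have hval : ∀ z ∈ (I.support : Set Y'), (c ≫ π) z = φ (r P) := fun z hz => by
        rw [hc, Scheme.Hom.comp_apply, Scheme.Hom.comp_apply, (PointBlow.mem_support_exc hP z).1 hz]
      refine Set.eq_singleton_iff_unique_mem.2 ⟨⟨z₀, hz₀, hval z₀ hz₀⟩, ?_⟩
      rintro _ ⟨z, hz, rfl⟩
      exact hval z hz
    obtain ⟨s, hs⟩ : ∃ s, c.base '' (I.support : Set Y') = {s} := by
      refine (image_seq k hseq hck hS I hIc).resolve_right ?_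
      rintro ⟨C, a, d, hC, hCs, h1, h2, h3, h4⟩
      have hCx : π.base '' (C.support : Set S) = {φ (r P)} := by
        rw [hCs, Set.image_image, ← himgπ]
        rfl
      have hneg := self_neg k hS.dim sX hdimX hn π hbirπ hC _ hCx
      rw [show slf k I = -1 from hII] at h1
      rw [hec] at h2
      exact hno C ⟨hC, by omega, h1_of_ec k hS.dim hC (by omega)⟩ ⟨_, hCx⟩
    have hιI : ∀ a, ι a ∈ (I.support : Set Y') := fun a =>
      (PointBlow.mem_support_exc hP _).2 (hrange.le ⟨a, rfl⟩)
    haveI : Nonempty G := by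
      obtain ⟨a, -⟩ := hrange.ge (Set.mem_singleton P)
      exact ⟨a⟩
    have hιs : Set.range ((ι ≫ c).base : G → S) = {s} := by
      refine Set.eq_singleton_iff_nonempty_unique_mem.2 ⟨Set.range_nonempty _, ?_⟩
      rintro _ ⟨a, rfl⟩
      exact hs.le ⟨ι a, hιI a, rfl⟩
    obtain ⟨ψ, hψ, -⟩ := S7307.result ι hG b hb c s hιs
    have hιx : Set.range ((ι ≫ c ≫ π).base : G → X) = {π s} := by
      refine Set.eq_singleton_iff_nonempty_unique_mem.2 ⟨Set.range_nonempty _, ?_⟩
      rintro _ ⟨a, rfl⟩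
      show π (c (ι a)) = π s
      rw [show c (ι a) = s from hs.le ⟨ι a, hιI a, rfl⟩]
    obtain ⟨ψ', -, huniq⟩ := S7307.result ι hG b hb (c ≫ π) (π s) hιx
    have heq : ψ ≫ π = r ≫ φ := by
      rw [huniq (ψ ≫ π) (by show b ≫ ψ ≫ π = c ≫ π; rw [← Category.assoc, hψ]),
        huniq (r ≫ φ) (by show b ≫ r ≫ φ = c ≫ π; rw [← Category.assoc, hc])]
    exact ih hY φ hφk hφP hφbir ψ heq

include hn hdimX in
/-- The mapping property of a resolution without contracted curves of the first kind. -/
theorem existsUnique_hom [S.Over (Spec (CommRingCat.of k))] (hover : S ↘ Spec (CommRingCat.of k) = π ≫ sX)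
    (hS : IsSurf k S) (U : X.Opens) (hUne : (U : Set X).Nonempty) [IsIso (π ∣_ U)]
    (hno : ∀ E : S.IdealSheafData, IsM1 k E → ¬ ∃ x : X, π.base '' (E.support : Set S) = {x})
    {S' : Scheme.{u}} [S'.Over (Spec (CommRingCat.of k))] [IsIntegral S'] (hS' : IsSurf k S') (π' : S' ⟶ X)
    [IsProper π'] (hk' : π' ≫ sX = S' ↘ Spec (CommRingCat.of k)) [IsIso (π' ∣_ U)] :
    ∃! u : S' ⟶ S, u ≫ π = π' := by
  haveI := hS'.noeth k
  have hbir := bir_of_restrict π U hUne
  have hbir' := bir_of_restrict π' U hUne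
  let O : S'.Opens := π' ⁻¹ᵁ U
  have hO : (O : Set S').Nonempty := by
    obtain ⟨v, hv⟩ := hUne
    exact ⟨(inv (π' ∣_ U) ⟨v, hv⟩).1, (inv (π' ∣_ U) ⟨v, hv⟩).2⟩
  let σ : (O : Scheme.{u}) ⟶ S := (π' ∣_ U) ≫ inv (π ∣_ U) ≫ (π ⁻¹ᵁ U).ι
  have hσ : σ ≫ π = O.ι ≫ π' := by
    simp only [σ, Category.assoc]
    rw [← morphismRestrict_ι, IsIso.inv_hom_id_assoc, morphismRestrict_ι]
  obtain ⟨Y', f, g, hf, hg, -⟩ := MinModel.exists_extension (hS'.regular k)
    (fun z => (SchTop.ringKrullDim_stalk_le z).trans hS'.dim.le) π' π O hO σ hσ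
  obtain ⟨u, hu⟩ := descend k sX hdimX hn π hover hS hbir hno hf hS' π' hk' inferInstance hbir' g hg
  refine ⟨u, hu, fun v hv => ?_⟩
  have hres : ∀ w : S' ⟶ S, w ≫ π = π' → O.ι ≫ w = σ := fun w hw => by
    have hr : Set.range (O.ι ≫ w) ⊆ Set.range (π ⁻¹ᵁ U).ι := by
      rw [Scheme.Opens.range_ι]
      rintro _ ⟨a, rfl⟩
      show π (w (O.ι a)) ∈ U
      rw [← Scheme.Hom.comp_apply w π, hw]
      exact a.2
    rw [← IsOpenImmersion.lift_fac (π ⁻¹ᵁ U).ι (O.ι ≫ w) hr]
    simp only [σ, ← Category.assoc]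
    congr 1
    rw [← cancel_mono (π ∣_ U), Category.assoc (π' ∣_ U), IsIso.inv_hom_id, Category.comp_id,
      ← cancel_mono U.ι, morphismRestrict_ι, Category.assoc, morphismRestrict_ι,
      IsOpenImmersion.lift_fac_assoc, Category.assoc, hw]
  haveI : IsDominant O.ι := ⟨by
    show Dense (Set.range O.ι)
    rw [Scheme.Opens.range_ι]
    exact O.2.dense hO⟩
  exact ext_of_isDominant_of_isSeparated π (hv.trans hu.symm) O.ι ((hres v hv).trans (hres u hu).symm)

end Groth.Agent.SurfMin
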