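import Groth.Agent.SurfMin.Bound
import Groth.Agent.SurfMin.BlowWit
import Groth.Agent.SurfMin.Main
import Groth.Agent.R1Push.Support
import Groth.Agent.FrobTwist.Invariants

/-!
Surfaces dominate surfaces without curves of the first kind.
-/

set_option autoImplicit false
set_option linter.style.haveILetI false
set_option linter.unusedSectionVars false
set_option backward.isDefEq.respectTransparency false
set_option backward.isDefEq.respectTransparency.types false
set_option maxHeartbeats 800000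

universe u

open CategoryTheory CategoryTheory.Limits AlgebraicGeometry TopologicalSpace
open Groth.Agent.H23

noncomputable section

namespace Groth.Agent.SurfMin

open Groth.Agent

attribute [local instance] PicMul.clMonoid

variable (k : Type u) [Field k] [IsAlgClosed k]

/-- A birational proper map of surfaces is an isomorphism over a dense open. -/
theorem exists_iso_open {S Y : Scheme.{u}} [IsIntegral S] [IsIntegral Y] [IsNoetherian Y]
    (hY : ∀ y : Y, IsRegularLocalRing (Y.presheaf.stalk y)) (hd : ∀ y : Y, ringKrullDim (Y.presheaf.stalk y) ≤ 2)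
    (f : S ⟶ Y) [IsProper f] (hbir : IsIso (f.stalkMap (genericPoint S))) :
    ∃ V : Y.Opens, Dense (V : Set Y) ∧ IsIso (f ∣_ V) := by
  have hn : Pi1.IsNormalScheme Y := FrobTwist.isNormalScheme_of_regular hY
  obtain ⟨hTf, hTpt⟩ := R1Push.finite_bad hn hd f hbir
  set T := f '' {w | ¬ IsIso (f.stalkMap w)} with hTdef
  have hTc : IsClosed T := by
    rw [← Set.biUnion_of_singleton T]
    exact hTf.isClosed_biUnion hTpt
  have hgenT : genericPoint Y ∉ T := by
    rintro ⟨w, hw, hwx⟩
    refine hw (RatUp.isIso_of_dim_le_one_normal f hbir w (hn _).2 ?_)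
    rw [hwx, ringKrullDim_stalk_eq_coheight, Order.coheight_eq_zero.2 fun z _ => genericPoint_specializes z]
    exact zero_le_one
  exact ⟨⟨Tᶜ, hTc.isOpen_compl⟩, hTc.isOpen_compl.dense ⟨_, hgenT⟩,
    Sol.isIso_restrict_of_stalk f hbir _ ⟨_, hgenT⟩ fun x hx => by_contra fun h => hx ⟨x, h, rfl⟩⟩

/-- Contracting curves of the first kind stops. -/
theorem exists_no_m1 (d : ℕ) : ∀ (S : Scheme.{u}) [S.Over (Spec (CommRingCat.of k))] [IsIntegral S], IsSurf k S →
    (∀ n, Dlog.Wit (S ↘ Spec (CommRingCat.of k)) n → n ≤ d) →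
    ∃ (Y : Scheme.{u}) (_ : Y.Over (Spec (CommRingCat.of k))) (_ : IsIntegral Y) (f : S ⟶ Y),
      f ≫ (Y ↘ Spec (CommRingCat.of k)) = S ↘ Spec (CommRingCat.of k) ∧ IsSurf k Y ∧
      IsIso (f.stalkMap (genericPoint S)) ∧ ∀ E : Y.IdealSheafData, ¬ IsM1 k E := by
  induction d using Nat.strong_induction_on with
  | _ d ih =>
    intro S _ _ hS hW
    haveI := hS.proper; haveI := hS.smooth
    by_cases hE : ∃ E : S.IdealSheafData, IsM1 k E
    swap
    · exact ⟨S, inferInstance, inferInstance, 𝟙 S, Category.id_comp _, hS, inferInstance,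
        fun E hE' => hE ⟨E, hE'⟩⟩
    obtain ⟨E, hE⟩ := hE
    obtain ⟨S₁, _, b, hbk, hS₁, hb⟩ := exists_contraction k hS hE
    haveI := hS₁.proper; haveI := hS₁.smooth; haveI := hS₁.int; haveI := hS₁.noeth k
    obtain ⟨-, hbP, P, hP, -, hPreg, hPdim, hB⟩ := hb
    haveI := hbP; haveI := hPreg
    have hstep : ∀ n, Dlog.Wit (S₁ ↘ Spec (CommRingCat.of k)) n → n + 1 ≤ d := fun n hn =>
      hW (n + 1) (hbk ▸ Dlog.wit_succ b hP hB hPdim hn)
    have h1 := hstep 0 Dlog.wit_zero
    obtain ⟨Y, iY, iYi, f, hfk, hY, hfbir, hno⟩ := ih (d - 1) (by omega) S₁ hS₁ fun n hn => by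
      have := hstep n hn
      omega
    haveI := PointBlow.isIso_off hP hB
    have hne : genericPoint S₁ ≠ P := fun h => by
      have h2 : Order.coheight P = 2 :=
        WithBot.coe_eq_coe.1 (((ringKrullDim_stalk_eq_coheight P).symm.trans hPdim).trans (by rfl))
      have h0 : Order.coheight P = 0 := Order.coheight_eq_zero.2 fun w _ => show w ≤ P from
        h ▸ genericPoint_specializes w
      exact absurd (h2.symm.trans h0) (by decide)
    have hbbir := bir_of_restrict b (⟨({P} : Set S₁)ᶜ, hP.isOpen_compl⟩ : S₁.Opens) ⟨genericPoint S₁, hne⟩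
    refine ⟨Y, iY, iYi, b ≫ f, by rw [Category.assoc, hfk, hbk], hY, ?_, hno⟩
    rw [Scheme.Hom.stalkMap_comp]
    haveI := hbbir
    haveI : IsIso (f.stalkMap (b (genericPoint S))) := by
      rw [SurfSeq.map_generic b hbbir]; exact hfbir
    infer_instance

/-- A birational morphism out of a surface without curves of the first kind is an isomorphism. -/
theorem isIso_of_no_m1 {Y Z : Scheme.{u}} {g : Y ⟶ Z} (hg : Models.IsContractionSeq g)
    [Y.Over (Spec (CommRingCat.of k))] [Z.Over (Spec (CommRingCat.of k))] (hZ : IsSurf k Z)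
    (hk : g ≫ (Z ↘ Spec (CommRingCat.of k)) = Y ↘ Spec (CommRingCat.of k))
    (hno : ∀ E : Y.IdealSheafData, ¬ IsM1 k E) : IsIso g := by
  cases hg with
  | iso e => infer_instance
  | @step Y' V X G ι b r hι hG hb hr =>
    exfalso
    haveI := hZ.proper; haveI := hZ.smooth; haveI := hZ.int; haveI := hZ.noeth k
    obtain ⟨hY, -, -⟩ := surf_of_seq k (Models.IsContractionSeq.step ι b r hι hG hb hr) hk hZ
    letI : V.Over (Spec (CommRingCat.of k)) := ⟨r ≫ (Z ↘ Spec (CommRingCat.of k))⟩
    obtain ⟨hV, -, -⟩ := surf_of_seq k hr rfl hZ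
    haveI := hY.proper; haveI := hY.smooth; haveI := hY.int; haveI := hY.noeth k
    haveI := hV.proper; haveI := hV.smooth; haveI := hV.int
    obtain ⟨-, -, P, hP, -, -, -, hπb⟩ := id hb
    have hoverb : Y ↘ Spec (CommRingCat.of k) = b ≫ (V ↘ Spec (CommRingCat.of k)) :=
      hk.symm.trans (Category.assoc b r _)
    obtain ⟨-, -, hII⟩ := SurfRows.blowPt_exc k P hP b hoverb hπb hV.dim hY.dim
    obtain ⟨hIint, hId, hIe⟩ := SurfRows.blowPt_curve k P hP b hoverb hπb hV.dim
    set I := BlowUp.exceptional b (Scheme.IdealSheafData.vanishingIdeal ⟨{P}, hP⟩) with hIdef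
    have hIc : IsCurve I := ⟨hIint, hId⟩
    exact hno I ⟨hIc, hII, h1_of_ec k hY.dim hIc ((ec_eq k I).trans hIe)⟩

end Groth.Agent.SurfMin
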