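import Groth.Agent.SurfMin.Nef

/-!
Strong minimal models of surfaces with a nonzero plurigenus.
-/

set_option autoImplicit false
set_option linter.style.haveILetI false
set_option linter.unusedSectionVars false
set_option backward.isDefEq.respectTransparency false
set_option backward.isDefEq.respectTransparency.types false
set_option maxHeartbeats 800000

universe u

open CategoryTheory CategoryTheory.Limits AlgebraicGeometry TopologicalSpace
open Groth.Agent.H23

noncomputable section

namespace Groth.Agent.SurfMin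

open Groth.Agent

attribute [local instance] PicMul.clMonoid

variable (k : Type u) [Field k] [IsAlgClosed k]

/-- On a minimal surface under a surface with a plurigenus no curve looks like an image of an exceptional curve. -/
theorem no_image {Y X : Scheme.{u}} [Y.Over (Spec (CommRingCat.of k))] [X.Over (Spec (CommRingCat.of k))]
    (hY : IsSurf k Y) (hX : IsSurf k X) {f : Y ⟶ X} (hf : Models.IsContractionSeq f)
    (hfk : f ≫ (X ↘ Spec (CommRingCat.of k)) = Y ↘ Spec (CommRingCat.of k))
    {W : Y.Modules} (hW : ExtPow.IsExtPow 2 (Omega.sheaf (Y ↘ Spec (CommRingCat.of k))) W)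
    {n : ℕ} (hn : 0 < n) (hP : Nontrivial (Coh.HH Y (CohB1.tensorPow W n) 0))
    (hmin : ∀ (E : Scheme.{u}) (ι : E ⟶ X), IsClosedImmersion ι → ¬ Models.IsExcCurve ι)
    {C : X.IdealSheafData} (hC : IsCurve C) {a b : ℤ} (hs : slf k C = -1 + a) (he : 2 * ec k C = 2 + b - a)
    (hb : 0 ≤ b) (hba : b ≤ a) : False := by
  haveI := hX.proper; haveI := hX.smooth; haveI := hX.int
  haveI := hY.proper; haveI := hY.smooth; haveI := hY.int
  by_cases ha : a = 0
  · have hM1 : IsM1 k C := ⟨hC, by omega, h1_of_ec k hX.dim hC (by omega)⟩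
    exact hmin _ C.subschemeι inferInstance (isExcCurve_of_m1 k hX.dim hM1)
  obtain ⟨M, hM⟩ := exists_inverse k hX.dim hC
  have hI := SurfNef.invertible_ideal k hX.dim hC.1 hC.2
  obtain ⟨hMi, hMI⟩ := CurveOnSurf.isInvertible_of_inverse hI hM
  have hneg : ∀ {A : X.Modules}, PicF.IsInvertible A →
      SurfPairing.pair k (PicF.cl A) (PicF.cl M) = -SurfPairing.pair k (PicF.cl A) (PicF.cl (ClSub.idealMod C)) :=
    fun hA => SurfPairing.pair_inv k hX.dim.le hA hI hMi (by rw [mul_comm]; exact hMI)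
  have hnef : SurfNef.Nef k M := fun D hD hDd => by
    rw [hneg (SurfNef.invertible_ideal k hX.dim hD hDd), neg_nonpos]
    by_cases hDC : D = C
    · subst hDC
      show 0 ≤ slf k D
      omega
    · exact SurfRows.pair_curves_nonneg k hX.dim hD hDd hC.1 hC.2 hDC
  haveI := CurveFin.smoothOfRelativeDimension_of_dim (f := X ↘ Spec (CommRingCat.of k)) (d := 2) hX.dim
  obtain ⟨WX, -, hWX⟩ := H28.ExtSh.exists_extPow (m := 2)
    (Synt29.DRVanish.isFinLocFree_omega (X ↘ Spec (CommRingCat.of k)))
  have hkd : kdot k (PicF.cl M) = -(1 + b) := by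
    have hWi := SurfAdj.isInvertible_W k hX.dim hWX
    have hadj := adj_ec k hX.dim hWX hC
    rw [kdot_eq k hX hWX hMi, SurfPairing.pair_comm, hneg hWi, SurfPairing.pair_comm]
    omega
  obtain ⟨N', hN', hnef', hk'⟩ := pull_seq k hf hfk hX M hMi hnef
  rw [hkd, kdot_eq k hY hW hN'] at hk'
  have hWi := SurfAdj.isInvertible_W k hY.dim hW
  have hpow : ∀ j : ℕ, PicF.IsInvertible (CohB1.tensorPow W j) ∧
      SurfPairing.pair k (PicF.cl N') (PicF.cl (CohB1.tensorPow W j)) =
        j * SurfPairing.pair k (PicF.cl N') (PicF.cl W) := by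
    intro j
    induction j with
    | zero => exact ⟨PicMul.isInvertible_tensorPow hWi 0, by
      rw [PicMul.cl_tensorPow, pow_zero, Nat.cast_zero, zero_mul]; exact SurfPairing.pair_one k _⟩
    | succ j ih =>
      refine ⟨PicMul.isInvertible_tensorPow hWi _, ?_⟩
      rw [PicMul.cl_tensorPow, pow_succ, ← PicMul.cl_tensorPow,
        SurfPairing.pair_mul k hY.dim.le hN' ih.1 hWi, ih.2]
      push_cast
      ring
  obtain ⟨s, hs⟩ := CurveAmple.exists_section_ne_zero hP
  have h0 := SurfNef.nef_section k hY.dim hN' hnef' (hpow n).1 hs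
  rw [(hpow n).2, hk'] at h0
  have : (0 : ℤ) < n := by exact_mod_cast hn
  nlinarith

/-- Morphisms to a surface without images of exceptional curves descend along contractions. -/
theorem factor {X : Scheme.{u}} [X.Over (Spec (CommRingCat.of k))] (hX : IsSurf k X)
    (hno : ∀ C : X.IdealSheafData, IsCurve C → ∀ a b : ℤ, slf k C = -1 + a → 2 * ec k C = 2 + b - a →
      0 ≤ b → b ≤ a → False)
    {Y' X' : Scheme.{u}} {g : Y' ⟶ X'} (hg : Models.IsContractionSeq g) :
    ∀ [Y'.Over (Spec (CommRingCat.of k))] [X'.Over (Spec (CommRingCat.of k))],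
      g ≫ (X' ↘ Spec (CommRingCat.of k)) = Y' ↘ Spec (CommRingCat.of k) → IsSurf k X' →
      ∀ c : Y' ⟶ X, c ≫ (X ↘ Spec (CommRingCat.of k)) = Y' ↘ Spec (CommRingCat.of k) →
        Models.IsContractionSeq c → ∃ h : X' ⟶ X, g ≫ h = c := by
  induction hg with
  | @iso Y' X' e =>
    intro _ _ _ _ c _ _
    exact ⟨e.inv ≫ c, by simp⟩
  | @step Y' V X' G ι b r hι hG hb hr ih =>
    intro _ _ hk hX' c hck hc
    letI : V.Over (Spec (CommRingCat.of k)) := ⟨r ≫ (X' ↘ Spec (CommRingCat.of k))⟩
    obtain ⟨hY', -, -⟩ := surf_of_seq k (Models.IsContractionSeq.step ι b r hι hG hb hr) hk hX'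
    obtain ⟨hV, -, -⟩ := surf_of_seq k hr rfl hX'
    obtain ⟨-, hcP, hcbir⟩ := surf_of_seq k hc hck hX
    haveI := hY'.proper; haveI := hY'.smooth; haveI := hY'.int; haveI := hY'.noeth k
    haveI := hV.proper; haveI := hV.smooth; haveI := hV.int; haveI := hV.noeth k
    haveI := hX.proper; haveI := hX.smooth; haveI := hX.int; haveI := hX.noeth k
    haveI := hcP
    obtain ⟨-, hbP, P, hP, hrange, -, hPdim, hπb⟩ := id hb
    haveI := hbP
    have hoverb : Y' ↘ Spec (CommRingCat.of k) = b ≫ (V ↘ Spec (CommRingCat.of k)) := by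
      rw [← hk, Category.assoc]; rfl
    obtain ⟨-, -, hII⟩ := SurfRows.blowPt_exc k P hP b hoverb hπb hV.dim hY'.dim
    obtain ⟨hIint, hId, hIe⟩ := SurfRows.blowPt_curve k P hP b hoverb hπb hV.dim
    set I := BlowUp.exceptional b (Scheme.IdealSheafData.vanishingIdeal ⟨{P}, hP⟩) with hIdef
    obtain ⟨s, hs⟩ : ∃ s, c.base '' (I.support : Set Y') = {s} := by
      refine (image_seq k hc hck hX I ⟨hIint, hId⟩).resolve_right ?_
      rintro ⟨C, a, d, hC, -, h1, h2, h3, h4⟩
      rw [show slf k I = -1 from hII] at h1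
      rw [(ec_eq k I).trans hIe] at h2
      exact hno C hC a d h1 (by linarith) h3 h4
    haveI : Nonempty G := by
      obtain ⟨a, -⟩ := hrange.ge (Set.mem_singleton P)
      exact ⟨a⟩
    have hιI : ∀ a, ι a ∈ (I.support : Set Y') := fun a =>
      (PointBlow.mem_support_exc hP _).2 (hrange.le ⟨a, rfl⟩)
    have hιs : Set.range ((ι ≫ c).base : G → X) = {s} := by
      refine Set.eq_singleton_iff_nonempty_unique_mem.2 ⟨Set.range_nonempty _, ?_⟩
      rintro _ ⟨a, rfl⟩
      exact hs.le ⟨ι a, hιI a, rfl⟩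
    obtain ⟨ψ, hψ, -⟩ := S7307.result ι hG b hb c s hιs
    let p : (Spec (CommRingCat.of k) : Scheme.{u}) := (X ↘ Spec (CommRingCat.of k)) s
    have hιp : Set.range ((ι ≫ (Y' ↘ Spec (CommRingCat.of k))).base : G → (Spec (CommRingCat.of k) : Scheme.{u})) = {p} := by
      refine Set.eq_singleton_iff_nonempty_unique_mem.2 ⟨Set.range_nonempty _, fun q _ => ?_⟩
      haveI : Subsingleton (Spec (CommRingCat.of k) : Scheme.{u}) := inferInstanceAs (Subsingleton (PrimeSpectrum k))
      exact Subsingleton.elim _ _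
    obtain ⟨ψ', -, huniq⟩ := S7307.result ι hG b hb (Y' ↘ Spec (CommRingCat.of k)) p hιp
    have hψk : ψ ≫ (X ↘ Spec (CommRingCat.of k)) = V ↘ Spec (CommRingCat.of k) := by
      rw [huniq (ψ ≫ (X ↘ Spec (CommRingCat.of k))) (by show b ≫ ψ ≫ (X ↘ Spec (CommRingCat.of k)) = _; rw [← Category.assoc, hψ, hck]), huniq _ hoverb.symm]
    haveI : IsProper (ψ ≫ (X ↘ Spec (CommRingCat.of k))) := by rw [hψk]; infer_instance
    haveI : IsProper ψ := IsProper.of_comp ψ (X ↘ Spec (CommRingCat.of k))
    have hne : genericPoint V ≠ P := fun h => by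
      have h2 : Order.coheight P = 2 :=
        WithBot.coe_eq_coe.1 (((ringKrullDim_stalk_eq_coheight P).symm.trans hPdim).trans (by rfl))
      have h0 : Order.coheight P = 0 := Order.coheight_eq_zero.2 fun w _ => show w ≤ P from
        h ▸ genericPoint_specializes w
      exact absurd (h2.symm.trans h0) (by decide)
    haveI := PointBlow.isIso_off hP hπb
    have hbbir := bir_of_restrict b (⟨({P} : Set V)ᶜ, hP.isOpen_compl⟩ : V.Opens) ⟨genericPoint V, hne⟩
    have hψbir : IsIso (ψ.stalkMap (genericPoint V)) := by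
      have h1 := hcbir
      rw [Scheme.Hom.stalkMap_congr_hom _ _ hψ.symm, Scheme.Hom.stalkMap_comp] at h1
      have h2 : IsIso (ψ.stalkMap (b (genericPoint Y')) ≫ b.stalkMap (genericPoint Y')) :=
        (MorphismProperty.isomorphisms CommRingCat).cancel_left_of_respectsIso _ _ |>.1 h1
      haveI := hbbir
      have h3 : IsIso (ψ.stalkMap (b (genericPoint Y'))) := IsIso.of_isIso_comp_right _ (b.stalkMap (genericPoint Y'))
      rw [SurfSeq.map_generic b hbbir] at h3
      exact h3
    have hψseq : Models.IsContractionSeq ψ := by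
      have h := SurfSeq.seq_of_birational (hV.regular k)
        (fun z => (SchTop.ringKrullDim_stalk_le z).trans hV.dim.le) ψ hψbir (hX.regular k)
        (fun z => (SchTop.ringKrullDim_stalk_le z).trans hX.dim.le) X _ (Models.IsContractionSeq.iso (Iso.refl X))
      rwa [Iso.refl_hom, Category.comp_id] at h
    obtain ⟨h, hh⟩ := ih rfl hX' ψ hψk hψseq
    exact ⟨h, by rw [Category.assoc, hh, hψ]⟩

end Groth.Agent.SurfMin
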