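import Groth.Agent.SurfMin.LineDer

/-!
The two affine lines of a projective line and their overlap, with their derivatives.
-/

set_option autoImplicit false
set_option linter.style.haveILetI false
set_option linter.unusedSectionVars false
set_option backward.isDefEq.respectTransparency false
set_option backward.isDefEq.respectTransparency.types false
set_option maxHeartbeats 800000

universe u

open CategoryTheory CategoryTheory.Limits AlgebraicGeometry TopologicalSpace Opposite
open LaurentPolynomial Groth.Agent.Synt29

noncomputable section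

namespace Groth.Agent.SurfMin.Dlog

variable (k : Type u) [Field k]

/-- The affine line. -/
abbrev A1 : Scheme.{u} := Spec (CommRingCat.of (Polynomial k))

/-- The punctured affine line. -/
abbrev Gm : Scheme.{u} := Spec (CommRingCat.of (LaurentPolynomial k))

/-- The structure maps. -/
abbrev sA1 : A1 k ⟶ Spec (CommRingCat.of k) := OmegaLib.sMap k (Polynomial k)

abbrev sGm : Gm k ⟶ Spec (CommRingCat.of k) := OmegaLib.sMap k (LaurentPolynomial k)

/-- Substitution of the inverse coordinate. -/
def flip : Polynomial k →ₐ[k] LaurentPolynomial k := Polynomial.aeval (T (-1 : ℤ))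

/-- The two inclusions. -/
def inc0 : Gm k ⟶ A1 k := Spec.map (CommRingCat.ofHom (Polynomial.toLaurentAlg (R := k)).toRingHom)

def incInf : Gm k ⟶ A1 k := Spec.map (CommRingCat.ofHom (flip k).toRingHom)

theorem inc0_comp : inc0 k ≫ sA1 k = sGm k := by
  rw [inc0, sA1, sGm, OmegaLib.sMap, OmegaLib.sMap, ← Spec.map_comp]
  exact congrArg (fun r => Spec.map r) (CommRingCat.hom_ext (RingHom.ext fun a =>
    (Polynomial.toLaurentAlg (R := k)).commutes a))

theorem incInf_comp : incInf k ≫ sA1 k = sGm k := by
  rw [incInf, sA1, sGm, OmegaLib.sMap, OmegaLib.sMap, ← Spec.map_comp]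
  exact congrArg (fun r => Spec.map r) (CommRingCat.hom_ext (RingHom.ext fun a => (flip k).commutes a))

/-- The derivative of Laurent polynomials. -/
def deriv : LaurentPolynomial k →ₗ[k] LaurentPolynomial k :=
  (AddMonoidAlgebra.basis ℤ k).constr k fun n : ℤ => n • T (n - 1)

theorem deriv_T (n : ℤ) : deriv k (T n) = n • T (n - 1) := by
  have h : (T n : LaurentPolynomial k) = AddMonoidAlgebra.basis ℤ k n :=
    (AddMonoidAlgebra.basis_apply k n).symm
  rw [h, deriv, Module.Basis.constr_basis]

theorem deriv_mul (f g : LaurentPolynomial k) : deriv k (f * g) = f * deriv k g + g * deriv k f := by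
  induction f using LaurentPolynomial.induction_on' with
  | add f f' hf hf' => rw [add_mul, map_add, hf, hf', map_add]; ring
  | C_mul_T n a =>
    induction g using LaurentPolynomial.induction_on' with
    | add g g' hg hg' => rw [mul_add, map_add, hg, hg', map_add]; ring
    | C_mul_T m b =>
      simp only [LaurentPolynomial.C_eq_algebraMap, ← Algebra.smul_def, smul_mul_assoc,
        mul_smul_comm, map_smul, ← T_add, deriv_T, smul_add]
      rw [show m + (n - 1) = n + m - 1 by ring, show n + (m - 1) = n + m - 1 by ring]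
      simp only [← Int.cast_smul_eq_zsmul k, smul_smul, ← add_smul]
      congr 1
      push_cast
      ring

theorem deriv_one : deriv k 1 = 0 := by
  rw [← LaurentPolynomial.T_zero, deriv_T, zero_smul]

theorem deriv_algebraMap (a : k) : deriv k (algebraMap k _ a) = 0 := by
  rw [Algebra.algebraMap_eq_smul_one, map_smul, deriv_one, smul_zero]

theorem deriv_toLaurent (p : Polynomial k) : deriv k (Polynomial.toLaurent p) =
    Polynomial.toLaurent (Polynomial.derivative p) := by
  induction p using Polynomial.induction_on' with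
  | add p q hp hq => simp only [map_add, hp, hq]
  | monomial n a =>
    rw [Polynomial.derivative_monomial, Polynomial.toLaurent_C_mul_T, Polynomial.toLaurent_C_mul_T,
      LaurentPolynomial.C_eq_algebraMap, ← Algebra.smul_def, map_smul, deriv_T,
      LaurentPolynomial.C_eq_algebraMap, ← Algebra.smul_def, ← Int.cast_smul_eq_zsmul k, smul_smul]
    rcases n with _ | n
    · simp
    · simp

theorem deriv_flip (p : Polynomial k) : deriv k (flip k p) = -T (-2) * flip k (Polynomial.derivative p) := by
  induction p using Polynomial.induction_on with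
  | C a =>
    rw [Polynomial.derivative_C, map_zero, mul_zero, flip, Polynomial.aeval_C, deriv_algebraMap]
  | add p q hp hq => simp only [map_add, hp, hq, mul_add]
  | monomial n a h =>
    have hX : flip k Polynomial.X = T (-1) := Polynomial.aeval_X _
    have hd : deriv k (flip k Polynomial.X) = -T (-2) := by rw [hX, deriv_T]; norm_num
    rw [pow_succ, ← mul_assoc, map_mul (flip k), deriv_mul, h, hd,
      show Polynomial.derivative (Polynomial.C a * Polynomial.X ^ n * Polynomial.X) =
        Polynomial.derivative (Polynomial.C a * Polynomial.X ^ n) * Polynomial.X +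
          Polynomial.C a * Polynomial.X ^ n by
        rw [Polynomial.derivative_mul, Polynomial.derivative_X, mul_one],
      map_add (flip k), map_mul (flip k) (Polynomial.derivative _)]
    ring

variable {k}

/-- A derivation of functions on an affine scheme from one of its ring. -/
theorem exists_fder {B : Type u} [CommRing B] [Algebra k B] (δ : B →+ B)
    (hmul : ∀ a b, δ (a * b) = a * δ b + b * δ a) (hbase : ∀ a : k, δ (algebraMap k B a) = 0) :
    ∃ D : FDer (OmegaLib.sMap k B), ∀ b, D.val ⊤ (OmAff.toΓ B b) = OmAff.toΓ B (δ b) := by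
  let e := (Scheme.ΓSpecIso (CommRingCat.of B))
  let δ' : Γ(Spec (CommRingCat.of B), ⊤) →+ Γ(Coh.structureModule (Spec (CommRingCat.of B)), ⊤) :=
    (OmegaSh.strSect _ ⊤).comp (e.inv.hom.toAddMonoidHom.comp (δ.comp e.hom.hom.toAddMonoidHom))
  have h1 : ∀ a b, δ' (a * b) = a • δ' b + b • δ' a := fun a b => by
    show e.inv.hom (δ (e.hom.hom (a * b))) = a * e.inv.hom (δ (e.hom.hom b)) + b * e.inv.hom (δ (e.hom.hom a))
    rw [map_mul, hmul, map_add, map_mul, map_mul, e.hom_inv_id_apply, e.hom_inv_id_apply]
  have h2 : ∀ c : Γ(Spec (CommRingCat.of k), ⊤), δ' ((OmegaLib.sMap k B).appTop c) = 0 := fun c => by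
    obtain ⟨a, rfl⟩ := OmegaStalk.toΓ_surjective k c
    show e.inv.hom (δ (e.hom.hom ((OmegaLib.sMap k B).appTop (OmAff.toΓ k a)))) = 0
    rw [OmAff.appTop_toΓ]
    show e.inv.hom (δ (e.hom.hom (e.inv.hom (algebraMap k B a)))) = 0
    rw [e.inv_hom_id_apply, hbase, map_zero]
  obtain ⟨D, hD⟩ := OmegaStalk.exists_der_of_top (OmegaLib.sMap k B) _ δ' h1 h2
  refine ⟨⟨D⟩, fun b => ?_⟩
  show D.app ⊤ (OmAff.toΓ B b) = _
  rw [hD]
  show e.inv.hom (δ (e.hom.hom (e.inv.hom b))) = _
  rw [e.inv_hom_id_apply]

variable (k)

theorem exists_dA1 : ∃ D : FDer (sA1 k), ∀ b, D.val ⊤ (OmAff.toΓ _ b) =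
    OmAff.toΓ _ (Polynomial.derivative b) :=
  exists_fder (k := k) (Polynomial.derivative (R := k)).toAddMonoidHom
    (fun a b => by
      show Polynomial.derivative (a * b) = a * Polynomial.derivative b + b * Polynomial.derivative a
      rw [Polynomial.derivative_mul]; ring)
    fun a => Polynomial.derivative_C

/-- The derivative on the affine line. -/
def dA1 : FDer (sA1 k) := (exists_dA1 k).choose

theorem dA1_top (b : Polynomial k) : (dA1 k).val ⊤ (OmAff.toΓ _ b) = OmAff.toΓ _ (Polynomial.derivative b) :=
  (exists_dA1 k).choose_spec b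

/-- The derivative on the punctured line. -/
def dGm : FDer (sGm k) :=
  (exists_fder (k := k) (deriv k).toAddMonoidHom (deriv_mul k) (deriv_algebraMap k)).choose

theorem dGm_top (b : LaurentPolynomial k) : (dGm k).val ⊤ (OmAff.toΓ _ b) = OmAff.toΓ _ (deriv k b) :=
  Exists.choose_spec (exists_fder (k := k) (deriv k).toAddMonoidHom (deriv_mul k) (deriv_algebraMap k)) b

theorem appTop_inc0 (b : Polynomial k) :
    (inc0 k).appTop (OmAff.toΓ _ b) = OmAff.toΓ _ (Polynomial.toLaurent b) :=
  OmegaLib.appTop_SpecMap_toΓ _ _ _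

theorem appTop_incInf (b : Polynomial k) :
    (incInf k).appTop (OmAff.toΓ _ b) = OmAff.toΓ _ (flip k b) :=
  OmegaLib.appTop_SpecMap_toΓ _ _ _

theorem htop0 (s : Γ(A1 k, ⊤)) :
    (dGm k).val ⊤ ((inc0 k).appTop s) = 1 * (inc0 k).appTop ((dA1 k).val ⊤ s) := by
  obtain ⟨b, rfl⟩ := OmegaStalk.toΓ_surjective _ s
  rw [one_mul, dA1_top, appTop_inc0, appTop_inc0, dGm_top, deriv_toLaurent]

theorem htopInf (s : Γ(A1 k, ⊤)) :
    (dGm k).val ⊤ ((incInf k).appTop s) =
      OmAff.toΓ _ (-T (-2) : LaurentPolynomial k) * (incInf k).appTop ((dA1 k).val ⊤ s) := by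
  obtain ⟨b, rfl⟩ := OmegaStalk.toΓ_surjective _ s
  rw [dA1_top, appTop_incInf, appTop_incInf, dGm_top, deriv_flip, map_mul]

/-- The decisive computation: `dT / T` is not a difference of forms regular at zero and at infinity. -/
theorem residue_eq_zero (p q : Polynomial k) (c : k)
    (h : Polynomial.toLaurent p + T (-2) * flip k q = c • T (-1)) : c = 0 := by
  have e1 : ∀ r : Polynomial k, (Polynomial.toLaurent r).coeff (-1) = 0 := fun r => by
    induction r using Polynomial.induction_on' with
    | add r s hr hs => rw [map_add, AddMonoidAlgebra.coeff_add, Finsupp.add_apply, hr, hs, add_zero]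
    | monomial n a =>
      rw [Polynomial.toLaurent_C_mul_T, ← single_eq_C_mul_T]
      exact Finsupp.single_eq_of_ne (by omega)
  have e2 : (T (-2) * flip k q).coeff (-1) = 0 := by
    clear h
    induction q using Polynomial.induction_on' with
    | add r s hr hs => rw [map_add, mul_add, AddMonoidAlgebra.coeff_add, Finsupp.add_apply, hr, hs, add_zero]
    | monomial n a =>
      rw [flip, Polynomial.aeval_monomial, LaurentPolynomial.T_pow, ← mul_assoc,
        mul_comm (T (-2)), mul_assoc, ← T_add, LaurentPolynomial.algebraMap_apply]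
      erw [← single_eq_C_mul_T]
      exact Finsupp.single_eq_of_ne (by omega)
  have h1 := congrArg (fun f : LaurentPolynomial k => f.coeff (-1)) h
  simp only [AddMonoidAlgebra.coeff_add, Finsupp.add_apply, e1, e2, add_zero, AddMonoidAlgebra.coeff_smul,
    Finsupp.smul_apply] at h1
  rw [show (T (-1) : LaurentPolynomial k).coeff (-1) = 1 from Finsupp.single_eq_same, smul_eq_mul, mul_one] at h1
  exact h1.symm

end Groth.Agent.SurfMin.Dlog
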