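import Groth.Agent.SurfRows.Basic
import Groth.Agent.SurfRows.StrictT
import Groth.Agent.SurfRows.OrthClass
import Groth.Agent.H26.ExcCrit
import Groth.Prelude.Def_ModelsG

/-!
Curves of the first kind on a smooth surface over an algebraically closed field.
-/

set_option autoImplicit false
set_option linter.style.haveILetI false
set_option linter.unusedSectionVars false
set_option backward.isDefEq.respectTransparency false
set_option backward.isDefEq.respectTransparency.types false
set_option maxHeartbeats 800000

universe u

open CategoryTheory CategoryTheory.Limits AlgebraicGeometry TopologicalSpace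

noncomputable section

namespace Groth.Agent.SurfMin

open Groth.Agent Groth.Agent.SurfRows Groth.Agent.H23

attribute [local instance] H23.PicMul.clMonoid

variable (k : Type u) [Field k] {S : Scheme.{u}} [S.Over (Spec (CommRingCat.of k))]

/-- An integral curve on a scheme. -/
def IsCurve (E : S.IdealSheafData) : Prop :=
  IsIntegral E.subscheme ∧ topologicalKrullDim (E.support : Set S) = 1

/-- The self-intersection of a curve. -/
def slf (E : S.IdealSheafData) : ℤ :=
  SurfPairing.pair k (PicF.cl (ClSub.idealMod E)) (PicF.cl (ClSub.idealMod E))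

/-- A rational curve with self-intersection minus one. -/
structure IsM1 (E : S.IdealSheafData) : Prop where
  curve : IsCurve E
  self : slf k E = -1
  h1 : Subsingleton (Coh.HH E.subscheme (Coh.structureModule E.subscheme) 1)

variable [IsProper (S ↘ Spec (CommRingCat.of k))] [Smooth (S ↘ Spec (CommRingCat.of k))] [IsIntegral S]

include k in
/-- The numerical form of a curve of the first kind, in Euler characteristics. -/
theorem euler_form (hdim : topologicalKrullDim S = 2) {E : S.IdealSheafData} (hE : IsCurve E) {N : S.Modules}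
    (hN : ClSub.IsInverseOf N (ClSub.idealMod E)) :
    Curv2.euler k S (CohB1.tensorMod (ClSub.quotMod E) N) - Curv2.euler k S (ClSub.quotMod E) = slf k E := by
  have hI := SurfNef.invertible_ideal k hdim hE.1 hE.2
  obtain ⟨hNi, hNI⟩ := CurveOnSurf.isInvertible_of_inverse hI hN
  rw [SurfNegDef.euler_quot_tensor (k := k) E hI hNi,
    SurfPairing.pair_inv k hdim.le hI hI hNi (by rw [mul_comm]; exact hNI), neg_neg]
  rfl

include k in
/-- A curve of the first kind has an inverse of its ideal. -/
theorem exists_inverse (hdim : topologicalKrullDim S = 2) {E : S.IdealSheafData} (hE : IsCurve E) :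
    ∃ N : S.Modules, ClSub.IsInverseOf N (ClSub.idealMod E) := by
  obtain ⟨N, -, hN⟩ := PicInv.exists_inverse (SurfNef.invertible_ideal k hdim hE.1 hE.2)
  obtain ⟨e⟩ := hN
  obtain ⟨c⟩ := PicMul.comm N (ClSub.idealMod E)
  exact ⟨N, by first | exact ⟨e⟩ | exact ⟨c ≪≫ e⟩⟩

include k in
/-- A rational curve with self-intersection minus one is exceptional of the first kind. -/
theorem isExcCurve_of_m1 [IsAlgClosed k] (hdim : topologicalKrullDim S = 2) {E : S.IdealSheafData}
    (hE : IsM1 k E) : Models.IsExcCurve E.subschemeι := by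
  haveI := hE.curve.1
  have hI := SurfNef.invertible_ideal k hdim hE.curve.1 hE.curve.2
  have heff := isEffCartier_of_curve k hdim hE.curve.1 hE.curve.2
  letI : E.subscheme.Over (Spec (CommRingCat.of k)) := ⟨E.subschemeι ≫ (S ↘ (Spec (CommRingCat.of k)))⟩
  haveI : IsProper (E.subscheme ↘ Spec (CommRingCat.of k)) :=
    inferInstanceAs (IsProper (E.subschemeι ≫ (S ↘ (Spec (CommRingCat.of k)))))
  haveI := CurveCohLib.isNoetherian_of_proper (k := k) (X := E.subscheme)
  have hd : topologicalKrullDim E.subscheme = 1 := topologicalKrullDim_subscheme.trans hE.curve.2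
  have hk : ClSub.idealMod E.subschemeι.ker = ClSub.idealMod E := by rw [Scheme.IdealSheafData.ker_subschemeι]
  let A := (Scheme.Modules.pullback E.subschemeι).obj (ClSub.idealMod E.subschemeι.ker)
  have hA : PicF.IsInvertible A := PicClLib.isInvertible_pullback _ (hk ▸ hI)
  have hpair := CurveOnSurf.pair_ideal (k := k) E.subschemeι (M := ClSub.idealMod E.subschemeι.ker) (hk ▸ hI) (hk ▸ hI)
  have hdeg : Curv2.deg k E.subscheme A 1 = 1 := by
    have h := hE.self
    rw [slf, ← hk, hpair] at h
    show Curv2.deg k E.subscheme ((Scheme.Modules.pullback E.subschemeι).obj (ClSub.idealMod E.subschemeι.ker)) 1 = 1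
    linarith
  have h0 := SurfAdj.finrank_h0 k E.subscheme
  have h1 : Module.finrank k (Coh.HH E.subscheme (Coh.structureModule E.subscheme) 1) = 0 := by
    haveI := hE.h1
    exact Module.finrank_zero_of_subsingleton
  have hdiff : (Module.finrank k (Coh.HH E.subscheme A 0) : ℤ) - Module.finrank k (Coh.HH E.subscheme A 1) = 2 := by
    unfold Curv2.deg at hdeg
    rw [CurveRR.euler_eq_h0_sub_h1 (k := k) hd.le (AmpleVan.isCoh_invertible hA).1,
      CurveRR.euler_eq_h0_sub_h1 (k := k) hd.le (QCoh.isQCoh_structureModule (X := E.subscheme)), h0, h1] at hdeg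
    push_cast at hdeg
    linarith
  obtain ⟨e, ⟨ψ⟩⟩ := H26.ExcCrit.exists_line (K := k) hd hA h0 h1 hdiff
  exact ⟨by rw [Scheme.IdealSheafData.ker_subschemeι]; exact heff, k, inferInstance, e,
    ⟨((Scheme.Modules.pullbackComp e.hom E.subschemeι).app _).symm ≪≫ ψ⟩⟩

end Groth.Agent.SurfMin
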