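import Groth.Agent.SurfMin.Witness

/-!
The number of members of a triangular family is bounded by the first cohomology of differentials.
-/

set_option autoImplicit false
set_option linter.style.haveILetI false
set_option linter.unusedSectionVars false
set_option backward.isDefEq.respectTransparency false
set_option backward.isDefEq.respectTransparency.types false
set_option maxHeartbeats 800000

universe u

open CategoryTheory CategoryTheory.Limits AlgebraicGeometry TopologicalSpace Opposite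
open LaurentPolynomial Groth.Agent.Synt29

noncomputable section

namespace Groth.Agent.SurfMin.Dlog

variable {k : Type u} [Field k] {X : Scheme.{u}} {sX : X ⟶ Spec (CommRingCat.of k)} [IsProper sX]
  {ι : Type u} {V : ι → X.Opens} {n : ℕ}

/-- Trivializations convert a potential of logarithmic derivatives into a form on the affine line. -/
theorem exists_line_form (hV : ∀ a, IsAffineOpen (V a)) (hcov : ∀ x : X, ∃ a, x ∈ V a)
    (g : Fin n → ∀ (a b : ι) (W : X.Opens), W ≤ V a → W ≤ V b → Γ(X, W))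
    (hu : ∀ i a b W ha hb, IsUnit (g i a b W ha hb)) (lam : Fin n → k)
    (η : ∀ a, Γ(Omega.sheaf sX, V a))
    (hη : ∀ a b (W : X.Opens) (ha : W ≤ V a) (hb : W ≤ V b),
      (Omega.sheaf sX).presheaf.map (homOfLE hb).op (η b) - (Omega.sheaf sX).presheaf.map (homOfLE ha).op (η a) =
        ∑ i, cst sX W (lam i) • dlogForm sX W (g i a b W ha hb))
    (hG : ∀ a, OmegaUniv.Good sX (V a))
    (j : A1 k ⟶ X) (hj : j ≫ sX = sA1 k) (v : Fin n → ∀ a, Γ(A1 k, j ⁻¹ᵁ V a))
    (hvu : ∀ i a, IsUnit (v i a))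
    (hv : ∀ i, lam i ≠ 0 → ∀ a b W (ha : W ≤ V a) (hb : W ≤ V b),
      j.app W (g i a b W ha hb) * res ((Opens.map j.base).map (homOfLE hb)).le (v i b) =
        res ((Opens.map j.base).map (homOfLE ha)).le (v i a)) :
    ∃ E : Polynomial k, ∀ a, res (le_top : j ⁻¹ᵁ V a ≤ ⊤) (OmAff.toΓ _ E) =
      pullForm (dA1 k) sX j hj (hG a) (η a) + ∑ i, cst (sA1 k) _ (lam i) * (dA1 k).dlog _ (v i a) := by
  haveI : X.IsSeparated := ⟨by rw [← terminal.comp_from sX]; infer_instance⟩
  let e : ∀ a, Γ(A1 k, j ⁻¹ᵁ V a) := fun a =>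
    pullForm (dA1 k) sX j hj (hG a) (η a) + ∑ i, cst (sA1 k) _ (lam i) * (dA1 k).dlog _ (v i a)
  have hcompat : TopCat.Presheaf.IsCompatible (A1 k).sheaf.obj (fun a => j ⁻¹ᵁ V a) e := by
    intro a b
    let W := V a ⊓ V b
    have hW : IsAffineOpen W := (hV a).inf (hV b)
    have hGW : OmegaUniv.Good sX W :=
      OmegaUniv.good_of_affine sX hW (isAffineOpen_top (Spec (CommRingCat.of k))) le_top
    have hA : ∀ (c : ι) (hc : W ≤ V c), res ((Opens.map j.base).map (homOfLE hc)).le (e c) =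
        pullForm (dA1 k) sX j hj hGW ((Omega.sheaf sX).presheaf.map (homOfLE hc).op (η c)) +
          ∑ i, cst (sA1 k) _ (lam i) *
            (dA1 k).dlog _ (res ((Opens.map j.base).map (homOfLE hc)).le (v i c)) := fun c hc => by
      rw [map_add, map_sum, pullForm_res (hU' := hGW) (h := hc)]
      congr 1
      refine Finset.sum_congr rfl fun i _ => ?_
      rw [map_mul, res_cst, (dA1 k).dlog_res _ (hvu i c)]
    show res ((Opens.map j.base).map (homOfLE (inf_le_left : W ≤ V a))).le (e a) =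
      res ((Opens.map j.base).map (homOfLE (inf_le_right : W ≤ V b))).le (e b)
    rw [hA a inf_le_left, hA b inf_le_right]
    have h := congrArg (pullForm (dA1 k) sX j hj hGW) (hη a b W inf_le_left inf_le_right)
    rw [map_sub, map_sum, sub_eq_iff_eq_add] at h
    rw [h, add_comm (∑ i, pullForm (dA1 k) sX j hj hGW _), add_assoc, ← Finset.sum_add_distrib]
    refine congrArg _ (Finset.sum_congr rfl fun i _ => ?_)
    rw [pullForm_smul, app_cst j hj, pullForm_dlogForm _ _ _ _ _ (hu ..), ← mul_add]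
    by_cases hl : lam i = 0
    · rw [hl, map_zero, zero_mul, zero_mul]
    · rw [← FDer.dlog_mul (dA1 k) _ ((hu ..).map _) ((hvu i b).map _)]
      exact congrArg _ (congrArg _ (hv i hl a b W inf_le_left inf_le_right).symm)
  obtain ⟨s, hs, -⟩ := (A1 k).sheaf.existsUnique_gluing' (fun a => j ⁻¹ᵁ V a) ⊤ (fun a => homOfLE le_top)
    (fun x _ => Opens.mem_iSup.2 (hcov (j x))) e hcompat
  obtain ⟨E, rfl⟩ := OmegaStalk.toΓ_surjective _ s
  exact ⟨E, hs⟩

theorem dlog_toΓ_T (m : ℤ) :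
    (dGm k).dlog ⊤ (OmAff.toΓ _ (T m : LaurentPolynomial k)) =
      OmAff.toΓ _ ((m : LaurentPolynomial k) * T (-1)) := by
  have hu : IsUnit (T m : LaurentPolynomial k) := isUnit_T m
  have hinv : Ring.inverse (T m : LaurentPolynomial k) = T (-m) := by
    refine hu.mul_left_cancel ?_
    rw [Ring.mul_inverse_cancel _ hu, ← T_add, add_neg_cancel, T_zero]
  rw [FDer.dlog, dGm_top, deriv_T, ← map_inverse (OmAff.toΓ _) hu, ← map_mul, hinv, zsmul_eq_mul,
    mul_left_comm, ← T_add]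
  congr 3
  ring

theorem isUnit_toΓ_T (m : ℤ) : IsUnit (OmAff.toΓ _ (T m : LaurentPolynomial k)) :=
  (isUnit_T m).map _

/-- The pairing of a potential with a line of a triangular family. -/
theorem lam_eq_zero (hV : ∀ a, IsAffineOpen (V a)) (hcov : ∀ x : X, ∃ a, x ∈ V a)
    (C : Fin n → Cocyc X) (r : ∀ i, ι → (C i).ι) (hr : ∀ i c, V c ≤ (C i).U (r i c))
    (ν : Fin n → Line k sX) (h1 : ∀ i, Deg (C i) (ν i) 1) (h0 : ∀ i l, i < l → Deg (C l) (ν i) 0)
    (lam : Fin n → k) (η : ∀ a, Γ(Omega.sheaf sX, V a))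
    (hη : ∀ a b (W : X.Opens) (ha : W ≤ V a) (hb : W ≤ V b),
      (Omega.sheaf sX).presheaf.map (homOfLE hb).op (η b) - (Omega.sheaf sX).presheaf.map (homOfLE ha).op (η a) =
        ∑ i, cst sX W (lam i) • dlogForm sX W (((C i).refine V hcov (r i) (hr i)).g a b W ha hb))
    (i0 : Fin n) (hlt : ∀ l, l < i0 → lam l = 0) : lam i0 = 0 := by
  classical
  let j0 := (ν i0).j0
  let ji := (ν i0).ji
  let m : Fin n → ℤ := fun l => if l = i0 then 1 else 0
  let L : Fin n → Cocyc X := fun i => (C i).refine V hcov (r i) (hr i)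
  have hd : ∀ l, ∃ (v : ∀ a, Γ(A1 k, j0 ⁻¹ᵁ V a)) (w : ∀ a, Γ(A1 k, ji ⁻¹ᵁ V a)),
      (∀ a, IsUnit (v a)) ∧ (∀ a, IsUnit (w a)) ∧ (lam l ≠ 0 →
        (∀ a b W (ha : W ≤ V a) (hb : W ≤ V b),
          j0.app W ((L l).g a b W ha hb) * res ((Opens.map j0.base).map (homOfLE hb)).le (v b) =
            res ((Opens.map j0.base).map (homOfLE ha)).le (v a)) ∧
        (∀ a b W (ha : W ≤ V a) (hb : W ≤ V b),
          ji.app W ((L l).g a b W ha hb) * res ((Opens.map ji.base).map (homOfLE hb)).le (w b) =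
            res ((Opens.map ji.base).map (homOfLE ha)).le (w a)) ∧
        ∀ a (O : (Gm k).Opens) (h : O ≤ inc0 k ⁻¹ᵁ (j0 ⁻¹ᵁ V a)) (h' : O ≤ incInf k ⁻¹ᵁ (ji ⁻¹ᵁ V a)),
          res h ((inc0 k).app (j0 ⁻¹ᵁ V a) (v a)) = res le_top (OmAff.toΓ _ (T (m l) : LaurentPolynomial k)) *
            res h' ((incInf k).app (ji ⁻¹ᵁ V a) (w a))) := by
    intro l
    by_cases hl : lam l = 0
    · exact ⟨fun _ => 1, fun _ => 1, fun _ => isUnit_one, fun _ => isUnit_one, fun h => absurd hl h⟩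
    have hle : i0 ≤ l := le_of_not_gt fun h => hl (hlt l h)
    have hD : Deg (L l) (ν i0) (m l) := by
      rcases hle.eq_or_lt with h | h
      · subst h; simpa [m] using (h1 i0).refine V hcov (r i0) (hr i0)
      · simpa [m, h.ne'] using (h0 i0 l h).refine V hcov (r l) (hr l)
    obtain ⟨v, w, h⟩ := hD
    exact ⟨v.v, w.v, v.unit, w.unit, fun _ => ⟨v.rel, w.rel, h⟩⟩
  choose v w hvu hwu hrel using hd
  have hG : ∀ a, OmegaUniv.Good sX (V a) := fun a =>
    OmegaUniv.good_of_affine sX (hV a) (isAffineOpen_top (Spec (CommRingCat.of k))) le_top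
  obtain ⟨E0, hE0⟩ := exists_line_form hV hcov (fun i => (L i).g) (fun i => (L i).unit) lam η hη hG j0 (ν i0).h0 v
    hvu fun l hl => (hrel l hl).1
  obtain ⟨Ei, hEi⟩ := exists_line_form hV hcov (fun i => (L i).g) (fun i => (L i).unit) lam η hη hG ji (ν i0).hi w
    hwu fun l hl => (hrel l hl).2.1
  let p := inc0 k ≫ j0
  have hp : p ≫ sX = sGm k := by rw [Category.assoc, (ν i0).h0, inc0_comp]
  obtain ⟨a, ha⟩ := hcov (p (genericPoint (Gm k)))
  let O := inc0 k ⁻¹ᵁ (j0 ⁻¹ᵁ V a) ⊓ incInf k ⁻¹ᵁ (ji ⁻¹ᵁ V a)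
  have hmem : genericPoint (Gm k) ∈ O := by
    refine ⟨ha, ?_⟩
    show (incInf k ≫ ji) (genericPoint (Gm k)) ∈ V a
    rw [← (ν i0).glue]
    exact ha
  haveI : Nonempty (O : Scheme.{u}) := ⟨⟨_, hmem⟩⟩
  let t : Γ(Gm k, ⊤) := OmAff.toΓ _ (-T (-2) : LaurentPolynomial k)
  let TT : LaurentPolynomial k → Γ(Gm k, O) := fun f => res le_top (OmAff.toΓ _ f)
  have h0' : O ≤ inc0 k ⁻¹ᵁ (j0 ⁻¹ᵁ V a) := inf_le_left
  have hi' : O ≤ incInf k ⁻¹ᵁ (ji ⁻¹ᵁ V a) := inf_le_right
  let R0 : Γ(A1 k, j0 ⁻¹ᵁ V a) → Γ(Gm k, O) := fun s => res h0' ((inc0 k).app _ s)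
  let Ri : Γ(A1 k, ji ⁻¹ᵁ V a) → Γ(Gm k, O) := fun s => res hi' ((incInf k).app _ s)
  have hform : R0 (pullForm (dA1 k) sX j0 (ν i0).h0 (hG a) (η a)) =
      TT (-T (-2)) * Ri (pullForm (dA1 k) sX ji (ν i0).hi (hG a) (η a)) := by
    have e1 := pullForm_comp (dA1 k) sX j0 (ν i0).h0 (dGm k) (inc0 k) (inc0_comp k) 1 (htop0 k) p hp rfl
      (hG a) (η a)
    have e2 := pullForm_comp (dA1 k) sX ji (ν i0).hi (dGm k) (incInf k) (incInf_comp k) t (htopInf k) p hp
      (ν i0).glue.symm (hG a) (η a)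
    have hh : ∀ {A B : (Gm k).Opens} (e : A = B) (hA : O ≤ A) (hB : O ≤ B) (s : Γ(Gm k, B)),
        res hA ((Gm k).presheaf.map (eqToHom e).op s) = res hB s := fun e hA hB s => by
      subst e
      exact congrArg (res hA) (congr($((Gm k).presheaf.map_id _) s))
    have e1' := congrArg (res h0') e1
    have e2' := congrArg (res hi') e2
    replace e1' := ((hh _ h0' h0' _).symm.trans e1').trans ((map_mul _ _ _).trans (congrArg₂ (· * ·) (res_res _ _ _) rfl))
    replace e2' := ((hh _ hi' h0' _).symm.trans e2').trans ((map_mul _ _ _).trans (congrArg₂ (· * ·) (res_res _ _ _) rfl))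
    show res h0' _ = res le_top t * res hi' _
    rw [← e2', e1', map_one, one_mul]
  have hlog : ∀ l, cst (sGm k) O (lam l) * R0 ((dA1 k).dlog _ (v l a)) =
      cst (sGm k) O (lam l) * (TT ((m l : LaurentPolynomial k) * T (-1)) + TT (-T (-2)) * Ri ((dA1 k).dlog _ (w l a))) := by
    intro l
    by_cases hl : lam l = 0
    · rw [hl, map_zero, zero_mul, zero_mul]
    congr 1
    have key : ∀ (c : Gm k ⟶ A1 k) (hc : c ≫ sA1 k = sGm k) (s : Γ(Gm k, ⊤))
        (hs : ∀ x : Γ(A1 k, ⊤), (dGm k).val ⊤ (c.appTop x) = s * c.appTop ((dA1 k).val ⊤ x))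
        (U : (A1 k).Opens) (x : Γ(A1 k, U)) (hx : IsUnit x) (hU : O ≤ c ⁻¹ᵁ U),
        (dGm k).dlog O (res hU (c.app U x)) = res le_top s * res hU (c.app U ((dA1 k).dlog U x)) := by
      intro c hc s hs U x hx hU
      rw [(dGm k).dlog_res hU (hx.map _), FDer.dlog, val_app_eq_scale (dA1 k) (dGm k) c hc s hs, FDer.dlog,
        map_mul (c.app U).hom, map_inverse (c.app U).hom hx, map_mul, map_mul, map_mul, res_res]
      ring
    have e := congrArg ((dGm k).dlog O) ((hrel l hl).2.2 a O h0' hi')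
    rw [key (inc0 k) (inc0_comp k) 1 (htop0 k) _ _ (hvu l a), map_one, one_mul,
      (dGm k).dlog_mul O ((isUnit_toΓ_T _).map _) (((hwu l a).map _).map _),
      key (incInf k) (incInf_comp k) t (htopInf k) _ _ (hwu l a),
      (dGm k).dlog_res le_top (isUnit_toΓ_T _), dlog_toΓ_T] at e
    exact e
  have hc0 : ∀ (c : Gm k ⟶ A1 k) (hc : c ≫ sA1 k = sGm k) (U : (A1 k).Opens) (hU : O ≤ c ⁻¹ᵁ U) (x : k),
      res hU (c.app U (cst (sA1 k) U x)) = cst (sGm k) O x := by
    intro c hc U hU x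
    have h : c.app U (cst (sA1 k) U x) = cst (sGm k) (c ⁻¹ᵁ U) x := by
      refine (res_app c le_top (Coh.toGlobal (sA1 k) x)).trans ?_
      show res le_top ((c.appTop).hom (Coh.toGlobal (sA1 k) x)) = res le_top (Coh.toGlobal (sGm k) x)
      rw [← hc]
      rfl
    rw [h, res_cst]
  have hTT : ∀ (x : k) (f : LaurentPolynomial k), cst (sGm k) O x * TT f = TT (x • f) := fun x f => by
    show res le_top (Coh.toGlobal (sGm k) x) * res le_top (OmAff.toΓ _ f) = res le_top (OmAff.toΓ _ (x • f))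
    rw [show Coh.toGlobal (sGm k) x = OmAff.toΓ _ (algebraMap k (LaurentPolynomial k) x) from
      OmAff.appTop_toΓ k (LaurentPolynomial k) x, ← map_mul, ← map_mul, Algebra.smul_def]
  have eE : ∀ (c : Gm k ⟶ A1 k) (U : (A1 k).Opens) (hU : O ≤ c ⁻¹ᵁ U) (φ : Polynomial k → LaurentPolynomial k)
      (hφ : ∀ b, c.appTop (OmAff.toΓ _ b) = OmAff.toΓ _ (φ b)) (P : Polynomial k),
      res hU (c.app U (res le_top (OmAff.toΓ _ P))) = TT (φ P) := fun c U hU φ hφ P => by
    show _ = res le_top (OmAff.toΓ _ (φ P))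
    rw [← hφ P]
    exact (congrArg (res hU) (res_app c le_top _)).trans (res_res _ _ _)
  have k0 := eE (inc0 k) _ h0' _ (appTop_inc0 k) E0
  have ki := eE (incInf k) _ hi' _ (appTop_incInf k) Ei
  rw [hE0 a, map_add, map_sum] at k0
  simp only [map_add, map_sum, map_mul, hc0 _ (inc0_comp k)] at k0
  rw [hEi a] at ki
  simp only [map_add, map_sum, map_mul, hc0 _ (incInf_comp k)] at ki
  have total : TT (Polynomial.toLaurent E0) = TT (-T (-2)) * TT (flip k Ei) + TT (lam i0 • T (-1)) := by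
    rw [← k0, ← ki, mul_add, Finset.mul_sum]
    change R0 _ + ∑ l, cst (sGm k) O (lam l) * R0 _ =
      TT _ * Ri _ + ∑ l, TT _ * (cst (sGm k) O (lam l) * Ri _) + _
    rw [hform, Finset.sum_congr rfl fun l _ => hlog l]
    simp only [mul_add, Finset.sum_add_distrib, mul_left_comm (TT (-T (-2))), hTT]
    rw [Finset.sum_eq_single i0 (fun l _ hl => by simp [m, hl, TT]) (by simp),
      show ((m i0 : LaurentPolynomial k)) = 1 by simp [m], one_mul]
    abel
  have hinj : Function.Injective TT := by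
    refine fun f f' h => ?_
    have := AlgebraicGeometry.map_injective_of_isIntegral (Gm k) (homOfLE (le_top : O ≤ ⊤)) h
    exact (ConcreteCategory.bijective_of_isIso (Scheme.ΓSpecIso (CommRingCat.of _)).inv).1 this
  have hTTadd : ∀ f f', TT f + TT f' = TT (f + f') := fun f f' => by
    show res le_top _ + res le_top _ = _; rw [← map_add, ← map_add]
  have hTTmul : ∀ f f', TT f * TT f' = TT (f * f') := fun f f' => by
    show res le_top _ * res le_top _ = _; rw [← map_mul, ← map_mul]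
  rw [hTTmul, hTTadd] at total
  refine residue_eq_zero k E0 Ei (lam i0) ?_
  rw [hinj total]
  ring

/-- A triangular family is no longer than the dimension of the first cohomology of differentials. -/
theorem le_of_wit [IsNoetherian X] (h : Wit sX n) :
    letI : X.Over (Spec (CommRingCat.of k)) := ⟨sX⟩
    n ≤ Module.finrank k (Coh.HH X (Omega.sheaf sX) 1) := by
  classical
  letI : X.Over (Spec (CommRingCat.of k)) := ⟨sX⟩
  obtain ⟨C, ν, h1, h0⟩ := h
  by_contra hlt
  choose a ha using fun (x : X) (i : Fin n) => (C i).cov x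
  have hn : ∀ x : X, ∃ W : X.Opens, IsAffineOpen W ∧ x ∈ W ∧ ∀ i, W ≤ (C i).U (a x i) := fun x => by
    obtain ⟨_, ⟨W, hW, rfl⟩, hxW, hWle⟩ := X.isBasis_affineOpens.exists_subset_of_mem_open
      (show x ∈ ⋂ i, ((C i).U (a x i) : Set X) from Set.mem_iInter.2 (ha x))
      (isOpen_iInter_of_finite fun i => ((C i).U (a x i)).2)
    exact ⟨W, hW, hxW, fun i y hy => Set.mem_iInter.1 (hWle hy) i⟩
  choose W hW hxW hWle using hn
  obtain ⟨t, ht⟩ := (isCompact_univ (X := X)).elim_finite_subcover (fun x => (W x : Set X)) (fun x => (W x).2)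
    fun x _ => Set.mem_iUnion.2 ⟨x, hxW x⟩
  let ι := {x : X // x ∈ t}
  have hcov : ∀ x : X, ∃ c : ι, x ∈ W c.1 := fun x => by
    obtain ⟨y, hy, hxy⟩ := Set.mem_iUnion₂.1 (ht (Set.mem_univ x))
    exact ⟨⟨y, hy⟩, hxy⟩
  let r : ∀ i, ι → (C i).ι := fun i c => a c.1 i
  have hr : ∀ i (c : ι), W c.1 ≤ (C i).U (r i c) := fun i c => hWle c.1 i
  let L : Fin n → Cocyc X := fun i => (C i).refine (fun c : ι => W c.1) hcov (r i) (hr i)
  obtain ⟨lam, hne, η, hη⟩ := exists_eta sX n (V := fun c : ι => W c.1) (fun c => hW c.1)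
    (eq_top_iff.2 fun x _ => Opens.mem_iSup.2 (hcov x)) (fun i => (L i).g) (fun i => (L i).unit)
    (fun i => (L i).natural) (fun i => (L i).mul) (not_le.1 hlt)
  obtain ⟨i, hi⟩ := Function.ne_iff.1 hne
  have hex : (Finset.univ.filter fun i => lam i ≠ 0).Nonempty := ⟨i, Finset.mem_filter.2 ⟨Finset.mem_univ _, hi⟩⟩
  refine (Finset.mem_filter.1 (Finset.min'_mem _ hex)).2 (lam_eq_zero (fun c : ι => hW c.1) hcov C r hr ν h1 h0
    lam η hη _ fun l hl => ?_)
  by_contra h
  exact absurd (Finset.min'_le (Finset.univ.filter fun i => lam i ≠ 0) l (by simp [h])) hl.not_ge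

end Groth.Agent.SurfMin.Dlog
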