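import Groth.Agent.SurfMin.Witness
import Groth.Agent.H23.RatExtend
import Groth.Agent.RegBlow6.Geometry
import Groth.Agent.RegLoc6.Basic
import Groth.Agent.PointBlow.Step

/-!
A blowing up of a point lengthens triangular families of line bundles and lines.
-/

set_option autoImplicit false
set_option linter.style.haveILetI false
set_option linter.unusedSectionVars false
set_option backward.isDefEq.respectTransparency false
set_option backward.isDefEq.respectTransparency.types false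
set_option maxHeartbeats 800000

universe u

open CategoryTheory CategoryTheory.Limits AlgebraicGeometry TopologicalSpace Opposite IsLocalRing
open LaurentPolynomial Groth.Agent.Synt29

noncomputable section

namespace Groth.Agent.SurfMin.Dlog

variable {k : Type u} [Field k] {X Y : Scheme.{u}}

theorem res_app_congr {A : Scheme.{u}} {p p' : A ⟶ X} (e : p = p') {U : X.Opens} {O : A.Opens}
    (h : O ≤ p ⁻¹ᵁ U) (h' : O ≤ p' ⁻¹ᵁ U) (s : Γ(X, U)) : res h (p.app U s) = res h' (p'.app U s) := by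
  subst e; rfl

/-- Trivializations of a pulled back cocycle. -/
def Triv.pull {C : Cocyc Y} {b : X ⟶ Y} {j : A1 k ⟶ X} {q : A1 k ⟶ Y} (e : j ≫ b = q) (t : Triv C q) :
    Triv (C.pull b) j where
  v a := res (le_of_eq (by subst e; rfl)) (t.v a)
  unit a := (t.unit a).map _
  rel a a' W ha ha' := by
    subst e
    let V := C.U a ⊓ C.U a'
    have hW : W ≤ b ⁻¹ᵁ V := le_inf ha ha'
    have hr := congrArg (res (show j ⁻¹ᵁ W ≤ (j ≫ b) ⁻¹ᵁ V from ((Opens.map j.base).map (homOfLE hW)).le))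
      (t.rel a a' V inf_le_left inf_le_right)
    rw [map_mul, res_res, res_res] at hr
    refine Eq.trans ?_ (hr.trans (res_res _ _ _).symm)
    exact congrArg₂ (· * ·) (res_app j hW _) (res_res _ _ _)

/-- Composition of a line with a morphism over the base. -/
def Line.map {sY : Y ⟶ Spec (CommRingCat.of k)} {sX : X ⟶ Spec (CommRingCat.of k)} (b : X ⟶ Y)
    (hb : b ≫ sY = sX) (ν : Line k sX) : Line k sY where
  j0 := ν.j0 ≫ b
  ji := ν.ji ≫ b
  h0 := by rw [Category.assoc, hb, ν.h0]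
  hi := by rw [Category.assoc, hb, ν.hi]
  glue := by rw [← Category.assoc, ν.glue, Category.assoc]

theorem Deg.pull {sY : Y ⟶ Spec (CommRingCat.of k)} {sX : X ⟶ Spec (CommRingCat.of k)} {C : Cocyc Y}
    {ν : Line k sY} {ν' : Line k sX} {b : X ⟶ Y} {m : ℤ} (h : Deg C ν m) (e0 : ν'.j0 ≫ b = ν.j0)
    (ei : ν'.ji ≫ b = ν.ji) : Deg (C.pull b) ν' m := by
  obtain ⟨v, w, hvw⟩ := h
  refine ⟨v.pull e0, w.pull ei, fun a O h0 hi => ?_⟩
  obtain ⟨j0, ji, h0', hi', glue⟩ := ν
  change ν'.j0 ≫ b = j0 at e0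
  change ν'.ji ≫ b = ji at ei
  subst e0 ei
  exact (congrArg (res h0) (res_app (inc0 k) _ _)).trans ((res_res _ _ _).trans ((hvw a O h0 hi).trans
    (congrArg₂ (· * ·) rfl ((congrArg (res hi) (res_app (incInf k) _ _)).trans (res_res _ _ _)).symm)))

/-- A cocycle is trivial on a constant line. -/
theorem deg_const {sY : Y ⟶ Spec (CommRingCat.of k)} (C : Cocyc Y) (ν : Line k sY) (a0 : C.ι)
    (h0 : ν.j0 ⁻¹ᵁ C.U a0 = ⊤) (hi : ν.ji ⁻¹ᵁ C.U a0 = ⊤) : Deg C ν 0 := by
  let mk : ∀ (j : A1 k ⟶ Y), j ⁻¹ᵁ C.U a0 = ⊤ → Triv C j := fun j hj =>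
    { v := fun a => res (show j ⁻¹ᵁ C.U a ≤ j ⁻¹ᵁ (C.U a ⊓ C.U a0) from le_inf le_rfl (le_top.trans_eq hj.symm))
        (j.app _ (C.g a a0 _ inf_le_left inf_le_right))
      unit := fun a => ((C.unit _ _ _ _ _).map (j.app _).hom).map _
      rel := fun a b W ha hb => by
        let V := W ⊓ C.U a0
        have hV : j ⁻¹ᵁ W ≤ j ⁻¹ᵁ V := le_inf le_rfl (le_top.trans_eq hj.symm)
        have key : ∀ (c : C.ι) (hc : W ≤ C.U c) (e : j ⁻¹ᵁ W ≤ j ⁻¹ᵁ (C.U c ⊓ C.U a0)),
            res e (j.app _ (C.g c a0 (C.U c ⊓ C.U a0) inf_le_left inf_le_right)) =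
              res hV (j.app V (C.g c a0 V (inf_le_left.trans hc) inf_le_right)) := fun c hc e => by
          rw [← C.natural c a0 _ V inf_le_left inf_le_right (inf_le_inf_right _ hc)]
          exact ((congrArg (res hV) (res_app j _ _)).trans (res_res _ _ _)).symm
        rw [res_res, res_res, key a ha, key b hb,
          ← C.mul a b a0 V (inf_le_left.trans ha) (inf_le_left.trans hb) inf_le_right, map_mul, map_mul]
        congr 1
        rw [← C.natural a b W V ha hb inf_le_left]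
        exact ((congrArg (res hV) (res_app j inf_le_left _)).trans ((res_res _ _ _).trans
          (congr($((A1 k).presheaf.map_id _) _)))).symm }
  refine ⟨mk _ h0, mk _ hi, fun a O e0 ei => ?_⟩
  rw [LaurentPolynomial.T_zero, map_one, map_one, one_mul]
  let V := C.U a ⊓ C.U a0
  let g := C.g a a0 V inf_le_left inf_le_right
  refine ((congrArg (res e0) (res_app (inc0 k) _ _)).trans (res_res _ _ _)).trans ?_
  refine Eq.trans ?_ ((congrArg (res ei) (res_app (incInf k) _ _)).trans (res_res _ _ _)).symm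
  exact res_app_congr (p := inc0 k ≫ ν.j0) (p' := incInf k ≫ ν.ji) ν.glue (U := V) _ _ g

section Generic

theorem flip_eq_invert (p : Polynomial k) :
    flip k p = LaurentPolynomial.invert (Polynomial.toLaurent p) := by
  induction p using Polynomial.induction_on' with
  | add p q hp hq => simp only [map_add, hp, hq]
  | monomial n a =>
    rw [flip, Polynomial.aeval_monomial, T_pow, Polynomial.toLaurent_C_mul_T, map_mul, invert_C, invert_T,
      ← LaurentPolynomial.C_eq_algebraMap, mul_neg, mul_one]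

theorem genericPoint_gm {φ : Polynomial k →+* LaurentPolynomial k} (hφ : Function.Injective φ) :
    (Spec.map (CommRingCat.ofHom φ)) (genericPoint (Gm k)) = genericPoint (A1 k) := by
  rw [genericPoint_eq_bot_of_affine, genericPoint_eq_bot_of_affine]
  refine PrimeSpectrum.ext ?_
  show Ideal.comap φ ⊥ = ⊥
  exact Ideal.comap_bot_of_injective φ hφ

theorem inc0_generic : inc0 k (genericPoint (Gm k)) = genericPoint (A1 k) :=
  genericPoint_gm Polynomial.toLaurent_injective

theorem incInf_generic : incInf k (genericPoint (Gm k)) = genericPoint (A1 k) :=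
  genericPoint_gm fun p q h => Polynomial.toLaurent_injective (LaurentPolynomial.invert.injective
    ((flip_eq_invert p).symm.trans (h.trans (flip_eq_invert q))))

end Generic

/-- A line of degree one is not constant. -/
theorem Deg.not_isClosed {sY : Y ⟶ Spec (CommRingCat.of k)} {C : Cocyc Y} {ν : Line k sY} (h : Deg C ν 1) :
    ¬ IsClosed ({ν.j0 (genericPoint (A1 k))} : Set Y) := by
  intro hc
  obtain ⟨v, w, hvw⟩ := h
  set P := ν.j0 (genericPoint (A1 k)) with hP
  obtain ⟨a, ha⟩ := C.cov P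
  have hii : ν.ji (genericPoint (A1 k)) = P := by
    calc ν.ji (genericPoint (A1 k)) = (incInf k ≫ ν.ji) (genericPoint (Gm k)) := by
          rw [Scheme.Hom.comp_apply, incInf_generic]
      _ = (inc0 k ≫ ν.j0) (genericPoint (Gm k)) := by rw [ν.glue]
      _ = P := by rw [Scheme.Hom.comp_apply, inc0_generic, hP]
  have htop : ∀ (j : A1 k ⟶ Y), j (genericPoint (A1 k)) = P → j ⁻¹ᵁ C.U a = ⊤ := fun j hj =>
    eq_top_iff.2 fun x _ => by
      have h := (genericPoint_specializes x).map j.continuous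
      rw [hj] at h
      have : j x = P := by
        have h2 := h.mem_closed hc rfl
        exact h2
      show j x ∈ C.U a
      rw [this]; exact ha
  have t0 := htop ν.j0 rfl
  have ti := htop ν.ji hii
  have hcst : ∀ (j : A1 k ⟶ Y) (t : Triv C j) (ht : j ⁻¹ᵁ C.U a = ⊤), ∃ c : k, c ≠ 0 ∧
      res ht.ge (t.v a) = OmAff.toΓ _ (Polynomial.C c) := fun j t ht => by
    obtain ⟨p, hp⟩ := OmegaStalk.toΓ_surjective _ (res ht.ge (t.v a))
    have hu : IsUnit p := by
      have := (t.unit a).map (res ht.ge)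
      rw [← hp] at this
      have h2 := this.map (Scheme.ΓSpecIso (CommRingCat.of (Polynomial k))).hom.hom
      rwa [show (Scheme.ΓSpecIso (CommRingCat.of (Polynomial k))).hom.hom (OmAff.toΓ _ p) = p from
        (Scheme.ΓSpecIso (CommRingCat.of (Polynomial k))).inv_hom_id_apply p] at h2
    obtain ⟨c, hc, rfl⟩ := Polynomial.isUnit_iff.1 hu
    exact ⟨c, hc.ne_zero, hp.symm⟩
  obtain ⟨c, hc0, hcv⟩ := hcst _ v t0
  obtain ⟨c', hc'0, hcw⟩ := hcst _ w ti
  have e0 : (⊤ : (Gm k).Opens) ≤ inc0 k ⁻¹ᵁ (ν.j0 ⁻¹ᵁ C.U a) := by rw [t0]; exact le_rfl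
  have ei : (⊤ : (Gm k).Opens) ≤ incInf k ⁻¹ᵁ (ν.ji ⁻¹ᵁ C.U a) := by rw [ti]; exact le_rfl
  have e := hvw a ⊤ e0 ei
  have h1 : res e0 ((inc0 k).app _ (v.v a)) = OmAff.toΓ _ (algebraMap k (LaurentPolynomial k) c) := by
    rw [← LaurentPolynomial.C_eq_algebraMap, ← Polynomial.toLaurent_C, ← appTop_inc0, ← hcv]
    exact ((res_app (inc0 k) t0.ge (v.v a))).symm
  have h2 : res ei ((incInf k).app _ (w.v a)) = OmAff.toΓ _ (algebraMap k (LaurentPolynomial k) c') := by
    rw [show algebraMap k (LaurentPolynomial k) c' = flip k (Polynomial.C c') from ((flip k).commutes c').symm,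
      ← appTop_incInf, ← hcw]
    exact ((res_app (incInf k) ti.ge (w.v a))).symm
  rw [h1, h2, show res (le_top : (⊤ : (Gm k).Opens) ≤ ⊤) (OmAff.toΓ _ (T 1 : LaurentPolynomial k)) =
    OmAff.toΓ _ (T 1 : LaurentPolynomial k) from congr($((Gm k).presheaf.map_id _) _), ← map_mul] at e
  have := congrArg (fun f : LaurentPolynomial k => f.coeff 0)
    ((ConcreteCategory.bijective_of_isIso (Scheme.ΓSpecIso (CommRingCat.of _)).inv).1 e)
  rw [mul_comm, ← Algebra.smul_def, Algebra.algebraMap_eq_smul_one, ← T_zero] at this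
  simp [T_apply, hc0] at this

section LineLift

variable [IsAlgClosed k]

/-- The local rings of the affine line are valuation rings. -/
theorem valuationRing_A1 (x : A1 k) : ValuationRing ((A1 k).presheaf.stalk x) := by
  have : ValuationRing (Localization.AtPrime (x : PrimeSpectrum (Polynomial k)).asIdeal) :=
    H23.RatExtend.valuationRing_atPrime _
  have : IsDomain (Localization.AtPrime (x : PrimeSpectrum (Polynomial k)).asIdeal) :=
    IsLocalization.isDomain_localization (Ideal.primeCompl_le_nonZeroDivisors _)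
  exact H23.RatExtend.valuationRing_of_ringEquiv (StructureSheaf.stalkIso (Polynomial k) x).toRingEquiv

/-- A morphism from the affine line lifts through a proper morphism that is an isomorphism over its generic image. -/
theorem exists_lift_A1 [X.IsSeparated] [Y.IsSeparated] (b : X ⟶ Y) [IsProper b] (U : Y.Opens) [IsIso (b ∣_ U)]
    (j : A1 k ⟶ Y) (hj : j (genericPoint (A1 k)) ∈ U) :
    ∃ j' : A1 k ⟶ X, j' ≫ b = j := by
  let O := j ⁻¹ᵁ U
  let φ₀ := O.fromSpecStalkOfMem (genericPoint (A1 k)) hj ≫ (j ∣_ U) ≫ inv (b ∣_ U) ≫ (b ⁻¹ᵁ U).ι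
  have hφ₀ : φ₀ ≫ b = (A1 k).fromSpecStalk _ ≫ j := by
    simp only [φ₀, Category.assoc, ← morphismRestrict_ι, IsIso.inv_hom_id_assoc]
    rw [morphismRestrict_ι, Scheme.Opens.fromSpecStalkOfMem_ι_assoc]
  obtain ⟨W, -, H, hW, hH, -⟩ := H23.RatExtend.extend j b φ₀ hφ₀ Set.univ fun p _ =>
    H23.RatExtend.exists_lift j b φ₀ hφ₀ p (valuationRing_A1 p)
  have hW' : W = ⊤ := eq_top_iff.2 fun x _ => hW trivial
  subst hW'
  exact ⟨(A1 k).topIso.inv ≫ H, by rw [Category.assoc, hH, ← Scheme.topIso_hom]; simp⟩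

/-- Lines not through the centre lift. -/
theorem exists_line_lift [X.IsSeparated] [Y.IsSeparated] {sY : Y ⟶ Spec (CommRingCat.of k)} (b : X ⟶ Y)
    [IsProper b] (U : Y.Opens) [IsIso (b ∣_ U)] (ν : Line k sY) (hν : ν.j0 (genericPoint (A1 k)) ∈ U) :
    ∃ ν' : Line k (b ≫ sY), ν'.j0 ≫ b = ν.j0 ∧ ν'.ji ≫ b = ν.ji := by
  have hνi : ν.ji (genericPoint (A1 k)) ∈ U := by
    rw [← incInf_generic, ← Scheme.Hom.comp_apply, ← ν.glue, Scheme.Hom.comp_apply, inc0_generic]
    exact hν
  obtain ⟨a0, h0⟩ := exists_lift_A1 b U ν.j0 hν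
  obtain ⟨ai, hi⟩ := exists_lift_A1 b U ν.ji hνi
  refine ⟨⟨a0, ai, by rw [← Category.assoc, h0, ν.h0], by rw [← Category.assoc, hi, ν.hi], ?_⟩, h0, hi⟩
  let O := (inc0 k ≫ ν.j0) ⁻¹ᵁ U
  have hO : genericPoint (Gm k) ∈ O := by
    show ν.j0 (inc0 k (genericPoint (Gm k))) ∈ U
    rw [inc0_generic]; exact hν
  haveI : Nonempty (O : Scheme.{u}) := ⟨⟨_, hO⟩⟩
  haveI : IsDominant O.ι := ⟨by
    rw [DenseRange, Scheme.Opens.range_ι]; exact O.2.dense ⟨_, hO⟩⟩
  refine ext_of_isDominant O.ι ?_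
  have hlift : ∀ (q : (O : Scheme.{u}) ⟶ X), q ≫ b = O.ι ≫ inc0 k ≫ ν.j0 →
      q = ((inc0 k ≫ ν.j0) ∣_ U) ≫ inv (b ∣_ U) ≫ (b ⁻¹ᵁ U).ι := by
    intro q hq
    have hr : Set.range q ⊆ Set.range (b ⁻¹ᵁ U).ι := by
      rw [Scheme.Opens.range_ι]
      rintro _ ⟨z, rfl⟩
      show b (q z) ∈ U
      rw [← Scheme.Hom.comp_apply, hq]
      exact z.2
    rw [← IsOpenImmersion.lift_fac (b ⁻¹ᵁ U).ι q hr, ← Category.assoc ((inc0 k ≫ ν.j0) ∣_ U)]
    refine congrArg (· ≫ _) ?_
    rw [IsIso.eq_comp_inv, ← cancel_mono U.ι, Category.assoc, morphismRestrict_ι, IsOpenImmersion.lift_fac_assoc,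
      morphismRestrict_ι, hq]
  exact (hlift _ (by simp only [Category.assoc, h0])).trans (hlift _ (by simp only [Category.assoc, hi, ν.glue])).symm

end LineLift

end Groth.Agent.SurfMin.Dlog
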