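import Groth.Agent.OmegaUniv.Universal
import Groth.Agent.Synt29.OmegaExtend
import Mathlib.Algebra.Polynomial.Laurent
import Mathlib.Algebra.Polynomial.Derivative

/-!
Derivations of functions on a curve and their composition with morphisms, for the
logarithmic derivative of line bundles on a surface.
-/

set_option autoImplicit false
set_option linter.style.haveILetI false
set_option linter.unusedSectionVars false
set_option backward.isDefEq.respectTransparency false
set_option backward.isDefEq.respectTransparency.types false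
set_option maxHeartbeats 800000

universe u

open CategoryTheory CategoryTheory.Limits AlgebraicGeometry TopologicalSpace Opposite
open Groth.Agent.Synt29

noncomputable section

namespace Groth.Agent.SurfMin.Dlog

variable {A X S : Scheme.{u}}

/-- Restriction of a function. -/
abbrev res {U V : A.Opens} (h : V ≤ U) : Γ(A, U) →+* Γ(A, V) := (A.presheaf.map (homOfLE h).op).hom

theorem res_res {U V W : A.Opens} (h : V ≤ U) (h' : W ≤ V) (s : Γ(A, U)) :
    res h' (res h s) = res (h'.trans h) s :=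
  (ConcreteCategory.comp_apply _ _ _).symm.trans (by rw [← Functor.map_comp]; rfl)

theorem res_app (j : A ⟶ X) {U V : X.Opens} (h : V ≤ U) (s : Γ(X, U)) :
    j.app V (X.presheaf.map (homOfLE h).op s) =
      res ((Opens.map j.base).map (homOfLE h)).le (j.app U s) :=
  congr($(j.naturality (homOfLE h).op) s)

variable (sA : A ⟶ S)

/-- A derivation of the structure sheaf into itself. -/
structure FDer where
  D : OmegaSh.Der sA (Coh.structureModule A)

namespace FDer

variable {sA} (δ : FDer sA)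

/-- The value on a function. -/
def val (O : A.Opens) : Γ(A, O) →+ Γ(A, O) := (OmegaSh.fnSect A O).comp (δ.D.app O)

theorem val_mul (O : A.Opens) (a b : Γ(A, O)) : δ.val O (a * b) = a * δ.val O b + b * δ.val O a :=
  OmegaStalk.app_mul _ δ.D O a b

theorem val_res {O O' : A.Opens} (h : O' ≤ O) (a : Γ(A, O)) : δ.val O' (res h a) = res h (δ.val O a) :=
  OmegaStalk.app_res _ δ.D (homOfLE h) a

theorem val_base (V : S.Opens) (c : Γ(S, V)) : δ.val (sA ⁻¹ᵁ V) (sA.app V c) = 0 :=
  OmegaStalk.app_base _ δ.D V c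

/-- The logarithmic derivative of a unit. -/
def dlog (O : A.Opens) (a : Γ(A, O)) : Γ(A, O) := Ring.inverse a * δ.val O a

theorem dlog_mul (O : A.Opens) {a b : Γ(A, O)} (ha : IsUnit a) (hb : IsUnit b) :
    δ.dlog O (a * b) = δ.dlog O a + δ.dlog O b := by
  obtain ⟨a, rfl⟩ := ha
  obtain ⟨b, rfl⟩ := hb
  rw [dlog, dlog, dlog, δ.val_mul, ← Units.val_mul, Ring.inverse_unit, Ring.inverse_unit,
    Ring.inverse_unit, mul_inv, Units.val_mul]
  have h1 : (↑a⁻¹ : Γ(A, O)) * a = 1 := a.inv_mul
  have h2 : (↑b⁻¹ : Γ(A, O)) * b = 1 := b.inv_mul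
  linear_combination (↑b⁻¹ * δ.val O ↑b) * h1 + (↑a⁻¹ * δ.val O ↑a) * h2

end FDer

theorem map_inverse {R T : Type*} [CommSemiring R] [CommSemiring T] (f : R →+* T) {a : R} (ha : IsUnit a) :
    f (Ring.inverse a) = Ring.inverse (f a) := by
  obtain ⟨a, rfl⟩ := ha
  rw [Ring.inverse_unit, show f (a : R) = (Units.map f.toMonoidHom a : T) from rfl, Ring.inverse_unit]
  rfl

theorem FDer.dlog_res {sA : A ⟶ S} (δ : FDer sA) {O O' : A.Opens} (h : O' ≤ O) {a : Γ(A, O)} (ha : IsUnit a) :
    δ.dlog O' (res h a) = res h (δ.dlog O a) := by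
  rw [FDer.dlog, FDer.dlog, map_mul, δ.val_res h, map_inverse _ ha]

variable {sA} (δ : FDer sA) (sX : X ⟶ S) (j : A ⟶ X) (hj : j ≫ sX = sA)

include hj in
theorem val_app_base (W : S.Opens) (c : Γ(S, W)) :
    δ.val (j ⁻¹ᵁ (sX ⁻¹ᵁ W)) (j.app (sX ⁻¹ᵁ W) (sX.app W c)) = 0 := by
  subst hj
  exact δ.val_base W c

/-- The derivation of `O_X` obtained by composing with `j`. -/
def pushDer : OmegaSh.Der sX ((Scheme.Modules.pushforward j).obj (Coh.structureModule A)) where
  d {U} :=
    { toFun := fun s => δ.val (j ⁻¹ᵁ U.unop) (j.app U.unop s)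
      map_zero' := by
        show δ.val (j ⁻¹ᵁ U.unop) (j.app U.unop 0) = 0
        rw [map_zero, map_zero]
      map_add' := fun s t => by
        show δ.val (j ⁻¹ᵁ U.unop) (j.app U.unop (s + t)) = _
        rw [map_add, map_add] }
  d_mul {U} s t := by
    show δ.val (j ⁻¹ᵁ U.unop) (j.app U.unop (s * t)) =
      j.app U.unop s * δ.val (j ⁻¹ᵁ U.unop) (j.app U.unop t) +
        j.app U.unop t * δ.val (j ⁻¹ᵁ U.unop) (j.app U.unop s)
    rw [map_mul, δ.val_mul]
  d_map {U V} i s := by
    show δ.val (j ⁻¹ᵁ V.unop) (j.app V.unop (X.presheaf.map i s)) =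
      A.presheaf.map ((Opens.map j.base).map i.unop).op (δ.val (j ⁻¹ᵁ U.unop) (j.app U.unop s))
    rw [show j.app V.unop (X.presheaf.map i s) = res ((Opens.map j.base).map i.unop).le (j.app U.unop s) from
      congr($(j.naturality i) s)]
    exact δ.val_res _ _
  d_app {W} a := val_app_base δ sX j hj W.unop a

variable [QuasiSeparated sX]

/-- The induced map on forms over an open with spanning differentials. -/
def pullForm {U : X.Opens} (hU : OmegaUniv.Good sX U) : Γ(Omega.sheaf sX, U) →+ Γ(A, j ⁻¹ᵁ U) :=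
  OmegaUniv.φ (pushDer δ sX j hj) hU

theorem pullForm_smul {U : X.Opens} (hU : OmegaUniv.Good sX U) (r : Γ(X, U)) (m : Γ(Omega.sheaf sX, U)) :
    pullForm δ sX j hj hU (r • m) = j.app U r * pullForm δ sX j hj hU m :=
  OmegaUniv.φ_smul (pushDer δ sX j hj) hU r m

theorem pullForm_d {U : X.Opens} (hU : OmegaUniv.Good sX U) (s : Γ(X, U)) :
    pullForm δ sX j hj hU ((OmegaSh.dOmega sX).app U s) = δ.val (j ⁻¹ᵁ U) (j.app U s) :=
  OmegaUniv.φ_d (pushDer δ sX j hj) hU s

theorem pullForm_res {U U' : X.Opens} (hU : OmegaUniv.Good sX U) (hU' : OmegaUniv.Good sX U') (h : U' ≤ U)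
    (m : Γ(Omega.sheaf sX, U)) :
    res ((Opens.map j.base).map (homOfLE h)).le (pullForm δ sX j hj hU m) =
      pullForm δ sX j hj hU' ((Omega.sheaf sX).presheaf.map (homOfLE h).op m) :=
  OmegaUniv.res_φ (pushDer δ sX j hj) hU hU' h m

/-- The logarithmic derivative of a unit on `X`. -/
def dlogForm (U : X.Opens) (g : Γ(X, U)) : Γ(Omega.sheaf sX, U) :=
  Ring.inverse g • (OmegaSh.dOmega sX).app U g

theorem pullForm_dlogForm {U : X.Opens} (hU : OmegaUniv.Good sX U) {g : Γ(X, U)} (hg : IsUnit g) :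
    pullForm δ sX j hj hU (dlogForm sX U g) = δ.dlog (j ⁻¹ᵁ U) (j.app U g) := by
  rw [dlogForm, pullForm_smul, pullForm_d, FDer.dlog, ← map_inverse (j.app U).hom hg]

omit hj in
theorem dlogForm_mul (U : X.Opens) {a b : Γ(X, U)} (ha : IsUnit a) (hb : IsUnit b) :
    dlogForm sX U (a * b) = dlogForm sX U a + dlogForm sX U b := by
  obtain ⟨a, rfl⟩ := ha
  obtain ⟨b, rfl⟩ := hb
  rw [dlogForm, dlogForm, dlogForm, OmegaStalk.app_mul, ← Units.val_mul, Ring.inverse_unit, Ring.inverse_unit,
    Ring.inverse_unit, smul_add, smul_smul, smul_smul, mul_inv, Units.val_mul]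
  have h1 : (↑a⁻¹ * ↑b⁻¹ : Γ(X, U)) * a = ↑b⁻¹ := by rw [mul_comm (↑a⁻¹ : Γ(X, U)), mul_assoc, a.inv_mul, mul_one]
  have h2 : (↑a⁻¹ * ↑b⁻¹ : Γ(X, U)) * b = ↑a⁻¹ := by rw [mul_assoc, b.inv_mul, mul_one]
  rw [h1, h2, add_comm]

omit hj in
theorem dlogForm_res {U V : X.Opens} (h : V ≤ U) {g : Γ(X, U)} (hg : IsUnit g) :
    dlogForm sX V (res h g) = (Omega.sheaf sX).presheaf.map (homOfLE h).op (dlogForm sX U g) := by
  rw [dlogForm, dlogForm, Scheme.Modules.map_smul, OmegaStalk.app_res, map_inverse (res h) hg]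

section Agree

variable {L : Scheme.{u}} {sL : L ⟶ S} (δL : FDer sL) (c : L ⟶ A) (hc : c ≫ sA = sL)

/-- Multiplication by a global function after pulling back a derived function. -/
def scaleDer (t : Γ(L, ⊤)) : OmegaSh.Der sA ((Scheme.Modules.pushforward c).obj (Coh.structureModule L)) where
  d {U} :=
    { toFun := fun s => res le_top t * c.app U.unop (δ.val U.unop s)
      map_zero' := by
        show res le_top t * c.app U.unop (δ.val U.unop 0) = 0
        rw [map_zero, map_zero, mul_zero]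
      map_add' := fun s s' => by
        show res le_top t * c.app U.unop (δ.val U.unop (s + s')) = _
        rw [map_add, map_add, mul_add] }
  d_mul {U} s s' := by
    show res le_top t * c.app U.unop (δ.val U.unop (s * s')) =
      c.app U.unop s * (res le_top t * c.app U.unop (δ.val U.unop s')) +
        c.app U.unop s' * (res le_top t * c.app U.unop (δ.val U.unop s))
    rw [δ.val_mul, map_add, map_mul, map_mul]
    ring
  d_map {U V} i s := by
    show res le_top t * c.app V.unop (δ.val V.unop (A.presheaf.map i s)) =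
      res ((Opens.map c.base).map i.unop).le (res le_top t * c.app U.unop (δ.val U.unop s))
    rw [map_mul, res_res, show δ.val V.unop (A.presheaf.map i s) = A.presheaf.map i (δ.val U.unop s) from
      δ.val_res i.unop.le s]
    exact congrArg _ congr($(c.naturality i) (δ.val U.unop s))
  d_app {W} a := by
    show res le_top t * c.app (sA ⁻¹ᵁ W.unop) (δ.val (sA ⁻¹ᵁ W.unop) (sA.app W.unop a)) = 0
    rw [δ.val_base, map_zero, mul_zero]

include hc in
/-- Two derivations into functions on `L` agree when they agree on global functions. -/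
theorem val_app_eq_scale [IsAffine A] (t : Γ(L, ⊤))
    (htop : ∀ s : Γ(A, ⊤), δL.val ⊤ (c.appTop s) = t * c.appTop (δ.val ⊤ s)) (U : A.Opens) (s : Γ(A, U)) :
    δL.val (c ⁻¹ᵁ U) (c.app U s) = res le_top t * c.app U (δ.val U s) := by
  have h : pushDer δL sA c hc = scaleDer δ c t := OmegaStalk.der_ext_top fun b => by
    show δL.val ⊤ (c.app ⊤ b) = res le_top t * c.app ⊤ (δ.val ⊤ b)
    refine (htop b).trans ?_
    rw [show res (le_top : (c ⁻¹ᵁ ⊤) ≤ ⊤) t = t from congr($(L.presheaf.map_id _) t)]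
    rfl
  exact PresheafOfModules.Derivation.congr_d h s

include hc in
/-- The maps on forms through `A` and directly agree. -/
theorem pullForm_comp [IsAffine A] (t : Γ(L, ⊤))
    (htop : ∀ s : Γ(A, ⊤), δL.val ⊤ (c.appTop s) = t * c.appTop (δ.val ⊤ s))
    (p : L ⟶ X) (hp : p ≫ sX = sL) (e : c ≫ j = p) {U : X.Opens} (hU : OmegaUniv.Good sX U)
    (m : Γ(Omega.sheaf sX, U)) :
    L.presheaf.map (eqToHom (show c ⁻¹ᵁ j ⁻¹ᵁ U = p ⁻¹ᵁ U by subst e; rfl)).op (pullForm δL sX p hp hU m) =
      res le_top t * c.app (j ⁻¹ᵁ U) (pullForm δ sX j hj hU m) := by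
  subst e
  simp only [eqToHom_refl, op_id]
  refine (congr($(L.presheaf.map_id _) (pullForm δL sX (c ≫ j) hp hU m))).trans ?_
  show pullForm δL sX (c ≫ j) hp hU m = _
  induction hU.1 m using Submodule.span_induction with
  | mem y hy =>
      obtain ⟨s, rfl⟩ := hy
      rw [pullForm_d, pullForm_d]
      exact val_app_eq_scale δ δL c hc t htop (j ⁻¹ᵁ U) (j.app U s)
  | zero => simp only [map_zero, mul_zero]
  | add y y' _ _ a b => simp only [map_add, a, b, mul_add]
  | smul r y _ a =>
      rw [pullForm_smul, pullForm_smul, a, map_mul, Scheme.Hom.comp_app]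
      show c.app (j ⁻¹ᵁ U) (j.app U r) * _ = _
      ring

end Agree

end Groth.Agent.SurfMin.Dlog
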