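import Groth.Agent.SurfMin.Main
import Groth.Agent.MinModel.Target

/-!
Nef classes along contractions; targets of contractions of smooth surfaces.
-/

set_option autoImplicit false
set_option linter.style.haveILetI false
set_option linter.unusedSectionVars false
set_option backward.isDefEq.respectTransparency false
set_option backward.isDefEq.respectTransparency.types false
set_option maxHeartbeats 800000

universe u

open CategoryTheory CategoryTheory.Limits AlgebraicGeometry TopologicalSpace
open Groth.Agent.H23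

noncomputable section

namespace Groth.Agent.SurfMin

open Groth.Agent

attribute [local instance] PicMul.clMonoid

variable (k : Type u) [Field k] [IsAlgClosed k]

/-- The canonical degree of a class, from Riemann-Roch. -/
def kdot {S : Scheme.{u}} [S.Over (Spec (CommRingCat.of k))] (a : PicF.Cl S) : ℤ :=
  SurfPairing.pair k a a - 2 * (SurfPairing.χ k a - SurfPairing.χ k (1 : PicF.Cl S))

theorem kdot_eq {S : Scheme.{u}} [S.Over (Spec (CommRingCat.of k))] (hS : IsSurf k S) {W : S.Modules}
    (hW : ExtPow.IsExtPow 2 (Omega.sheaf (S ↘ Spec (CommRingCat.of k))) W) {L : S.Modules}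
    (hL : PicF.IsInvertible L) : kdot k (PicF.cl L) = SurfPairing.pair k (PicF.cl L) (PicF.cl W) := by
  haveI := hS.proper; haveI := hS.smooth; haveI := hS.int
  have h := SurfAdj.rr k hS.dim hW hL
  rw [kdot, SurfPairing.χ_cl, SurfPairing.χ_one]
  linarith

/-- A modification in finitely many points preserves intersection numbers. -/
theorem pull_facts {Y Z : Scheme.{u}} [Y.Over (Spec (CommRingCat.of k))] [Z.Over (Spec (CommRingCat.of k))]
    (hY : IsSurf k Y) (hZ : IsSurf k Z) (π : Y ⟶ Z) [IsProper π]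
    (hk : π ≫ (Z ↘ Spec (CommRingCat.of k)) = Y ↘ Spec (CommRingCat.of k)) (U : Z.Opens) [IsIso (π ∣_ U)]
    (hgen : π (@genericPoint Y _ (haveI := hY.int; inferInstance) (haveI := hY.int; inferInstance)) =
      @genericPoint Z _ (haveI := hZ.int; inferInstance) (haveI := hZ.int; inferInstance))
    (hU : ((U : Set Z)ᶜ).Finite) {L M : Z.Modules} (hL : PicF.IsInvertible L) (hM : PicF.IsInvertible M) :
    SurfPairing.pair k (PicF.cl ((Scheme.Modules.pullback π).obj L)) (PicF.cl ((Scheme.Modules.pullback π).obj M)) =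
        SurfPairing.pair k (PicF.cl L) (PicF.cl M) ∧
      kdot k (PicF.cl ((Scheme.Modules.pullback π).obj L)) = kdot k (PicF.cl L) := by
  haveI := hY.proper; haveI := hY.smooth; haveI := hY.int
  haveI := hZ.proper; haveI := hZ.smooth; haveI := hZ.int
  obtain ⟨H, hH⟩ := SurfAdj.exists_ample k hZ.dim
  have key : ∀ {N : Z.Modules}, PicF.IsInvertible N →
      SurfPairing.χ k (PicF.pullCl π (PicF.cl N)) - SurfPairing.χ k (1 : PicF.Cl Y) =
        SurfPairing.χ k (PicF.cl N) - SurfPairing.χ k (1 : PicF.Cl Z) := fun {N} hN => by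
    have h := SurfRows.euler_pullback_sub (L := N) k π hk U hZ.dim.le hY.dim.le hgen hH hU hN
    rw [SurfPairing.χ_one, SurfPairing.χ_one]
    exact h
  have hpair : ∀ {A B : Z.Modules}, PicF.IsInvertible A → PicF.IsInvertible B →
      SurfPairing.pair k (PicF.pullCl π (PicF.cl A)) (PicF.pullCl π (PicF.cl B)) =
        SurfPairing.pair k (PicF.cl A) (PicF.cl B) := fun {A B} hA hB => by
    have h1 := key hA
    have h2 := key hB
    have h3 := key (PicMul.isInvertible_tensor hA hB)
    rw [PicMul.cl_tensor, show PicF.pullCl π (PicF.cl A * PicF.cl B) = _ from PicMul.pullCl_mul π _ _] at h3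
    simp only [SurfPairing.pair]
    linarith
  refine ⟨hpair hL hM, ?_⟩
  show kdot k (PicF.pullCl π (PicF.cl L)) = _
  simp only [kdot, hpair hL hL]
  linarith [key hL]

/-- Pullback of a nef class along contractions is nef, with the same canonical degree. -/
theorem pull_seq {Y Z : Scheme.{u}} {r : Y ⟶ Z} (hr : Models.IsContractionSeq r) :
    ∀ [Y.Over (Spec (CommRingCat.of k))] [Z.Over (Spec (CommRingCat.of k))],
      r ≫ (Z ↘ Spec (CommRingCat.of k)) = Y ↘ Spec (CommRingCat.of k) → IsSurf k Z →
      ∀ N : Z.Modules, PicF.IsInvertible N → SurfNef.Nef k N →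
        ∃ N' : Y.Modules, PicF.IsInvertible N' ∧ SurfNef.Nef k N' ∧ kdot k (PicF.cl N') = kdot k (PicF.cl N) := by
  induction hr with
  | @iso Y Z e =>
    intro _ _ hk hZ N hN hnef
    obtain ⟨hY, -, hbir⟩ := surf_of_seq k (Models.IsContractionSeq.iso e) hk hZ
    haveI := hY.proper; haveI := hY.smooth; haveI := hY.int
    haveI := hZ.proper; haveI := hZ.smooth; haveI := hZ.int
    have hgen := SurfSeq.map_generic e.hom hbir
    have hfacts := fun {L M : Z.Modules} (hL : PicF.IsInvertible L) (hM : PicF.IsInvertible M) =>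
      pull_facts k hY hZ e.hom hk ⊤ hgen (by simp) hL hM
    refine ⟨_, PicClLib.isInvertible_pullback e.hom hN, fun D hD hDd => ?_, (hfacts hN hN).2⟩
    obtain ⟨C, hC, -, hCD⟩ := exists_comap_of_iso k e.hom hY hZ (E := D) ⟨hD, hDd⟩
    obtain ⟨φ⟩ := H26.InterDiv.nonempty_pullback_idealMod e.hom C
      (SurfRows.isEffCartier_of_curve k hZ.dim hC.1 hC.2) (hCD.symm ▸ SurfRows.isEffCartier_of_curve k hY.dim hD hDd)
    rw [hCD] at φ
    rw [← PicMul.cl_eq_iff.2 ⟨φ⟩, (hfacts (SurfNef.invertible_ideal k hZ.dim hC.1 hC.2) hN).1]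
    exact hnef C hC.1 hC.2
  | @step Y V Z G ι b r hι hG hb hr ih =>
    intro _ _ hk hZ N hN hnef
    obtain ⟨hY, -, -⟩ := surf_of_seq k (Models.IsContractionSeq.step ι b r hι hG hb hr) hk hZ
    letI : V.Over (Spec (CommRingCat.of k)) := ⟨r ≫ (Z ↘ Spec (CommRingCat.of k))⟩
    obtain ⟨hV, -, -⟩ := surf_of_seq k hr rfl hZ
    haveI := hY.proper; haveI := hY.smooth; haveI := hY.int
    haveI := hV.proper; haveI := hV.smooth; haveI := hV.int
    haveI := hV.noeth k
    obtain ⟨-, hbP, P, hP, -, -, hPd, hπ⟩ := hb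
    haveI := hbP
    have hover : Y ↘ Spec (CommRingCat.of k) = b ≫ (V ↘ Spec (CommRingCat.of k)) := by
      rw [← hk, Category.assoc]; rfl
    let U : V.Opens := ⟨({P} : Set V)ᶜ, hP.isOpen_compl⟩
    haveI : IsIso (b ∣_ U) := PointBlow.isIso_off hP hπ
    have hne : genericPoint V ≠ P := fun h => by
      have h2 : Order.coheight P = 2 :=
        WithBot.coe_eq_coe.1 (((ringKrullDim_stalk_eq_coheight P).symm.trans hPd).trans (by rfl))
      have h0 : Order.coheight P = 0 := Order.coheight_eq_zero.2 fun w _ => show w ≤ P from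
        h ▸ genericPoint_specializes w
      exact absurd (h2.symm.trans h0) (by decide)
    have hgen := SurfSeq.map_generic b (bir_of_restrict b U ⟨_, hne⟩)
    have hfacts := fun {L M : V.Modules} (hL : PicF.IsInvertible L) (hM : PicF.IsInvertible M) =>
      pull_facts k hY hV b hover.symm U hgen (by
        show (({P} : Set V)ᶜᶜ).Finite
        rw [compl_compl]; exact Set.finite_singleton P) hL hM
    obtain ⟨N₁, hN₁, hnef₁, hk₁⟩ := ih rfl hZ N hN hnef
    refine ⟨_, PicClLib.isInvertible_pullback b hN₁, fun D hD hDd => ?_, (hfacts hN₁ hN₁).2.trans hk₁⟩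
    obtain ⟨hIi, hI0, -⟩ := SurfRows.blowPt_exc k P hP b hover hπ hV.dim hY.dim
    by_cases hpt : b.base '' (D.support : Set Y) ⊆ {P}
    · obtain ⟨hIint, hId, -⟩ := SurfRows.blowPt_curve k P hP b hover hπ hV.dim
      haveI := hD; haveI := hIint
      have hDI : D = BlowUp.exceptional b (Scheme.IdealSheafData.vanishingIdeal ⟨{P}, hP⟩) :=
        SurfNegDef.eq_of_support_subset k hDd hId fun z hz =>
          (PointBlow.mem_support_exc hP z).2 (hpt ⟨z, hz, rfl⟩)
      rw [hDI, hI0 _ hN₁]
    obtain ⟨C, m, hC, -, htot⟩ := exists_image_curve k P hP b hover hπ hV.dim hY.dim ⟨hD, hDd⟩ hpt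
    set I := BlowUp.exceptional b (Scheme.IdealSheafData.vanishingIdeal ⟨{P}, hP⟩)
    have hCc := SurfRows.isEffCartier_of_curve k hV.dim hC.1 hC.2
    have hDc := SurfRows.isEffCartier_of_curve k hY.dim hD hDd
    have hDi := SurfNef.invertible_ideal k hY.dim hD hDd
    have hNi := PicClLib.isInvertible_pullback b hN₁
    have hpow : ∀ j : ℕ, BlowUp.IsEffCartierIdeal (I ^ j) ∧
        PicF.cl (ClSub.idealMod (I ^ j)) = PicF.cl (ClSub.idealMod I) ^ j := by
      intro j
      induction j with
      | zero => exact ⟨by rw [pow_zero, Scheme.IdealSheafData.one_eq_top]; exact H26.IdealCl.isEffCartier_top, by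
          rw [pow_zero, pow_zero]; exact H26.IdealCl.cl_one⟩
      | succ j ih => exact ⟨by rw [pow_succ']; exact H26.IdealCl.isEffCartier_mul ih.1 hπ.1, by
          rw [pow_succ', pow_succ', H26.IdealCl.cl_mul _ I hπ.1, ih.2]⟩
    obtain ⟨φ⟩ := H26.InterDiv.nonempty_pullback_idealMod b C hCc
      (htot ▸ H26.IdealCl.isEffCartier_mul (hpow m).1 hDc)
    have hc : PicF.cl ((Scheme.Modules.pullback b).obj (ClSub.idealMod C)) =
        PicF.cl (ClSub.idealMod D) * PicF.cl (ClSub.idealMod I) ^ m :=
      (PicMul.cl_eq_iff.2 ⟨φ⟩).trans (by rw [htot, H26.IdealCl.cl_mul _ _ hDc, (hpow m).2])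
    have hlin : ∀ j : ℕ, ∀ {B : Y.Modules}, PicF.IsInvertible B →
        SurfPairing.pair k (PicF.cl ((Scheme.Modules.pullback b).obj N₁)) (PicF.cl B * PicF.cl (ClSub.idealMod I) ^ j) =
          SurfPairing.pair k (PicF.cl ((Scheme.Modules.pullback b).obj N₁)) (PicF.cl B) := by
      intro j
      induction j with
      | zero => intro B hB; simp
      | succ j ih =>
        intro B hB
        have := ih (PicMul.isInvertible_tensor hB hIi)
        rw [PicMul.cl_tensor, SurfPairing.pair_mul k hY.dim.le hNi hB hIi,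
          SurfPairing.pair_comm k _ (PicF.cl (ClSub.idealMod I)),
          show SurfPairing.pair k (PicF.cl (ClSub.idealMod I)) (PicF.cl ((Scheme.Modules.pullback b).obj N₁)) = 0
            from hI0 _ hN₁, add_zero] at this
        rw [pow_succ', ← mul_assoc, this]
    rw [SurfPairing.pair_comm, ← hlin m hDi, ← hc, (hfacts hN₁ (SurfNef.invertible_ideal k hV.dim hC.1 hC.2)).1,
      SurfPairing.pair_comm]
    exact hnef₁ C hC.1 hC.2

/-- The target of contractions of a smooth proper surface is one. -/
theorem surf_target {Y Z : Scheme.{u}} {r : Y ⟶ Z} (hr : Models.IsContractionSeq r) :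
    ∀ [Y.Over (Spec (CommRingCat.of k))] [Z.Over (Spec (CommRingCat.of k))],
      r ≫ (Z ↘ Spec (CommRingCat.of k)) = Y ↘ Spec (CommRingCat.of k) → IsSurf k Y → IsSurf k Z := by
  induction hr with
  | @iso Y Z e =>
    intro _ _ hk hY
    haveI := hY.proper; haveI := hY.smooth; haveI := hY.int
    have hz : Z ↘ Spec (CommRingCat.of k) = e.inv ≫ (Y ↘ Spec (CommRingCat.of k)) := by
      rw [← hk, Iso.inv_hom_id_assoc]
    haveI : IsProper (Z ↘ Spec (CommRingCat.of k)) := by rw [hz]; infer_instance
    haveI : Nonempty Z := ⟨e.hom (genericPoint Y)⟩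
    haveI : IsIntegral Z := isIntegral_of_isOpenImmersion e.inv
    exact ⟨inferInstance, by rw [hz]; infer_instance, inferInstance,
      (dim_eq_of_birational k e.hom (Z ↘ Spec (CommRingCat.of k)) inferInstance).symm.trans hY.dim⟩
  | @step Y V Z G ι b r hι hG hb hr ih =>
    intro _ _ hk hY
    letI : V.Over (Spec (CommRingCat.of k)) := ⟨r ≫ (Z ↘ Spec (CommRingCat.of k))⟩
    refine ih rfl ?_
    haveI := hY.proper; haveI := hY.smooth; haveI := hY.int
    obtain ⟨hN, hbP, P, hP, hrange, hPreg, hPdim, hB⟩ := hb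
    haveI := hN; haveI := hbP
    haveI := PointBlow.isIso_off hP hB
    have hsurj : Function.Surjective b := fun w => by
      by_cases hw : w = P
      · obtain ⟨a, ha⟩ := hrange.ge (Set.mem_singleton P)
        exact ⟨ι a, by rw [hw]; exact ha⟩
      obtain ⟨v, hv⟩ := (b ∣_ (⟨({P} : Set V)ᶜ, hP.isOpen_compl⟩ : V.Opens)).surjective ⟨w, hw⟩
      refine ⟨v.1, ?_⟩
      have := congrArg Subtype.val hv
      rwa [morphismRestrict_base_coe] at this
    have hreg : ∀ w : V, IsRegularLocalRing (V.presheaf.stalk w) := fun w => by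
      by_cases hw : w = P
      · exact hw ▸ hPreg
      obtain ⟨z, rfl⟩ := hsurj w
      haveI := PointBlow.isIso_stalkMap_off hP hB hw
      haveI := hY.regular k z
      exact IsRegularLocalRing.of_ringEquiv (asIso (b.stalkMap z)).symm.commRingCatIsoToRingEquiv
    haveI : IrreducibleSpace V := by
      refine (irreducibleSpace_def V).2 ?_
      show IsIrreducible (Set.univ : Set V)
      rw [← hsurj.range_eq, ← Set.image_univ]
      exact (IrreducibleSpace.isIrreducible_univ Y).image _ b.continuous.continuousOn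
    haveI : AlgebraicGeometry.IsReduced V := by
      haveI : ∀ w : V, _root_.IsReduced (V.presheaf.stalk w) := fun w => by
        haveI := hreg w
        haveI : IsDomain (V.presheaf.stalk w) := RegLoc6.isDomain_of_isRegularLocalRing _
        infer_instance
      exact isReduced_of_isReduced_stalk V
    haveI : IsIntegral V := isIntegral_of_irreducibleSpace_of_isReduced V
    haveI : Surjective b := ⟨hsurj⟩
    have hbk : b ≫ (r ≫ (Z ↘ Spec (CommRingCat.of k))) = Y ↘ Spec (CommRingCat.of k) := by
      rw [← Category.assoc]; exact hk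
    haveI : IsProper (b ≫ (r ≫ (Z ↘ Spec (CommRingCat.of k)))) := by rw [hbk]; infer_instance
    haveI hVP : IsProper (V ↘ Spec (CommRingCat.of k)) := MinModel.isProper_of_blowUp b hB (r ≫ (Z ↘ Spec (CommRingCat.of k)))
    have hne : genericPoint V ≠ P := fun h => by
      have h2 : Order.coheight P = 2 :=
        WithBot.coe_eq_coe.1 (((ringKrullDim_stalk_eq_coheight P).symm.trans hPdim).trans (by rfl))
      have h0 : Order.coheight P = 0 := Order.coheight_eq_zero.2 fun w _ => show w ≤ P from
        h ▸ genericPoint_specializes w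
      exact absurd (h2.symm.trans h0) (by decide)
    have hbir := bir_of_restrict b (⟨({P} : Set V)ᶜ, hP.isOpen_compl⟩ : V.Opens) ⟨genericPoint V, hne⟩
    exact ⟨hVP, CurveCohLib.RegularCurve.smooth_of_regular k fun w _ => hreg w, inferInstance,
      (dim_eq_of_birational k b (V ↘ Spec (CommRingCat.of k)) hbir).symm.trans hY.dim⟩

end Groth.Agent.SurfMin
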