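import Groth.Agent.SurfRows.Zariski
import Groth.Agent.SurfRows.LocalFun
import Groth.Agent.SurfRows.OrthClass
import Groth.Agent.H23.PicMul
import Groth.Agent.SurfRows.FibrationVertical
import Groth.Agent.Lib.NormalPush
import Groth.Agent.Lib.ZarConn
import Groth.Agent.SurfSeq.Stalks
import Groth.Agent.SurfMin.Basic

/-!
Curves contracted to a point of a normal surface have negative definite intersection matrix.
-/

set_option autoImplicit false
set_option backward.isDefEq.respectTransparency false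
set_option backward.isDefEq.respectTransparency.types false
set_option linter.style.haveILetI false
set_option linter.unusedSectionVars false
set_option maxHeartbeats 800000

universe u

open CategoryTheory CategoryTheory.Limits AlgebraicGeometry TopologicalSpace

noncomputable section

namespace Groth.Agent.SurfMin

open Groth.Agent Groth.Agent.H23
attribute [local instance] PicMul.clMonoid

/-- The curves filling a connected fibre of a proper surjective map onto a surface are negative definite. -/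
theorem negDef_fibre (k : Type u) [Field k] [IsAlgClosed k]
    {X : Scheme.{u}} [X.Over (Spec (CommRingCat.of k))] [IsProper (X ↘ (Spec (CommRingCat.of k)))]
    [Smooth (X ↘ (Spec (CommRingCat.of k)))] [IsIntegral X] (hdim : topologicalKrullDim X = 2)
    {Y : Scheme.{u}} (sY : Y ⟶ Spec (CommRingCat.of k)) [IsIntegral Y]
    (hYd : topologicalKrullDim Y = 2)
    [LocallyOfFiniteType sY]
    (π : X ⟶ Y) [IsProper π]
    (y : Y) (hy : IsClosed ({y} : Set Y)) (hsurj : ∀ z, z ≠ y → ∃ x, π x = z)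
    (hgen : π (genericPoint X) = genericPoint Y)
    (r : ℕ) (C : Fin r → X.IdealSheafData) (hC : Function.Injective C)
    (hCi : ∀ i, IsIntegral (C i).subscheme) (hCd : ∀ i, topologicalKrullDim ((C i).support : Set X) = 1)
    (hfib : (π.base : X → Y) ⁻¹' {y} = ⋃ i, ((C i).support : Set X))
    (hconn : _root_.IsConnected (⋃ i, ((C i).support : Set X))) :
    ∀ a : Fin r → ℤ, a ≠ 0 →
      ∑ i, ∑ j, a i * a j * SurfPairing.pair k (PicF.cl (ClSub.idealMod (C i))) (PicF.cl (ClSub.idealMod (C j))) < 0 := by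
  classical
  haveI := CurveCohLib.isNoetherian_of_proper (k := k) (X := X)
  haveI : IsLocallyNoetherian Y := LocallyOfFiniteType.isLocallyNoetherian sY
  have hI := fun i => SurfNef.invertible_ideal k hdim (hCi i) (hCd i)
  have hE := fun i => SurfRows.isEffCartier_of_curve k hdim (hCi i) (hCd i)
  let O₁ : Y.Opens := ⟨({y} : Set Y)ᶜ, hy.isOpen_compl⟩
  let G : Fin r → Fin r → ℤ := fun i j => SurfPairing.pair k (PicF.cl (ClSub.idealMod (C i))) (PicF.cl (ClSub.idealMod (C j)))
  have hoff : ∀ i j, i ≠ j → 0 ≤ G i j := fun i j hij =>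
    SurfRows.pair_curves_nonneg k hdim (hCi i) (hCd i) (hCi j) (hCd j) fun h => hij (hC h)
  have hconnG := SurfRows.graph_connected k hdim C hC hCi hCd hconn.isPreconnected
  have hsub : ∀ i, ((C i).support : Set X) ⊆ π ⁻¹' {y} := fun i x hx =>
    hfib.ge (Set.mem_iUnion.2 ⟨i, hx⟩)
  -- generic points
  have hgy : genericPoint Y ≠ y := fun h => by
    have hu : ({y} : Set Y) = Set.univ := by
      rw [← genericPoint_closure (α := Y), h, hy.closure_eq]
    haveI : Subsingleton Y := ⟨fun a b => by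
      have ha : a ∈ ({y} : Set Y) := hu.ge trivial
      have hb : b ∈ ({y} : Set Y) := hu.ge trivial
      exact ha.trans hb.symm⟩
    have h0 : topologicalKrullDim Y ≤ 0 := topologicalKrullDim_zero_of_discreteTopology _
    rw [hYd] at h0
    exact absurd h0 (by decide)
  obtain ⟨U, hU, hyU, -⟩ := exists_isAffineOpen_mem_and_subset (x := y) (U := ⊤) trivial
  have hgU : genericPoint Y ∈ U := (genericPoint_specializes y).mem_open U.2 hyU
  obtain ⟨g, hg1, hg2⟩ := hU.exists_basicOpen_le (V := O₁) ⟨genericPoint Y, hgy⟩ hgU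
  have hyg : y ∉ Y.basicOpen g := fun h => hg1 h rfl
  let V : X.Opens := π ⁻¹ᵁ U
  let h : Γ(X, V) := π.app U g
  have hbo : π ⁻¹ᵁ Y.basicOpen g = X.basicOpen h := Scheme.preimage_basicOpen π g
  have hgenV : genericPoint X ∈ V := show π (genericPoint X) ∈ U by rw [hgen]; exact hgU
  have hh0 : h ≠ 0 := fun h0 => by
    have h1 : genericPoint X ∈ X.basicOpen h := by
      rw [← hbo]
      show π (genericPoint X) ∈ Y.basicOpen g
      rw [hgen]; exact hg2
    rw [h0, Scheme.basicOpen_zero] at h1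
    exact h1
  haveI : Nonempty V := ⟨⟨_, hgenV⟩⟩
  have hCV : ∀ i, ((C i).support : Set X) ⊆ V := fun i x hx => show π x ∈ U by rw [hsub i hx]; exact hyU
  have hCh : ∀ i, ∀ x ∈ (C i).support, x ∉ X.basicOpen h := fun i x hx hxh => by
    rw [← hbo] at hxh
    exact hyg (hsub i hx ▸ hxh)
  -- a maximal divisor of `h` supported on the curves
  let D : (Fin r → ℕ) → X.IdealSheafData := fun e => ∏ i, C i ^ e i
  have hpow : ∀ i, ∃ N : ℕ, ∀ e, SurfRows.LocMem h (D e) → e i < N := fun i => by
    haveI := hCi i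
    let η := (C i).subschemeι (genericPoint (C i).subscheme)
    have hη : η ∈ (C i).support := (C i).range_subschemeι.le ⟨_, rfl⟩
    let R := X.presheaf.stalk η
    have hgerm : X.presheaf.germ V η (hCV i hη) h ≠ 0 := fun h0 =>
      hh0 (germ_injective_of_isIntegral X η (hCV i hη) (h0.trans (map_zero _).symm))
    obtain ⟨N, hN⟩ : ∃ N, X.presheaf.germ V η (hCV i hη) h ∉ IsLocalRing.maximalIdeal R ^ N := by
      by_contra hcon
      push_neg at hcon
      refine hgerm ?_
      have h1 : X.presheaf.germ V η (hCV i hη) h ∈ ⨅ N, IsLocalRing.maximalIdeal R ^ N := Ideal.mem_iInf.2 hcon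
      rwa [Ideal.iInf_pow_eq_bot_of_isLocalRing _ (IsLocalRing.maximalIdeal.isMaximal R).ne_top, Ideal.mem_bot] at h1
    refine ⟨N, fun e he => ?_⟩
    by_contra hle
    rw [not_lt] at hle
    obtain ⟨W, hxW, hWV, hW⟩ := he η (hCV i hη)
    have h1 : (D e).ideal W ≤ (C i).ideal W ^ N := by
      show (∏ j, C j ^ e j).ideal W ≤ _
      rw [← Finset.mul_prod_erase _ _ (Finset.mem_univ i), Scheme.IdealSheafData.ideal_mul, Pi.mul_apply,
        Scheme.IdealSheafData.ideal_pow, Pi.pow_apply]
      exact Ideal.mul_le_left.trans (Ideal.pow_le_pow_right hle)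
    have h2 : ((C i).ideal W).map (X.presheaf.germ W.1 η hxW).hom ≤ IsLocalRing.maximalIdeal R := by
      refine Ideal.map_le_iff_le_comap.2 fun a ha => ?_
      show _ ∈ IsLocalRing.maximalIdeal R
      rw [IsLocalRing.mem_maximalIdeal, mem_nonunits_iff, ← Scheme.mem_basicOpen]
      intro hb
      exact (Scheme.mem_zeroLocus_iff _ _ _).1 (((C i).coe_support_inter W).le ⟨hη, hxW⟩).1 a ha hb
    refine hN ?_
    have h3 := Ideal.mem_map_of_mem (X.presheaf.germ W.1 η hxW).hom (h1 hW)
    rw [Ideal.map_pow] at h3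
    have h4 := Ideal.pow_right_mono h2 N h3
    rwa [← TopCat.Presheaf.germ_res_apply X.presheaf (homOfLE hWV) η hxW h]
  choose N hN using hpow
  let F : Set (Fin r → ℕ) := {e | SurfRows.LocMem h (D e)}
  have hFfin : F.Finite := (Set.Finite.pi' fun i => Set.finite_Iio (N i)).subset fun e he i => hN i e he
  have hF0 : (0 : Fin r → ℕ) ∈ F := fun x hx => by
    obtain ⟨W, hW, hxW, hWV⟩ := exists_isAffineOpen_mem_and_subset hx
    refine ⟨⟨W, hW⟩, hxW, hWV, ?_⟩
    rw [show D 0 = ⊤ from Finset.prod_eq_one fun i _ => pow_zero _, Scheme.IdealSheafData.ideal_top]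
    trivial
  obtain ⟨e, heF, hemax⟩ := hFfin.exists_maximalFor (fun e => ∑ i, e i) F ⟨0, hF0⟩
  have hnm : ∀ j, ¬ SurfRows.LocMem h (C j * D e) := fun j hj => by
    have h1 : D (e + Pi.single j 1) = C j * D e := by
      simp only [D, Pi.add_apply, pow_add, Finset.prod_mul_distrib]
      rw [mul_comm, Finset.prod_eq_single j (fun b _ hb => by rw [Pi.single_eq_of_ne hb, pow_zero]) (by simp),
        Pi.single_eq_same, pow_one]
    have h2 := hemax (j := e + Pi.single j 1) (show SurfRows.LocMem h (D (e + Pi.single j 1)) by rw [h1]; exact hj)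
    simp only [Pi.add_apply, Finset.sum_add_distrib, Finset.sum_pi_single', Finset.mem_univ, if_true] at h2
    have := h2 (by omega)
    omega
  let t : Multiset X.IdealSheafData := ∑ i, Multiset.replicate (e i) (C i)
  have htD : t.prod = D e := by
    simp only [t, D, Multiset.prod_sum, Multiset.prod_replicate]
  have ht : ∀ A ∈ t, ∃ i, A = C i := fun A hA => by
    obtain ⟨i, -, hi⟩ := Multiset.mem_sum.1 hA
    exact ⟨i, Multiset.eq_of_mem_replicate hi⟩
  have ht' : ∀ A ∈ t, IsIntegral A.subscheme ∧ topologicalKrullDim (A.support : Set X) = 1 := fun A hA => by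
    obtain ⟨i, rfl⟩ := ht A hA
    exact ⟨hCi i, hCd i⟩
  have hDe := SurfRows.eff_prod k hdim t ht'
  rw [htD] at hDe
  have hval : ∀ i, SurfPairing.pair k (PicF.cl (ClSub.idealMod (C i))) (PicF.cl (ClSub.idealMod (D e))) =
      ∑ j, (e j : ℤ) * G i j := fun i => by
    rw [SurfPairing.pair_comm, hDe.2 _ (hI i), ← Multiset.coe_mapAddMonoidHom, map_sum, ← Multiset.coe_sumAddMonoidHom,
      map_sum]
    simp only [Multiset.coe_sumAddMonoidHom, Multiset.coe_mapAddMonoidHom]
    refine Finset.sum_congr rfl fun j _ => ?_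
    rw [Multiset.map_replicate, Multiset.sum_replicate, nsmul_eq_mul, SurfPairing.pair_comm]
  have hlocal := fun i => SurfRows.pair_le_zero_of_fun k hdim (hCi i) (hCd i) hDe.1 (hCV i) h heF (hnm i)
  have hstrict : ∃ i, ∑ j, (e j : ℤ) * G i j < 0 := by
    by_contra hcon
    push_neg at hcon
    have hzero : ∀ i, SurfPairing.pair k (PicF.cl (ClSub.idealMod (C i))) (PicF.cl (ClSub.idealMod (D e))) = 0 :=
      fun i => le_antisymm (hlocal i).1 (by rw [hval]; exact hcon i)
    choose O hxO hOV hO using fun (x : {x : X // π x = y}) => (show ∃ O : X.Opens, x.1 ∈ O ∧ O ≤ V ∧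
        ∀ z ∈ O, z ∉ X.basicOpen h → z ∈ (D e).support by
      obtain ⟨i, hi⟩ := Set.mem_iUnion.1 (hfib.le x.2)
      exact (hlocal i).2 (hzero i) x.1 hi)
    have hcl : IsClosed (π '' ((⨆ x, O x : X.Opens) : Set X)ᶜ) :=
      π.isClosedMap _ (⨆ x, O x : X.Opens).2.isClosed_compl
    have hyZ : y ∈ (⟨(π '' ((⨆ x, O x : X.Opens) : Set X)ᶜ)ᶜ, hcl.isOpen_compl⟩ : Y.Opens) := by
      rintro ⟨x, hx, hxy⟩
      exact hx (Opens.mem_iSup.2 ⟨⟨x, hxy⟩, hxO _⟩)
    obtain ⟨U₂, hU₂, hyU₂, hU₂le⟩ := exists_isAffineOpen_mem_and_subset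
      (show y ∈ U ⊓ (⟨(π '' ((⨆ x, O x : X.Opens) : Set X)ᶜ)ᶜ, hcl.isOpen_compl⟩ : Y.Opens) from ⟨hyU, hyZ⟩)
    let g₂ := Y.presheaf.map (homOfLE (hU₂le.trans inf_le_left : U₂ ≤ U)).op g
    have honly : ∀ z ∈ U₂, z ∉ Y.basicOpen g₂ → z = y := fun z hz hzg => by
      by_contra hzy
      obtain ⟨x, rfl⟩ := hsurj z hzy
      have hxO' : x ∈ (⨆ x, O x : X.Opens) := by
        by_contra hx
        exact (hU₂le hz).2 ⟨x, hx, rfl⟩
      obtain ⟨x₀, hx₀⟩ := Opens.mem_iSup.1 hxO'
      have hxh : x ∉ X.basicOpen h := fun hb => by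
        rw [← hbo] at hb
        exact hzg (by rw [Scheme.basicOpen_res]; exact ⟨hz, hb⟩)
      have hxs := hO x₀ x hx₀ hxh
      rw [← htD] at hxs
      obtain ⟨A, hA, hxA⟩ := SurfRows.exists_mem_support t hxs
      obtain ⟨i, rfl⟩ := ht A hA
      exact hzy (hsub i hxA)
    let p := hU₂.primeIdealOf ⟨y, hyU₂⟩
    have hp : hU₂.fromSpec p = y := hU₂.fromSpec_primeIdealOf _
    have hmem : ∀ q : PrimeSpectrum Γ(Y, U₂), g₂ ∈ q.asIdeal ↔ hU₂.fromSpec q ∉ Y.basicOpen g₂ := fun q => by
      constructor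
      · intro hq hb
        have : q ∈ hU₂.fromSpec ⁻¹ᵁ Y.basicOpen g₂ := hb
        rw [hU₂.fromSpec_preimage_basicOpen] at this
        exact this hq
      · intro hb
        by_contra hq
        refine hb ?_
        have : q ∈ hU₂.fromSpec ⁻¹ᵁ Y.basicOpen g₂ := by
          rw [hU₂.fromSpec_preimage_basicOpen]; exact hq
        exact this
    have hpmem : g₂ ∈ p.asIdeal := (hmem p).2 (by rw [hp, Scheme.basicOpen_res]; exact fun hb => hyg hb.2)
    haveI : IsNoetherianRing Γ(Y, U₂) := IsLocallyNoetherian.component_noetherian ⟨U₂, hU₂⟩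
    have hmin : p.asIdeal ∈ (Ideal.span {g₂}).minimalPrimes :=
      ⟨⟨p.2, (Ideal.span_singleton_le_iff_mem _).2 hpmem⟩, fun q ⟨hq, hqg⟩ _ => by
        have hq' : hU₂.fromSpec ⟨q, hq⟩ = y := honly _
          (hU₂.range_fromSpec.le ⟨_, rfl⟩) ((hmem ⟨q, hq⟩).1 ((Ideal.span_singleton_le_iff_mem _).1 hqg))
        have : (⟨q, hq⟩ : PrimeSpectrum Γ(Y, U₂)) = p := hU₂.fromSpec.isOpenEmbedding.injective (hq'.trans hp.symm)
        exact (congrArg PrimeSpectrum.asIdeal this).ge⟩
    have hh1 := Ideal.height_le_one_of_isPrincipal_of_mem_minimalPrimes (Ideal.span {g₂}) p.asIdeal hmin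
    obtain ⟨b, hb, -, hble⟩ := VarDim.exists_deg_add_stalk sY y
    have hb2 : 2 ≤ b := by
      have h1 := hble _ (genericPoint_specializes y)
      rw [DiagReg.deg_eq_zero sY hy] at h1
      have h2 : ((VarDim.deg sY (genericPoint Y) : ℕ∞) : WithBot ℕ∞) = 2 :=
        (VarDim.topologicalKrullDim_eq_deg_genericPoint sY).symm.trans hYd
      have h2' : ((VarDim.deg sY (genericPoint Y) : ℕ∞)) = 2 := WithBot.coe_injective (h2.trans rfl)
      have h3 : VarDim.deg sY (genericPoint Y) = 2 := ENat.natCast_inj.1 h2'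
      omega
    have h4 := VarDim.ringKrullDim_stalk_fromSpec hU₂ p
    rw [hp, hb, ← PrimeSpectrum.height_eq_orderHeight] at h4
    have h5 : (b : ℕ∞) = p.asIdeal.height := by exact_mod_cast h4
    rw [← h5] at hh1
    have : b ≤ 1 := by exact_mod_cast hh1
    omega
  have hGe : ∀ i, ∑ j, (e j : ℤ) * G i j ≤ 0 := fun i => (hval i) ▸ (hlocal i).1
  have hepos : ∀ i, (0 : ℤ) < e i := by
    by_contra hcon
    push_neg at hcon
    obtain ⟨j₀, hj₀⟩ := hcon
    obtain ⟨i₀, hi₀⟩ := hstrict
    obtain ⟨l, hl⟩ : ∃ l, 0 < e l := by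
      by_contra h0
      push_neg at h0
      refine hi₀.ne (Finset.sum_eq_zero fun j _ => ?_)
      rw [Nat.le_zero.1 (h0 j), Nat.cast_zero, zero_mul]
    obtain ⟨i, hi, j, hj, hij⟩ := hconnG (Finset.univ.filter fun i => 0 < e i) ⟨l, by simpa using hl⟩
      ⟨j₀, by simp; omega⟩
    simp only [Finset.mem_compl, Finset.mem_filter, Finset.mem_univ, true_and] at hi hj
    have h1 := hGe j
    have h2 : (e i : ℤ) * G j i ≤ ∑ l, (e l : ℤ) * G j l :=
      Finset.single_le_sum (f := fun l => (e l : ℤ) * G j l) (fun l _ => by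
        rcases eq_or_ne j l with rfl | hne
        · simp [show e j = 0 by omega]
        · exact mul_nonneg (Int.natCast_nonneg _) (hoff j l hne)) (Finset.mem_univ i)
    have h3 : 1 ≤ G j i := by rw [show G j i = G i j from SurfPairing.pair_comm k _ _]; exact hij
    have h4 : (1 : ℤ) ≤ e i := by exact_mod_cast hi
    nlinarith
  intro a ha

  obtain ⟨hle, heq⟩ := SurfRows.zariski_lemma G (fun i j => SurfPairing.pair_comm k _ _) hoff hconnG
    (fun i => (e i : ℤ)) hepos hGe a
  refine lt_of_le_of_ne hle fun h0 => ?_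
  obtain ⟨hprop, hz⟩ := heq h0
  obtain ⟨i₁, hi₁⟩ := hstrict
  obtain ⟨i₂, hi₂⟩ := Function.ne_iff.1 ha
  refine hi₁.ne (hz i₁ fun h1 => hi₂ ?_)
  have := hprop i₂ i₁
  rw [h1, zero_mul] at this
  exact (mul_eq_zero.1 this).resolve_right (hepos i₁).ne'



/-- An irreducible closed set is the support of an integral subscheme. -/
theorem exists_ideal_of_irreducible {X : Scheme.{u}} {s : Set X} (hs : IsClosed s) (hirr : IsIrreducible s) :
    ∃ C : X.IdealSheafData, IsIntegral C.subscheme ∧ (C.support : Set X) = s := by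
  let C := Scheme.IdealSheafData.vanishingIdeal (⟨s, hs⟩ : Closeds X)
  have hsup : (C.support : Set X) = s := by simp [C]
  haveI : IsReduced C.subscheme := inferInstance
  haveI : IrreducibleSpace C.subscheme := by
    have h : IrreducibleSpace ↥(Set.range C.subschemeι) := by
      rw [C.range_subschemeι, hsup]
      exact Subtype.irreducibleSpace hirr
    let e := C.subschemeι.isEmbedding.toHomeomorph
    exact (irreducibleSpace_def _).2 (by
      have h2 := (IrreducibleSpace.isIrreducible_univ ↥(Set.range C.subschemeι)).image _ e.symm.continuous.continuousOn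
      rwa [Set.image_univ, e.symm.surjective.range_eq] at h2)
  exact ⟨C, isIntegral_of_irreducibleSpace_of_isReduced _, hsup⟩

/-- A proper birational morphism onto a normal scheme does not change functions. -/
theorem isIso_app_of_birational {Z X : Scheme.{u}} [IsIntegral Z] [IsIntegral X] (hn : Pi1.IsNormalScheme X)
    (φ : Z ⟶ X) [IsProper φ] (hbir : IsIso (φ.stalkMap (genericPoint Z))) (W : X.Opens) : IsIso (φ.app W) := by
  have hg := SurfSeq.map_generic φ hbir
  refine Lib.NormalPush.isIso_app hn φ (specializes_of_eq hg) (fun x _ => ?_) W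
  have h1 : Function.Surjective (φ.stalkMap (genericPoint Z)) := by
    haveI := hbir
    exact (ConcreteCategory.bijective_of_isIso (φ.stalkMap (genericPoint Z))).2
  obtain ⟨a, ha⟩ := h1 x
  have hsp : Function.Surjective (X.presheaf.stalkSpecializes (specializes_of_eq hg)) := by
    haveI : IsIso (X.presheaf.stalkSpecializes (specializes_of_eq hg)) :=
      ⟨X.presheaf.stalkSpecializes (specializes_of_eq hg.symm), by simp, by simp⟩
    exact (ConcreteCategory.bijective_of_isIso (X.presheaf.stalkSpecializes (specializes_of_eq hg))).2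
  obtain ⟨b, hb⟩ := hsp a
  refine ⟨b, ?_⟩
  show φ.stalkMap _ (X.presheaf.stalkSpecializes _ b) = x
  rw [hb, ha]

variable (k : Type u) [Field k] {Z : Scheme.{u}} [Z.Over (Spec (CommRingCat.of k))]
  [IsProper (Z ↘ Spec (CommRingCat.of k))] [Smooth (Z ↘ Spec (CommRingCat.of k))] [IsIntegral Z]

include k in
/-- An irreducible closed proper subset of a surface with two points is one-dimensional. -/
theorem dim_eq_one (hdim : topologicalKrullDim Z = 2) {s : Set Z} (hs : IsClosed s) (hirr : IsIrreducible s)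
    (hnt : s.Nontrivial) (hne : s ≠ Set.univ) : topologicalKrullDim s = 1 := by
  refine le_antisymm (SurfRows.dim_le_one_of_ne_univ hdim.le hs hne) ?_
  obtain ⟨a, ha, b, hb, hab⟩ := hnt
  haveI := Subtype.irreducibleSpace hirr
  haveI : JacobsonSpace Z := LocallyOfFiniteType.jacobsonSpace (Z ↘ Spec (CommRingCat.of k))
  obtain ⟨c, hc, hcc⟩ := nonempty_inter_closedPoints ⟨a, ha⟩ hs.isLocallyClosed
  let p : IrreducibleCloseds s := ⟨Subtype.val ⁻¹' {c}, by
    rw [show (Subtype.val ⁻¹' {c} : Set s) = {⟨c, hc⟩} by ext ⟨y, hy⟩; simp]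
    exact isIrreducible_singleton, (mem_closedPoints_iff.1 hcc).preimage continuous_subtype_val⟩
  let t : IrreducibleCloseds s := ⟨Set.univ, IrreducibleSpace.isIrreducible_univ _, isClosed_univ⟩
  have hpt : p < t := lt_of_le_of_ne (fun _ _ => trivial) fun e => by
    have h1 : ∀ w (hw : w ∈ s), w = c := fun w hw =>
      (congrArg SetLike.coe e).ge (show (⟨w, hw⟩ : s) ∈ (t : Set s) from trivial)
    exact hab ((h1 a ha).trans (h1 b hb).symm)
  let l : LTSeries (IrreducibleCloseds s) := (RelSeries.singleton _ p).snoc t hpt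
  exact le_iSup (fun l : LTSeries (IrreducibleCloseds s) => (l.length : WithBot ℕ∞)) l

omit [Smooth (Z ↘ Spec (CommRingCat.of k))] [IsIntegral Z] in
include k in
/-- A curve has more than one point. -/
theorem curve_nontrivial {E : Z.IdealSheafData} (hE : IsCurve E) : (E.support : Set Z).Nontrivial := by
  by_contra h
  rw [Set.not_nontrivial_iff] at h
  haveI := (Set.subsingleton_coe _).2 h
  have h0 : topologicalKrullDim (E.support : Set Z) ≤ 0 := topologicalKrullDim_zero_of_discreteTopology _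
  rw [hE.2] at h0
  exact absurd h0 (by decide)

include k in
/-- A connected closed proper subset containing a curve is a union of curves. -/
theorem exists_curves_cover (hdim : topologicalKrullDim Z = 2) {F : Set Z} (hF : IsClosed F)
    (hne : F ≠ Set.univ) (hconn : _root_.IsPreconnected F) {E : Z.IdealSheafData} (hE : IsCurve E)
    (hEF : (E.support : Set Z) ⊆ F) :
    ∃ (r : ℕ) (C : Fin r → Z.IdealSheafData), Function.Injective C ∧ (∀ i, IsCurve (C i)) ∧
      F = ⋃ i, ((C i).support : Set Z) := by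
  classical
  haveI := CurveCohLib.isNoetherian_of_proper (k := k) (X := Z)
  obtain ⟨S, hSf, hSc, hSi, hS⟩ := NoetherianSpace.exists_finite_set_isClosed_irreducible hF
  let G := ⋃₀ {s ∈ S | s.Nontrivial}
  let H := ⋃₀ {s ∈ S | ¬ s.Nontrivial}
  have hGc : IsClosed G := by
    show IsClosed (⋃₀ {s ∈ S | s.Nontrivial})
    rw [Set.sUnion_eq_biUnion]
    exact (hSf.subset fun s (hs : s ∈ {s ∈ S | s.Nontrivial}) => hs.1).isClosed_biUnion fun s hs => hSc s hs.1
  have hGF : G ⊆ F := fun z ⟨s, hs, hz⟩ => hS.ge ⟨s, hs.1, hz⟩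
  have hHfin : H.Finite := Set.Finite.sUnion (hSf.subset fun s hs => hs.1) fun s hs =>
    (Set.not_nontrivial_iff.1 hs.2).finite
  have hHpt : ∀ z ∈ H, IsClosed ({z} : Set Z) := by
    rintro z ⟨s, hs, hz⟩
    rw [← (Set.not_nontrivial_iff.1 hs.2).eq_singleton_of_mem hz]
    exact hSc s hs.1
  have hsub : F ⊆ G ∪ H := fun z hz => by
    obtain ⟨s, hs, hzs⟩ := hS.le hz
    by_cases hn : s.Nontrivial
    · exact Or.inl ⟨s, ⟨hs, hn⟩, hzs⟩
    · exact Or.inr ⟨s, ⟨hs, hn⟩, hzs⟩
  have hFG : F = G := by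
    refine subset_antisymm (fun z hz => ?_) hGF
    by_contra hzG
    let H' := H \ G
    have hH'c : IsClosed H' := by
      rw [← Set.biUnion_of_singleton H']
      exact (hHfin.subset Set.sdiff_subset).isClosed_biUnion fun w hw => hHpt w hw.1
    have hzH : z ∈ H' := ⟨(hsub hz).resolve_left hzG, hzG⟩
    have hsub' : F ⊆ G ∪ H' := fun w hw => by
      by_cases hwG : w ∈ G
      · exact Or.inl hwG
      · exact Or.inr ⟨(hsub hw).resolve_left hwG, hwG⟩
    by_cases hG0 : (F ∩ G).Nonempty
    · obtain ⟨w, -, hwG, hwH⟩ := isPreconnected_closed_iff.1 hconn _ _ hGc hH'c hsub' hG0 ⟨z, hz, hzH⟩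
      exact hwH.2 hwG
    · have hFH : F ⊆ H := fun w hw => (hsub hw).resolve_left fun hwG => hG0 ⟨w, hw, hwG⟩
      have hzz : F ⊆ {z} := fun w hw => by
        by_contra hwz
        have hc : IsClosed (H \ {z}) := by
          rw [← Set.biUnion_of_singleton (H \ {z})]
          exact (hHfin.subset Set.sdiff_subset).isClosed_biUnion fun w' hw' => hHpt w' hw'.1
        obtain ⟨v, -, hv, hv'⟩ := isPreconnected_closed_iff.1 hconn {z} (H \ {z}) (hHpt z hzH.1) hc
          (fun v hv => by
            by_cases hvz : v = z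
            · exact Or.inl hvz
            · exact Or.inr ⟨hFH hv, hvz⟩)
          ⟨z, hz, rfl⟩ ⟨w, hw, hFH hw, hwz⟩
        exact hv'.2 hv
      exact (curve_nontrivial k hE).not_subsingleton (Set.subsingleton_singleton.anti (hEF.trans hzz))
  obtain ⟨r, g, hginj, hg⟩ : ∃ r, ∃ g : Fin r → Set Z, Function.Injective g ∧ Set.range g = {s ∈ S | s.Nontrivial} := by
    exact (hSf.subset fun s (hs : s ∈ {s ∈ S | s.Nontrivial}) => hs.1).fin_param
  have hmem : ∀ i, g i ∈ S ∧ (g i).Nontrivial := fun i => hg.le ⟨i, rfl⟩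
  choose C hCi hCs using fun i => exists_ideal_of_irreducible (hSc _ (hmem i).1) (hSi _ (hmem i).1)
  refine ⟨r, C, fun i j h => hginj (by rw [← hCs i, ← hCs j, h]), fun i => ⟨hCi i, ?_⟩, ?_⟩
  · rw [hCs i]
    refine dim_eq_one k hdim (hSc _ (hmem i).1) (hSi _ (hmem i).1) (hmem i).2 fun h => hne ?_
    exact Set.univ_subset_iff.1 fun z _ => hS.ge ⟨g i, (hmem i).1, by rw [h]; trivial⟩
  · rw [hFG]
    ext z
    constructor
    · rintro ⟨s, hs, hz⟩
      obtain ⟨i, rfl⟩ := hg.ge hs
      exact Set.mem_iUnion.2 ⟨i, by rw [hCs i]; exact hz⟩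
    · intro hz
      obtain ⟨i, hi⟩ := Set.mem_iUnion.1 hz
      rw [hCs i] at hi
      exact ⟨g i, hg.le ⟨i, rfl⟩, hi⟩

include k in
/-- A curve contracted to a point of a normal surface has negative self-intersection. -/
theorem self_neg [IsAlgClosed k] (hdim : topologicalKrullDim Z = 2) {X : Scheme.{u}}
    (sX : X ⟶ Spec (CommRingCat.of k)) [LocallyOfFiniteType sX] [IsIntegral X]
    (hdimX : topologicalKrullDim X = 2) (hn : Pi1.IsNormalScheme X) (φ : Z ⟶ X) [IsProper φ]
    (hbir : IsIso (φ.stalkMap (genericPoint Z))) {E : Z.IdealSheafData} (hE : IsCurve E) (x : X)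
    (hEx : φ.base '' (E.support : Set Z) = {x}) : slf k E < 0 := by
  classical
  haveI := hE.1
  have hx : IsClosed ({x} : Set X) := hEx ▸ φ.isClosedMap _ E.support.isClosed
  have hg := SurfSeq.map_generic φ hbir
  have hsurj : ∀ z, z ≠ x → ∃ w, φ w = z := fun z _ =>
    (genericPoint_specializes z).mem_closed φ.isClosedMap.isClosed_range ⟨genericPoint Z, hg⟩
  haveI : IsLocallyNoetherian X := LocallyOfFiniteType.isLocallyNoetherian sX
  haveI := ZarConn.connectedSpace_fibre φ (isIso_app_of_birational hn φ hbir) x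
  have hconn : _root_.IsPreconnected (φ ⁻¹' ({x} : Set X)) := by
    rw [← φ.range_fiberι x]
    exact isPreconnected_range (φ.fiberι x).continuous
  have hEF : (E.support : Set Z) ⊆ φ ⁻¹' {x} := fun z hz => hEx ▸ ⟨z, hz, rfl⟩
  have hne : φ ⁻¹' ({x} : Set X) ≠ Set.univ := fun h => by
    have h1 : φ (genericPoint Z) = x := h.ge (Set.mem_univ _)
    rw [hg] at h1
    have hu : ({x} : Set X) = Set.univ := by
      rw [← genericPoint_closure (α := X), h1, hx.closure_eq]
    haveI : Subsingleton X := ⟨fun a b => (hu.ge (Set.mem_univ a) : a = x).trans (hu.ge (Set.mem_univ b) : b = x).symm⟩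
    have h0 : topologicalKrullDim X ≤ 0 := topologicalKrullDim_zero_of_discreteTopology _
    rw [hdimX] at h0
    exact absurd h0 (by decide)
  obtain ⟨r, C, hC, hCc, hF⟩ :=
    exists_curves_cover k hdim (hx.preimage φ.continuous) hne hconn hE hEF
  obtain ⟨i, rfl⟩ := SurfRows.eq_of_subset_union k C (fun i => (hCc i).1) (fun i => (hCc i).2) hE.1 hE.2
    (hEF.trans hF.le)
  have hne' : (φ ⁻¹' ({x} : Set X)).Nonempty := (curve_nontrivial k hE).nonempty.mono hEF
  have h := negDef_fibre k hdim sX hdimX φ x hx hsurj hg r C hC (fun i => (hCc i).1) (fun i => (hCc i).2) hF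
    (hF ▸ ⟨hne', hconn⟩) (Pi.single i 1) (by simp)
  rw [Finset.sum_eq_single i (fun j _ hj => by simp [Pi.single_eq_of_ne hj]) (by simp),
    Finset.sum_eq_single i (fun j _ hj => by simp [Pi.single_eq_of_ne hj]) (by simp)] at h
  simpa [slf] using h

end Groth.Agent.SurfMin
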