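import Groth.Agent.SurfMin.Step
import Groth.Agent.SurfRows.BlowPt
import Groth.Agent.Sol.Seq
import Groth.Agent.CurveCohLib.RegularCurve
import Groth.Agent.VarDim.Top
import Groth.Agent.GrpSchLib.SmoothReduced

/-!
Images of curves under sequences of contractions over a field.
-/

set_option autoImplicit false
set_option linter.style.haveILetI false
set_option linter.unusedSectionVars false
set_option backward.isDefEq.respectTransparency false
set_option backward.isDefEq.respectTransparency.types false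
set_option maxHeartbeats 800000

universe u

open CategoryTheory CategoryTheory.Limits AlgebraicGeometry TopologicalSpace
open Groth.Agent.H23

noncomputable section

namespace Groth.Agent.SurfMin

open Groth.Agent

attribute [local instance] PicMul.clMonoid

variable (k : Type u) [Field k]

include k in
/-- Birational schemes of finite type have the same dimension. -/
theorem dim_eq_of_birational {Y Z : Scheme.{u}} [IsIntegral Y] [IsIntegral Z] (φ : Y ⟶ Z)
    [LocallyOfFiniteType φ] (q : Z ⟶ Spec (CommRingCat.of k)) [LocallyOfFiniteType q]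
    (hbir : IsIso (φ.stalkMap (genericPoint Y))) : topologicalKrullDim Y = topologicalKrullDim Z := by
  obtain ⟨W, hW, hOI⟩ := SurfSeq.exists_open φ hbir
  haveI := hOI
  have hη : genericPoint Y ∈ W := (genericPoint_specializes _).mem_open W.2 hW.some_mem
  have hfd : ∀ {A B : Scheme.{u}} (j : A ⟶ B) [IsOpenImmersion j] (z : A), VarDim.fdeg j z = 0 := fun j _ z => by
    rw [VarDim.fdeg, VarDim.rdeg_preimmersion, map_zero]
  have e1 := VarDim.deg_comp_eq W.ι (φ ≫ q) ⟨_, hη⟩
  have e2 := VarDim.deg_comp_eq (W.ι ≫ φ) q ⟨_, hη⟩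
  rw [hfd, add_zero] at e1 e2
  rw [VarDim.deg_congr (Category.assoc W.ι φ q) ⟨_, hη⟩, e1] at e2
  rw [VarDim.topologicalKrullDim_eq_deg_genericPoint (φ ≫ q), VarDim.topologicalKrullDim_eq_deg_genericPoint q,
    ← SurfSeq.map_generic φ hbir]
  exact congrArg (fun n : ℕ => ((n : ℕ∞) : WithBot ℕ∞)) e2

/-- The data of a smooth proper surface. -/
structure IsSurf (S : Scheme.{u}) [S.Over (Spec (CommRingCat.of k))] : Prop where
  proper : IsProper (S ↘ Spec (CommRingCat.of k))
  smooth : Smooth (S ↘ Spec (CommRingCat.of k))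
  int : IsIntegral S
  dim : topologicalKrullDim S = 2

theorem IsSurf.regular {S : Scheme.{u}} [S.Over (Spec (CommRingCat.of k))] (h : IsSurf k S) (x : S) :
    IsRegularLocalRing (S.presheaf.stalk x) :=
  haveI := h.smooth
  GrpSchLib.isRegularLocalRing_stalk_of_smooth (S ↘ Spec (CommRingCat.of k)) x

theorem IsSurf.noeth {S : Scheme.{u}} [S.Over (Spec (CommRingCat.of k))] (h : IsSurf k S) : IsNoetherian S :=
  haveI := h.proper
  CurveCohLib.isNoetherian_of_proper (k := k) (X := S)

/-- The source of a sequence of contractions over a smooth proper surface is one. -/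
theorem surf_of_seq [IsAlgClosed k] {Y Z : Scheme.{u}} [Y.Over (Spec (CommRingCat.of k))] [Z.Over (Spec (CommRingCat.of k))]
    {r : Y ⟶ Z} (hr : Models.IsContractionSeq r) (hk : r ≫ (Z ↘ Spec (CommRingCat.of k)) = Y ↘ Spec (CommRingCat.of k))
    (hZ : IsSurf k Z) : IsSurf k Y ∧ IsProper r ∧ IsIso (@Scheme.Hom.stalkMap Y Z r
      (haveI := hZ.int; haveI := hZ.noeth k; haveI := (Sol.of_seq hr (hZ.regular k)).1; genericPoint Y)) := by
  haveI := hZ.int
  haveI := hZ.noeth k
  haveI := hZ.proper
  obtain ⟨hint, hN, hreg, hbir, hP, -⟩ := Sol.of_seq hr (hZ.regular k)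
  haveI := hint
  haveI := hP
  haveI hpY : IsProper (Y ↘ Spec (CommRingCat.of k)) := by rw [← hk]; infer_instance
  exact ⟨⟨hpY, CurveCohLib.RegularCurve.smooth_of_regular k fun x _ => hreg x, hint,
    (dim_eq_of_birational k r (Z ↘ Spec (CommRingCat.of k)) hbir).trans hZ.dim⟩, hP, hbir⟩

variable {S : Scheme.{u}} [S.Over (Spec (CommRingCat.of k))]

/-- The Euler characteristic of the structure sheaf of a curve. -/
def ec (C : S.IdealSheafData) : ℤ :=
  Curv2.euler k S (Coh.structureModule S) - Curv2.euler k S (ClSub.idealMod C)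

theorem ec_eq [IsProper (S ↘ Spec (CommRingCat.of k))] (C : S.IdealSheafData) :
    letI : C.subscheme.Over (Spec (CommRingCat.of k)) := ⟨C.subschemeι ≫ (S ↘ (Spec (CommRingCat.of k)))⟩
    ec k C = Curv2.euler k C.subscheme (Coh.structureModule C.subscheme) := by
  have h := CurveOnSurf.euler_ideal (k := k) C.subschemeι
  rw [Scheme.IdealSheafData.ker_subschemeι] at h
  unfold ec
  linarith

variable [IsAlgClosed k] [IsProper (S ↘ Spec (CommRingCat.of k))] [Smooth (S ↘ Spec (CommRingCat.of k))] [IsIntegral S]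

/-- Adjunction. -/
theorem adj_ec (hdim : topologicalKrullDim S = 2) {W : S.Modules}
    (hW : ExtPow.IsExtPow 2 (Omega.sheaf (S ↘ Spec (CommRingCat.of k))) W) {C : S.IdealSheafData} (hC : IsCurve C) :
    2 * ec k C = SurfPairing.pair k (PicF.cl (ClSub.idealMod C)) (PicF.cl W) - slf k C := by
  haveI := hC.1
  rw [ec_eq]
  exact (SurfAdj.adjunction k hdim hW hC.2).2

/-- The Euler characteristic of a rational curve. -/
theorem ec_of_h1 (hdim : topologicalKrullDim S = 2) {C : S.IdealSheafData} (hC : IsCurve C)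
    (h : Subsingleton (Coh.HH C.subscheme (Coh.structureModule C.subscheme) 1)) : ec k C = 1 := by
  haveI := hC.1
  letI : C.subscheme.Over (Spec (CommRingCat.of k)) := ⟨C.subschemeι ≫ (S ↘ (Spec (CommRingCat.of k)))⟩
  haveI : IsProper (C.subscheme ↘ Spec (CommRingCat.of k)) :=
    inferInstanceAs (IsProper (C.subschemeι ≫ (S ↘ (Spec (CommRingCat.of k)))))
  rw [ec_eq, SurfAdj.euler_curve_eq k C.subscheme (SurfRows.topologicalKrullDim_subscheme.trans hC.2).le,
    Module.finrank_zero_of_subsingleton (M := Coh.HH C.subscheme (Coh.structureModule C.subscheme) 1)]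
  simp

/-- A curve with Euler characteristic one is rational. -/
theorem h1_of_ec (hdim : topologicalKrullDim S = 2) {C : S.IdealSheafData} (hC : IsCurve C) (h : ec k C = 1) :
    Subsingleton (Coh.HH C.subscheme (Coh.structureModule C.subscheme) 1) := by
  haveI := hC.1
  letI : C.subscheme.Over (Spec (CommRingCat.of k)) := ⟨C.subschemeι ≫ (S ↘ (Spec (CommRingCat.of k)))⟩
  haveI : IsProper (C.subscheme ↘ Spec (CommRingCat.of k)) :=
    inferInstanceAs (IsProper (C.subschemeι ≫ (S ↘ (Spec (CommRingCat.of k)))))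
  haveI := CurveCohLib.isNoetherian_of_proper (k := k) (X := C.subscheme)
  haveI := CurveCohLib.finite_HH (k := k) (QCoh.isCoh_structureModule' (X := C.subscheme)) 1
  rw [ec_eq, SurfAdj.euler_curve_eq k C.subscheme (SurfRows.topologicalKrullDim_subscheme.trans hC.2).le] at h
  refine (Module.finrank_zero_iff (R := k)).1 ?_
  omega

/-- Under an isomorphism a curve is the preimage of a curve. -/
theorem exists_comap_of_iso {Y Z : Scheme.{u}} [Y.Over (Spec (CommRingCat.of k))] [Z.Over (Spec (CommRingCat.of k))]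
    (e : Y ⟶ Z) [IsIso e] (hY : IsSurf k Y) (hZ : IsSurf k Z) {E : Y.IdealSheafData} (hE : IsCurve E) :
    ∃ C : Z.IdealSheafData, IsCurve C ∧ (C.support : Set Z) = e.base '' (E.support : Set Y) ∧ C.comap e = E := by
  haveI := hY.proper; haveI := hY.smooth; haveI := hY.int
  haveI := hZ.proper; haveI := hZ.smooth; haveI := hZ.int
  haveI := hE.1
  have hirr' : IsIrreducible (E.support : Set Y) := by
    rw [← Scheme.IdealSheafData.range_subschemeι, ← Set.image_univ]
    exact (IrreducibleSpace.isIrreducible_univ _).image _ E.subschemeι.continuous.continuousOn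
  obtain ⟨C, hCi, hCs⟩ := exists_ideal_of_irreducible (e.isClosedMap _ E.support.isClosed)
    (hirr'.image _ e.continuous.continuousOn)
  haveI := hCi
  have hinj : Function.Injective e.base := e.homeomorph.injective
  have hnt : ((C.support : Set Z)).Nontrivial := by
    rw [hCs]
    exact (curve_nontrivial k hE).image hinj
  have hCd : topologicalKrullDim (C.support : Set Z) = 1 := by
    refine dim_eq_one k hZ.dim C.support.isClosed (hCs ▸ hirr'.image _ e.continuous.continuousOn) hnt fun h => ?_
    have h2 := hE.2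
    rw [show (E.support : Set Y) = Set.univ from by
        rw [← hinj.preimage_image (E.support : Set Y), ← hCs, h, Set.preimage_univ],
      (Homeomorph.Set.univ Y).isHomeomorph.topologicalKrullDim_eq, hY.dim] at h2
    exact absurd h2 (by decide)
  have hEC : C.comap e = E := by
    let K := C.comap e
    have hker : (pullback.fst e C.subschemeι).ker = K := by
      show _ = C.comap e
      conv_rhs => rw [← C.ker_subschemeι]
      exact Scheme.IdealSheafData.ker_fst_of_isClosedImmersion C.subschemeι e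
    have hker' : (pullback.fst e C.subschemeι).ker = K.subschemeι.ker := by
      rw [hker, Scheme.IdealSheafData.ker_subschemeι]
    let ρ : K.subscheme ⟶ pullback e C.subschemeι :=
      IsClosedImmersion.lift (pullback.fst e C.subschemeι) K.subschemeι hker'.le
    haveI : IsIso ρ := IsClosedImmersion.isIso_lift _ K.subschemeι hker'
    haveI : Nonempty K.subscheme := ⟨(ρ ≫ pullback.snd e C.subschemeι).homeomorph.symm (genericPoint C.subscheme)⟩
    haveI : IsIntegral K.subscheme := isIntegral_of_isOpenImmersion (ρ ≫ pullback.snd e C.subschemeι)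
    have hKs : (K.support : Set Y) = E.support := by
      rw [Scheme.IdealSheafData.support_comap, Closeds.coe_preimage, hCs, hinj.preimage_image]
    exact SurfNegDef.eq_of_support_subset k (hKs.symm ▸ hE.2) hE.2 hKs.le
  exact ⟨C, ⟨hCi, hCd⟩, hCs, hEC⟩

/-- The image of a curve under a sequence of contractions. -/
theorem image_seq {Y : Scheme.{u}} {Z : Scheme.{u}} {r : Y ⟶ Z} (hr : Models.IsContractionSeq r) :
    ∀ [Y.Over (Spec (CommRingCat.of k))] [Z.Over (Spec (CommRingCat.of k))],
      r ≫ (Z ↘ Spec (CommRingCat.of k)) = Y ↘ Spec (CommRingCat.of k) → IsSurf k Z →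
      ∀ E : Y.IdealSheafData, IsCurve E → (∃ z, r.base '' (E.support : Set Y) = {z}) ∨
        ∃ (C : Z.IdealSheafData) (a b : ℤ), IsCurve C ∧ (C.support : Set Z) = r.base '' (E.support : Set Y) ∧
          slf k C = slf k E + a ∧ 2 * ec k C = 2 * ec k E + b - a ∧ 0 ≤ b ∧ b ≤ a := by
  induction hr with
  | @iso Y Z e =>
    intro _ _ hk hZ E hE
    obtain ⟨hY, -, hbir⟩ := surf_of_seq k (Models.IsContractionSeq.iso e) hk hZ
    haveI := hY.proper; haveI := hY.smooth; haveI := hY.int
    haveI := hZ.proper; haveI := hZ.smooth; haveI := hZ.int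
    obtain ⟨C, hCc, hCs, hEC⟩ := exists_comap_of_iso k e.hom hY hZ hE
    obtain ⟨H, hH⟩ := SurfAdj.exists_ample k hZ.dim
    have hgen := SurfSeq.map_generic e.hom hbir
    have key := fun {N : Z.Modules} (hN : PicF.IsInvertible N) =>
      SurfRows.euler_pullback_sub (L := N) k e.hom hk ⊤ hZ.dim.le hY.dim.le hgen hH (by simp) hN
    obtain ⟨hCi, hCd⟩ := hCc
    have hCc : IsCurve C := ⟨hCi, hCd⟩
    have hI := SurfNef.invertible_ideal k hZ.dim hCi hCd
    obtain ⟨φ⟩ := H26.InterDiv.nonempty_pullback_idealMod e.hom C (SurfRows.isEffCartier_of_curve k hZ.dim hCi hCd)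
      (hEC.symm ▸ SurfRows.isEffCartier_of_curve k hY.dim hE.1 hE.2)
    rw [hEC] at φ
    have h1 := key hI
    have h2 := key (PicMul.isInvertible_tensor hI hI)
    rw [← SurfPairing.χ_cl, ← SurfPairing.χ_cl, ← SurfPairing.χ_cl, ← SurfPairing.χ_cl] at h1 h2
    have h3 : PicF.cl ((Scheme.Modules.pullback e.hom).obj (ClSub.idealMod C)) = PicF.cl (ClSub.idealMod E) :=
      PicMul.cl_eq_iff.2 ⟨φ⟩
    have h4 : PicF.cl ((Scheme.Modules.pullback e.hom).obj (CohB1.tensorMod (ClSub.idealMod C) (ClSub.idealMod C))) =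
        PicF.cl (ClSub.idealMod E) * PicF.cl (ClSub.idealMod E) := by
      have hc : PicF.pullCl e.hom (PicF.cl (ClSub.idealMod C) * PicF.cl (ClSub.idealMod C)) =
          PicF.pullCl e.hom (PicF.cl (ClSub.idealMod C)) * PicF.pullCl e.hom (PicF.cl (ClSub.idealMod C)) :=
        PicMul.pullCl_mul e.hom _ _
      rw [← h3]
      refine Eq.trans ?_ hc
      rw [← PicMul.cl_tensor]
      rfl
    rw [h4, PicMul.cl_tensor] at h2
    rw [h3] at h1
    simp only [← PicMul.one_def] at h1 h2
    refine Or.inr ⟨C, 0, 0, hCc, hCs, ?_, ?_, le_rfl, le_rfl⟩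
    · simp only [slf, SurfPairing.pair]
      linarith
    · unfold ec
      simp only [← SurfPairing.χ_cl, ← PicMul.one_def]
      linarith
  | @step Y V Z G ι b r hι hG hb hr ih =>
    intro _ _ hk hZ E hE
    obtain ⟨hY, -, -⟩ := surf_of_seq k (Models.IsContractionSeq.step ι b r hι hG hb hr) hk hZ
    letI : V.Over (Spec (CommRingCat.of k)) := ⟨r ≫ (Z ↘ Spec (CommRingCat.of k))⟩
    obtain ⟨hV, -, -⟩ := surf_of_seq k hr rfl hZ
    haveI := hY.proper; haveI := hY.smooth; haveI := hY.int
    haveI := hV.proper; haveI := hV.smooth; haveI := hV.int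
    obtain ⟨-, -, P, hP, -, -, -, hπ⟩ := hb
    have hover : Y ↘ Spec (CommRingCat.of k) = b ≫ (V ↘ Spec (CommRingCat.of k)) := by
      rw [← hk, Category.assoc]; rfl
    by_cases hpt : b.base '' (E.support : Set Y) ⊆ {P}
    · refine Or.inl ⟨r P, ?_⟩
      obtain ⟨z, hz⟩ := (curve_nontrivial k hE).nonempty
      ext w
      constructor
      · rintro ⟨a, ha, rfl⟩
        show (b ≫ r) a = r P
        rw [Scheme.Hom.comp_apply, show b a = P from hpt ⟨a, ha, rfl⟩]
      · rintro rfl
        exact ⟨z, hz, by rw [Scheme.Hom.comp_apply, show b z = P from hpt ⟨z, hz, rfl⟩]⟩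
    obtain ⟨C₁, m, hC₁, hC₁s, htot⟩ := exists_image_curve k P hP b hover hπ hV.dim hY.dim hE hpt
    haveI := CurveFin.smoothOfRelativeDimension_of_dim (f := V ↘ Spec (CommRingCat.of k)) (d := 2) hV.dim
    haveI := CurveFin.smoothOfRelativeDimension_of_dim (f := Y ↘ Spec (CommRingCat.of k)) (d := 2) hY.dim
    obtain ⟨W, -, hW⟩ := H28.ExtSh.exists_extPow (m := 2)
      (Synt29.DRVanish.isFinLocFree_omega (V ↘ Spec (CommRingCat.of k)))
    obtain ⟨W', -, hW'⟩ := H28.ExtSh.exists_extPow (m := 2)
      (Synt29.DRVanish.isFinLocFree_omega (Y ↘ Spec (CommRingCat.of k)))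
    obtain ⟨hs, hp⟩ := blowPt_strict_pair k P hP b hover hπ hV.dim hY.dim hW hW' C₁
      (SurfNef.invertible_ideal k hV.dim hC₁.1 hC₁.2) E (SurfNef.invertible_ideal k hY.dim hE.1 hE.2) m htot
    have ha := adj_ec k hY.dim hW' hE
    have hc := adj_ec k hV.dim hW hC₁
    have hm : (m : ℤ) ≤ (m : ℤ) * m := by
      rcases Nat.eq_zero_or_pos m with rfl | h0
      · simp
      · exact le_mul_of_one_le_left (by positivity) (by exact_mod_cast h0)
    have himg : (b ≫ r).base '' (E.support : Set Y) = r.base '' (C₁.support : Set V) := by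
      rw [hC₁s, Set.image_image]
      rfl
    rcases ih rfl hZ C₁ hC₁ with ⟨z, hz⟩ | ⟨C, a, c, hC, hCs, h1, h2, h3, h4⟩
    · exact Or.inl ⟨z, himg.trans hz⟩
    · refine Or.inr ⟨C, a + (m : ℤ) * m, c + m, hC, hCs.trans himg.symm, by linarith, by linarith, by positivity, by linarith⟩

end Groth.Agent.SurfMin
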