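import Groth.Agent.SurfMin.Neg
import Groth.Agent.SurfRows.StrictT
import Groth.Agent.PointBlow.Step

/-!
The image of a curve under the blowing up of a point.
-/

set_option autoImplicit false
set_option linter.style.haveILetI false
set_option linter.unusedSectionVars false
set_option backward.isDefEq.respectTransparency false
set_option backward.isDefEq.respectTransparency.types false
set_option maxHeartbeats 800000

universe u

open CategoryTheory CategoryTheory.Limits AlgebraicGeometry TopologicalSpace
open Groth.Agent.H23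

noncomputable section

namespace Groth.Agent.SurfMin

open Groth.Agent

attribute [local instance] PicMul.clMonoid

variable (k : Type u) [Field k] [IsAlgClosed k] {X : Scheme.{u}} [X.Over (Spec (CommRingCat.of k))]
  [IsProper (X ↘ Spec (CommRingCat.of k))] [Smooth (X ↘ Spec (CommRingCat.of k))] [IsIntegral X]
  (P : X) (hP : IsClosed ({P} : Set X)) {X' : Scheme.{u}} [X'.Over (Spec (CommRingCat.of k))]
  [IsProper (X' ↘ Spec (CommRingCat.of k))] [Smooth (X' ↘ Spec (CommRingCat.of k))] [IsIntegral X']
  (π : X' ⟶ X) (hover : X' ↘ Spec (CommRingCat.of k) = π ≫ (X ↘ Spec (CommRingCat.of k)))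
  (hπ : BlowUp.IsBlowUp π (Scheme.IdealSheafData.vanishingIdeal ⟨{P}, hP⟩))

include hover hπ in
/-- Intersection numbers of a strict transform. -/
theorem blowPt_strict_pair (hdim : topologicalKrullDim X = 2) (hdim' : topologicalKrullDim X' = 2)
    {W : X.Modules} (hW : ExtPow.IsExtPow 2 (Omega.sheaf (X ↘ (Spec (CommRingCat.of k)))) W)
    {W' : X'.Modules} (hW' : ExtPow.IsExtPow 2 (Omega.sheaf (X' ↘ (Spec (CommRingCat.of k)))) W')
    (C : X.IdealSheafData) (hCi : PicF.IsInvertible (ClSub.idealMod C))
    (C' : X'.IdealSheafData) (hC'i' : PicF.IsInvertible (ClSub.idealMod C'))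
    (m : ℕ) (hm : C.comap π = C' * BlowUp.exceptional π (Scheme.IdealSheafData.vanishingIdeal ⟨{P}, hP⟩) ^ m) :
    slf k C' = slf k C - (m : ℤ) * m ∧
      SurfPairing.pair k (PicF.cl (ClSub.idealMod C')) (PicF.cl W') =
        SurfPairing.pair k (PicF.cl (ClSub.idealMod C)) (PicF.cl W) - m := by
  let I := BlowUp.exceptional π (Scheme.IdealSheafData.vanishingIdeal ⟨{P}, hP⟩)
  obtain ⟨hIi, h0, h1⟩ := SurfRows.blowPt_exc k P hP π hover hπ hdim hdim'
  obtain ⟨H, hH⟩ := SurfAdj.exists_ample k hdim
  have hWi := SurfAdj.isInvertible_W k hdim hW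
  have hW'i := SurfAdj.isInvertible_W k hdim' hW'
  have hπW := PicClLib.isInvertible_pullback π hWi
  have hCc : BlowUp.IsEffCartierIdeal C := (S8914.result C).1 hCi
  have hC'c : BlowUp.IsEffCartierIdeal C' := (S8914.result C').1 hC'i'
  have hIc : BlowUp.IsEffCartierIdeal I := hπ.1
  have hpow : ∀ j : ℕ, BlowUp.IsEffCartierIdeal (I ^ j) ∧
      PicF.cl (ClSub.idealMod (I ^ j)) = PicF.cl (ClSub.idealMod I) ^ j := by
    intro j
    induction j with
    | zero => exact ⟨by rw [pow_zero, Scheme.IdealSheafData.one_eq_top]; exact H26.IdealCl.isEffCartier_top, by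
        rw [pow_zero, pow_zero]; exact H26.IdealCl.cl_one⟩
    | succ j ih => exact ⟨by rw [pow_succ']; exact H26.IdealCl.isEffCartier_mul ih.1 hIc, by
        rw [pow_succ', pow_succ', H26.IdealCl.cl_mul _ I hIc, ih.2]⟩
  have hCπc : BlowUp.IsEffCartierIdeal (C.comap π) := hm ▸ H26.IdealCl.isEffCartier_mul (hpow m).1 hC'c
  obtain ⟨e⟩ := H26.InterDiv.nonempty_pullback_idealMod π C hCc hCπc
  have hπC := PicClLib.isInvertible_pullback π hCi
  have hc : PicF.cl ((Scheme.Modules.pullback π).obj (ClSub.idealMod C)) =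
      PicF.cl (ClSub.idealMod C') * PicF.cl (ClSub.idealMod I) ^ m :=
    (PicMul.cl_eq_iff.2 ⟨e⟩).trans (by rw [hm, H26.IdealCl.cl_mul _ _ hC'c, (hpow m).2])
  have hK := SurfRows.blowPt_canonical k P hP π hover hπ hdim hdim' hW hW'
  have hlin : ∀ {A : X'.Modules}, PicF.IsInvertible A →
      SurfPairing.pair k (PicF.cl A) (PicF.cl ((Scheme.Modules.pullback π).obj (ClSub.idealMod C))) =
        SurfPairing.pair k (PicF.cl A) (PicF.cl (ClSub.idealMod C')) +
          m * SurfPairing.pair k (PicF.cl A) (PicF.cl (ClSub.idealMod I)) := by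
    intro A hA
    rw [hc]
    have : ∀ j : ℕ, ∀ {B : X'.Modules}, PicF.IsInvertible B →
        SurfPairing.pair k (PicF.cl A) (PicF.cl B * PicF.cl (ClSub.idealMod I) ^ j) =
          SurfPairing.pair k (PicF.cl A) (PicF.cl B) + j * SurfPairing.pair k (PicF.cl A) (PicF.cl (ClSub.idealMod I)) := by
      intro j
      induction j with
      | zero => intro B hB; simp
      | succ j ih =>
        intro B hB
        have := ih (PicMul.isInvertible_tensor hB hIi)
        rw [PicMul.cl_tensor, SurfPairing.pair_mul k hdim'.le hA hB hIi] at this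
        rw [pow_succ', ← mul_assoc, this]
        push_cast
        ring
    exact this m hC'i'
  have hI2 : SurfPairing.pair k (PicF.cl (ClSub.idealMod I)) (PicF.cl (ClSub.idealMod I)) = -1 := h1
  have a1 := hlin hIi
  rw [show SurfPairing.pair k (PicF.cl (ClSub.idealMod I))
    (PicF.cl ((Scheme.Modules.pullback π).obj (ClSub.idealMod C))) = 0 from h0 _ hCi, hI2] at a1
  have hCI : SurfPairing.pair k (PicF.cl (ClSub.idealMod C')) (PicF.cl (ClSub.idealMod I)) = m := by
    rw [SurfPairing.pair_comm]; linarith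
  have a2 := hlin hC'i'
  have a3 := hlin hπC
  have a4 := hlin hπW
  rw [SurfRows.blowPt_pair k P hP π hover hπ hdim hdim' hH hCi hCi,
    SurfPairing.pair_comm k _ (PicF.cl (ClSub.idealMod C')), a2, hCI,
    SurfPairing.pair_comm k _ (PicF.cl (ClSub.idealMod I)),
    show SurfPairing.pair k (PicF.cl (ClSub.idealMod I))
      (PicF.cl ((Scheme.Modules.pullback π).obj (ClSub.idealMod C))) = 0 from h0 _ hCi, mul_zero, add_zero] at a3
  rw [SurfRows.blowPt_pair k P hP π hover hπ hdim hdim' hH hWi hCi,
    SurfPairing.pair_comm k _ (PicF.cl (ClSub.idealMod I)),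
    show SurfPairing.pair k (PicF.cl (ClSub.idealMod I))
      (PicF.cl ((Scheme.Modules.pullback π).obj W)) = 0 from h0 _ hWi, mul_zero, add_zero,
    SurfPairing.pair_comm k _ (PicF.cl (ClSub.idealMod C'))] at a4
  have hs : slf k C' = slf k C - (m : ℤ) * m := by
    unfold slf
    linarith
  refine ⟨hs, ?_⟩
  have hadj := SurfRows.blowPt_strict_adj k P hP π hover hπ hdim hdim' hW hW' C hCi C' hC'i' m hm
  unfold slf at hs
  linarith

include hover hπ in
/-- A curve other than the exceptional one is the strict transform of its image. -/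
theorem exists_image_curve (hdim : topologicalKrullDim X = 2) (hdim' : topologicalKrullDim X' = 2)
    {C' : X'.IdealSheafData} (hC' : IsCurve C') (hne : ¬ π.base '' (C'.support : Set X') ⊆ {P}) :
    ∃ (C : X.IdealSheafData) (m : ℕ), IsCurve C ∧ (C.support : Set X) = π.base '' (C'.support : Set X') ∧
      C.comap π = C' * BlowUp.exceptional π (Scheme.IdealSheafData.vanishingIdeal ⟨{P}, hP⟩) ^ m := by
  classical
  haveI := hC'.1
  haveI := CurveCohLib.isNoetherian_of_proper (k := k) (X := X)
  haveI : IsProper (π ≫ (X ↘ Spec (CommRingCat.of k))) := by rw [← hover]; infer_instance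
  haveI : IsProper π := IsProper.of_comp π (X ↘ Spec (CommRingCat.of k))
  have hirr' : IsIrreducible (C'.support : Set X') := by
    rw [← Scheme.IdealSheafData.range_subschemeι, ← Set.image_univ]
    exact (IrreducibleSpace.isIrreducible_univ _).image _ C'.subschemeι.continuous.continuousOn
  let s : Set X := π.base '' (C'.support : Set X')
  have hs : IsClosed s := π.isClosedMap _ C'.support.isClosed
  have hirr : IsIrreducible s := hirr'.image _ π.continuous.continuousOn
  obtain ⟨w, ⟨z, hz, rfl⟩, hw⟩ := Set.not_subset.1 hne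
  have hnt : s.Nontrivial := by
    by_contra h
    rw [Set.not_nontrivial_iff] at h
    refine (curve_nontrivial k hC').not_subsingleton fun a ha b hb => ?_
    have ea : π a = π z := h ⟨a, ha, rfl⟩ ⟨z, hz, rfl⟩
    have eb : π b = π z := h ⟨b, hb, rfl⟩ ⟨z, hz, rfl⟩
    exact PointBlow.injective_off hP hπ (fun e => hw (ea ▸ e)) (ea.trans eb.symm)
  have hgen : genericPoint X ≠ P := fun h => by
    have hu : ({P} : Set X) = Set.univ := by
      rw [← genericPoint_closure (α := X), h, hP.closure_eq]
    exact hw (hu.ge (Set.mem_univ _))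
  have hsu : s ≠ Set.univ := fun h => by
    obtain ⟨a, ha, hag⟩ := h.ge (Set.mem_univ (genericPoint X))
    let U : X.Opens := ⟨({P} : Set X)ᶜ, hP.isOpen_compl⟩
    haveI : IsIso (π ∣_ U) := PointBlow.isIso_off hP hπ
    have hgmap : π (genericPoint X') = genericPoint X :=
      ((hag ▸ (genericPoint_specializes a).map π.continuous : π (genericPoint X') ⤳ genericPoint X).antisymm
        (genericPoint_specializes _)).eq
    have hae : a = genericPoint X' :=
      PointBlow.injective_off hP hπ (fun e => hgen (hag.symm.trans e)) (hag.trans hgmap.symm)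
    have huniv : (C'.support : Set X') = Set.univ := Set.univ_subset_iff.1 fun z _ =>
      (genericPoint_specializes z).mem_closed C'.support.isClosed (hae ▸ ha)
    have h2 := hC'.2
    rw [huniv, (Homeomorph.Set.univ X').isHomeomorph.topologicalKrullDim_eq, hdim'] at h2
    exact absurd h2 (by decide)
  obtain ⟨C, hCi, hCs⟩ := exists_ideal_of_irreducible hs hirr
  haveI := hCi
  have hCd : topologicalKrullDim (C.support : Set X) = 1 := by
    rw [hCs]
    exact dim_eq_one k hdim hs hirr hnt hsu
  have hgenC : π (C'.subschemeι (genericPoint C'.subscheme)) = C.subschemeι (genericPoint C.subscheme) := by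
    have h1 : π (C'.subschemeι (genericPoint C'.subscheme)) ∈ (C.support : Set X) := by
      rw [hCs]
      exact ⟨_, C'.range_subschemeι.le ⟨_, rfl⟩, rfl⟩
    have h2 : C.subschemeι (genericPoint C.subscheme) ∈ s := by
      rw [← hCs]
      exact C.range_subschemeι.le ⟨_, rfl⟩
    obtain ⟨c, hc⟩ : π (C'.subschemeι (genericPoint C'.subscheme)) ∈ Set.range C.subschemeι := by
      rw [C.range_subschemeι]; exact h1
    obtain ⟨a, ha, hae⟩ := h2
    obtain ⟨a', rfl⟩ : a ∈ Set.range C'.subschemeι := by rw [C'.range_subschemeι]; exact ha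
    exact ((hae ▸ ((genericPoint_specializes a').map C'.subschemeι.continuous).map π.continuous).antisymm
      (hc ▸ (genericPoint_specializes c).map C.subschemeι.continuous)).eq
  let J := Scheme.IdealSheafData.vanishingIdeal (⟨{P}, hP⟩ : Closeds X)
  have hbound : ∃ n, ¬ C ≤ J ^ (n + 1) := by
    by_contra hall
    push_neg at hall
    obtain ⟨W, hW, hPW, -⟩ := exists_isAffineOpen_mem_and_subset (X := X) (x := P) (U := ⊤) trivial
    have hle : ∀ n, C.ideal ⟨W, hW⟩ ≤ J.ideal ⟨W, hW⟩ ^ n := fun n => by
      rcases n with _ | n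
      · rw [pow_zero]; exact le_top.trans Ideal.one_eq_top.ge
      · have h := hall n ⟨W, hW⟩
        rwa [Scheme.IdealSheafData.ideal_pow, Pi.pow_apply] at h
    haveI : IsNoetherianRing Γ(X, W) := IsLocallyNoetherian.component_noetherian ⟨W, hW⟩
    haveI : Nonempty W := ⟨⟨P, hPW⟩⟩
    haveI : Nonempty (W : Scheme.{u}) := ⟨⟨P, hPW⟩⟩
    have hJ : J.ideal ⟨W, hW⟩ ≠ ⊤ := fun h => by
      have h1 : P ∈ (J.support : Set X) ∩ W := ⟨by simp [J], hPW⟩
      rw [J.coe_support_inter ⟨W, hW⟩, h] at h1
      have h2 := (Scheme.mem_zeroLocus_iff _ _ _).1 h1.1 1 trivial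
      exact h2 (by rw [Scheme.basicOpen_of_isUnit _ isUnit_one]; exact hPW)
    have hbot : C.ideal ⟨W, hW⟩ = ⊥ :=
      le_bot_iff.1 ((le_iInf hle).trans (Ideal.iInf_pow_eq_bot_of_isDomain _ hJ).le)
    have hg : genericPoint X ∈ (C.support : Set X) ∩ W := by
      have hgW : genericPoint X ∈ W := (genericPoint_specializes P).mem_open W.2 hPW
      rw [C.coe_support_inter ⟨W, hW⟩, hbot]
      exact ⟨(Scheme.mem_zeroLocus_iff _ _ _).2 fun f hf hb => by
        rw [show f = 0 from hf, Scheme.basicOpen_zero] at hb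
        exact hb, hgW⟩
    have huniv : (C.support : Set X) = Set.univ := Set.univ_subset_iff.1 fun z _ =>
      (genericPoint_specializes z).mem_closed C.support.isClosed hg.1
    exact hsu (hCs ▸ huniv)
  let m := Nat.find hbound
  have hm : C ≤ J ^ m := by
    by_cases h0 : m = 0
    · rw [h0, pow_zero, Scheme.IdealSheafData.one_eq_top]; exact le_top
    · have h := Nat.find_min hbound (m := m - 1) (by omega)
      rw [not_not, Nat.sub_add_cancel (Nat.pos_of_ne_zero h0)] at h
      exact h
  exact ⟨C, m, ⟨hCi, hCd⟩, hCs, SurfRows.blowPt_total k P hP π hover hπ hdim hdim' C hCd C' hC'.2 hgenC m hm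
    (Nat.find_spec hbound)⟩

end Groth.Agent.SurfMin
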