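import Groth.Agent.SurfMin.A1
import Groth.Agent.S9388
import Groth.Agent.QCoh.Support
import Groth.Agent.QCoh.LocFree
import Groth.Agent.PnCoh.CechNat
import Groth.Agent.CurveCohLib.Proper

/-!
Families of line bundles with rational curves detecting their independence in the first
cohomology of differentials.
-/

set_option autoImplicit false
set_option linter.style.haveILetI false
set_option linter.unusedSectionVars false
set_option backward.isDefEq.respectTransparency false
set_option backward.isDefEq.respectTransparency.types false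
set_option maxHeartbeats 800000

universe u

open CategoryTheory CategoryTheory.Limits AlgebraicGeometry TopologicalSpace Opposite

noncomputable section

namespace Groth.Agent.SurfMin.Dlog

/-- A multiplicative cocycle of a line bundle. -/
structure Cocyc (X : Scheme.{u}) where
  ι : Type u
  U : ι → X.Opens
  cov : ∀ x : X, ∃ a, x ∈ U a
  g : ∀ (a b : ι) (W : X.Opens), W ≤ U a → W ≤ U b → Γ(X, W)
  unit : ∀ a b W ha hb, IsUnit (g a b W ha hb)
  natural : ∀ a b W W' ha hb (h : W' ≤ W), res h (g a b W ha hb) = g a b W' (h.trans ha) (h.trans hb)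
  mul : ∀ a b c W ha hb hc, g a b W ha hb * g b c W hb hc = g a c W ha hc

variable {X Y : Scheme.{u}}

theorem Cocyc.self (C : Cocyc X) (a : C.ι) (W : X.Opens) (ha : W ≤ C.U a) : C.g a a W ha ha = 1 := by
  have h := C.mul a a a W ha ha ha
  exact (C.unit a a W ha ha).mul_left_cancel (by rw [mul_one]; exact h)

/-- The inverse image of a cocycle. -/
def Cocyc.pull (C : Cocyc Y) (b : X ⟶ Y) : Cocyc X where
  ι := C.ι
  U a := b ⁻¹ᵁ C.U a
  cov x := C.cov (b x)
  g a a' W ha ha' := res (show W ≤ b ⁻¹ᵁ (C.U a ⊓ C.U a') from le_inf ha ha')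
    (b.app (C.U a ⊓ C.U a') (C.g a a' _ inf_le_left inf_le_right))
  unit a a' W ha ha' := ((C.unit _ _ _ _ _).map (b.app _).hom).map _
  natural a a' W W' ha ha' h := res_res _ _ _
  mul a a' c W ha ha' hc := by
    let V := C.U a ⊓ C.U a' ⊓ C.U c
    have hW : W ≤ b ⁻¹ᵁ V := le_inf (le_inf ha ha') hc
    have key : ∀ (i i' : C.ι) (hi : V ≤ C.U i) (hi' : V ≤ C.U i') (e : W ≤ b ⁻¹ᵁ (C.U i ⊓ C.U i')),
        res e (b.app (C.U i ⊓ C.U i') (C.g i i' _ inf_le_left inf_le_right)) =
          res hW (b.app V (C.g i i' V hi hi')) := fun i i' hi hi' e => by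
      rw [← C.natural i i' _ V inf_le_left inf_le_right (le_inf hi hi')]
      exact ((congrArg (res hW) (res_app b (le_inf hi hi') _)).trans (res_res _ _ _)).symm
    rw [key a a' (inf_le_left.trans inf_le_left) (inf_le_left.trans inf_le_right),
      key a' c (inf_le_left.trans inf_le_right) inf_le_right,
      key a c (inf_le_left.trans inf_le_left) inf_le_right, ← map_mul, ← map_mul, C.mul]

theorem Cocyc.pull_g (C : Cocyc Y) (b : X ⟶ Y) (a a' : C.ι) (V : Y.Opens) (hV : V ≤ C.U a)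
    (hV' : V ≤ C.U a') (W : X.Opens) (hW : W ≤ b ⁻¹ᵁ V) :
    (C.pull b).g a a' W (hW.trans ((Opens.map b.base).map (homOfLE hV)).le)
      (hW.trans ((Opens.map b.base).map (homOfLE hV')).le) = res hW (b.app V (C.g a a' V hV hV')) := by
  rw [← C.natural a a' _ V inf_le_left inf_le_right (le_inf hV hV')]
  exact ((congrArg (res hW) (res_app b (le_inf hV hV') _)).trans (res_res _ _ _)).symm

variable (k : Type u) [Field k]

/-- A map of the projective line, given on its two affine lines. -/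
structure Line (sX : X ⟶ Spec (CommRingCat.of k)) where
  j0 : A1 k ⟶ X
  ji : A1 k ⟶ X
  h0 : j0 ≫ sX = sA1 k
  hi : ji ≫ sX = sA1 k
  glue : inc0 k ≫ j0 = incInf k ≫ ji

variable {k}

/-- Trivializations of the inverse image of a cocycle on the affine line. -/
structure Triv (C : Cocyc X) (j : A1 k ⟶ X) where
  v : ∀ a, Γ(A1 k, j ⁻¹ᵁ C.U a)
  unit : ∀ a, IsUnit (v a)
  rel : ∀ a b W (ha : W ≤ C.U a) (hb : W ≤ C.U b),
    j.app W (C.g a b W ha hb) * res ((Opens.map j.base).map (homOfLE hb)).le (v b) =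
      res ((Opens.map j.base).map (homOfLE ha)).le (v a)

variable {sX : X ⟶ Spec (CommRingCat.of k)}

/-- The degree of a cocycle on a line. -/
def Deg (C : Cocyc X) (ν : Line k sX) (m : ℤ) : Prop :=
  ∃ (v : Triv C ν.j0) (w : Triv C ν.ji), ∀ a (O : (Gm k).Opens) (h0 : O ≤ inc0 k ⁻¹ᵁ (ν.j0 ⁻¹ᵁ C.U a))
    (hi : O ≤ incInf k ⁻¹ᵁ (ν.ji ⁻¹ᵁ C.U a)),
    res h0 ((inc0 k).app (ν.j0 ⁻¹ᵁ C.U a) (v.v a)) =
      res le_top (OmAff.toΓ _ (LaurentPolynomial.T m : LaurentPolynomial k)) *
        res hi ((incInf k).app (ν.ji ⁻¹ᵁ C.U a) (w.v a))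

/-- A triangular family of line bundles and lines. -/
def Wit (sX : X ⟶ Spec (CommRingCat.of k)) (n : ℕ) : Prop :=
  ∃ (L : Fin n → Cocyc X) (ν : Fin n → Line k sX),
    (∀ i, Deg (L i) (ν i) 1) ∧ ∀ i l, i < l → Deg (L l) (ν i) 0

theorem wit_zero : Wit sX 0 := ⟨finZeroElim, finZeroElim, finZeroElim, finZeroElim⟩

/-- A cocycle on a finer covering. -/
def Cocyc.refine (C : Cocyc X) {ι : Type u} (V : ι → X.Opens) (cov : ∀ x : X, ∃ c, x ∈ V c)
    (r : ι → C.ι) (hr : ∀ c, V c ≤ C.U (r c)) : Cocyc X where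
  ι := ι
  U := V
  cov := cov
  g c c' W h h' := C.g (r c) (r c') W (h.trans (hr c)) (h'.trans (hr c'))
  unit _ _ _ _ _ := C.unit _ _ _ _ _
  natural _ _ _ _ _ _ h := C.natural _ _ _ _ _ _ h
  mul _ _ _ _ _ _ _ := C.mul _ _ _ _ _ _ _

theorem Deg.refine {C : Cocyc X} {ν : Line k sX} {m : ℤ} (h : Deg C ν m) {ι : Type u} (V : ι → X.Opens)
    (cov : ∀ x : X, ∃ c, x ∈ V c) (r : ι → C.ι) (hr : ∀ c, V c ≤ C.U (r c)) :
    Deg (C.refine V cov r hr) ν m := by
  obtain ⟨v, w, hvw⟩ := h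
  let mk : ∀ {j : A1 k ⟶ X}, Triv C j → Triv (C.refine V cov r hr) j := fun {j} t =>
    { v := fun c => res ((Opens.map j.base).map (homOfLE (hr c))).le (t.v (r c))
      unit := fun c => (t.unit _).map _
      rel := fun c c' W h h' => (congrArg₂ (· * ·) rfl (res_res _ _ _)).trans
        ((t.rel (r c) (r c') W (h.trans (hr c)) (h'.trans (hr c'))).trans (res_res _ _ _).symm) }
  refine ⟨mk v, mk w, fun c O h0 hi => ?_⟩
  show res h0 ((inc0 k).app _ (res _ (v.v (r c)))) = _ * res hi ((incInf k).app _ (res _ (w.v (r c))))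
  refine ((congrArg (res h0) (res_app _ (hr c |> fun e => ((Opens.map ν.j0.base).map (homOfLE e)).le) _)).trans
    (res_res _ _ _)).trans ((hvw (r c) O _ (hi.trans ((Opens.map (incInf k).base).map
      (homOfLE ((Opens.map ν.ji.base).map (homOfLE (hr c))).le)).le)).trans (congrArg₂ (· * ·) rfl ?_))
  exact ((congrArg (res hi) (res_app _ ((Opens.map ν.ji.base).map (homOfLE (hr c))).le _)).trans
    (res_res _ _ _)).symm

/-- Constants. -/
def cst (sX : X ⟶ Spec (CommRingCat.of k)) (W : X.Opens) : k →+* Γ(X, W) :=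
  (res (le_top : W ≤ ⊤)).comp (Coh.toGlobal sX)

theorem res_cst {W W' : X.Opens} (h : W' ≤ W) (r : k) : res h (cst sX W r) = cst sX W' r := res_res _ _ _

theorem app_cst (j : A1 k ⟶ X) (hj : j ≫ sX = sA1 k) (W : X.Opens) (r : k) :
    j.app W (cst sX W r) = cst (sA1 k) (j ⁻¹ᵁ W) r := by
  refine (res_app j le_top (Coh.toGlobal sX r)).trans ?_
  show res le_top ((j.appTop).hom (Coh.toGlobal sX r)) = res le_top (Coh.toGlobal (sA1 k) r)
  rw [← hj]
  rfl

theorem toGlobal_sA1 (r : k) : Coh.toGlobal (sA1 k) r = OmAff.toΓ _ (Polynomial.C r) :=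
  OmAff.appTop_toΓ k (Polynomial k) r

section Cech

variable (sX) [IsProper sX]

theorem isCoh_omega : Coh.IsCoh (Omega.sheaf sX) := by
  haveI : LocallyOfFinitePresentation sX := inferInstance
  have h := S9388.result sX (Omega.sheaf sX) (OmegaSh.dOmega sX) (OmegaUniv.isUniversal_dOmega sX)
  exact ⟨QCoh.isQCoh_of_isFP h, QCoh.isFT_of_isFP h⟩

variable {ι : Type u} {V : ι → X.Opens} (n : ℕ)

open QCoh.Ab in
/-- The cochain of logarithmic derivatives. -/
def coch (g : Fin n → ∀ (a b : ι) (W : X.Opens), W ≤ V a → W ≤ V b → Γ(X, W))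
    (hu : ∀ i a b W ha hb, IsUnit (g i a b W ha hb))
    (hn : ∀ i a b W W' ha hb (h : W' ≤ W), res h (g i a b W ha hb) = g i a b W' (h.trans ha) (h.trans hb))
    (lam : Fin n → k) : natCochains (Omega.sheaf sX).presheaf V 2 :=
  ⟨fun σ W => ∑ i, cst sX W.1 (lam i) •
      dlogForm sX W.1 (g i (σ 0) (σ 1) W.1 (W.2 0) (W.2 1)),
    fun σ W W' h h' e => by
      show (Omega.sheaf sX).presheaf.map e.op (∑ i, _) = ∑ i, _
      refine (map_sum _ _ _).trans (Finset.sum_congr rfl fun i _ => ?_)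
      rw [Subsingleton.elim e (homOfLE e.le), Scheme.Modules.map_smul,
        show X.presheaf.map (homOfLE e.le).op (cst sX W (lam i)) = cst sX W' (lam i) from res_cst e.le _,
        ← dlogForm_res sX e.le (hu ..), hn]⟩

/-- The classes of logarithmic derivatives span at most the first cohomology. -/
theorem exists_eta [IsNoetherian X] [Finite ι] (hV : ∀ a, IsAffineOpen (V a)) (hcov : ⨆ a, V a = ⊤)
    (g : Fin n → ∀ (a b : ι) (W : X.Opens), W ≤ V a → W ≤ V b → Γ(X, W))
    (hu : ∀ i a b W ha hb, IsUnit (g i a b W ha hb))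
    (hn : ∀ i a b W W' ha hb (h : W' ≤ W), res h (g i a b W ha hb) = g i a b W' (h.trans ha) (h.trans hb))
    (hm : ∀ i a b c W ha hb hc, g i a b W ha hb * g i b c W hb hc = g i a c W ha hc) :
    letI : X.Over (Spec (CommRingCat.of k)) := ⟨sX⟩
    Module.finrank k (Coh.HH X (Omega.sheaf sX) 1) < n →
      ∃ lam : Fin n → k, lam ≠ 0 ∧
        ∃ η : ∀ a, Γ(Omega.sheaf sX, V a), ∀ a b (W : X.Opens) (ha : W ≤ V a) (hb : W ≤ V b),
          (Omega.sheaf sX).presheaf.map (homOfLE hb).op (η b) - (Omega.sheaf sX).presheaf.map (homOfLE ha).op (η a) =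
            ∑ i, cst sX W (lam i) • dlogForm sX W (g i a b W ha hb) := by
  intro hlt
  letI : X.Over (Spec (CommRingCat.of k)) := ⟨sX⟩
  haveI : IsProper (X ↘ Spec (CommRingCat.of k)) := inferInstanceAs (IsProper sX)
  haveI : X.IsSeparated := ⟨by rw [← terminal.comp_from sX]; infer_instance⟩
  haveI := CurveCohLib.finite_HH (k := k) (isCoh_omega sX) 1
  let P := (Omega.sheaf sX).presheaf
  let K := QCoh.Ab.natCx P V
  have hiInf : ∀ {p : ℕ} (σ : Fin (p + 1) → ι), IsAffineOpen (⨅ a, V (σ a)) := by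
    intro p σ
    induction p with
    | zero =>
      rw [show (⨅ a, V (σ a)) = V (σ 0) from le_antisymm (iInf_le _ 0)
        (le_iInf fun a => le_of_eq (by rw [show a = 0 from Subsingleton.elim (α := Fin 1) a 0]))]
      exact hV _
    | succ p ih =>
      rw [show (⨅ a, V (σ a)) = V (σ 0) ⊓ ⨅ a : Fin (p + 1), V (σ a.succ) from
        le_antisymm (le_inf (iInf_le _ _) (le_iInf fun a => iInf_le _ _))
          (le_iInf (Fin.cases inf_le_left fun a => inf_le_right.trans (iInf_le _ a)))]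
      exact (hV _).inf (ih fun a => σ a.succ)
  obtain ⟨e, he⟩ := PnCoh.natCx_H_equiv_natural (X := X.toPresheafedSpace.carrier) hcov
    (QCoh.stdCovers_sectionClass hiInf) (QCoh.abSheaf (Omega.sheaf sX))
    (QCoh.stdCovers_acyclic (isCoh_omega sX).1) 1
  let c := coch sX n g hu hn
  have hdc : ∀ lam, QCoh.Ab.d (c lam).1 = 0 := fun lam => by
    funext σ W
    show ∑ a : Fin 3, (-1 : ℤ) ^ (a : ℕ) •
      ((c lam).1 (fun b => σ (a.succAbove b)) ⟨W.1, fun b => W.2 (a.succAbove b)⟩ :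
        Γ(Omega.sheaf sX, W.1)) = (0 : Γ(Omega.sheaf sX, W.1))
    simp only [Fin.sum_univ_three, Fin.val_zero, Fin.val_one, Fin.val_two, pow_zero, pow_one, one_smul,
      neg_smul, neg_one_sq]
    show (∑ i, cst sX W.1 (lam i) • dlogForm sX W.1 (g i (σ 1) (σ 2) W.1 (W.2 1) (W.2 2))) +
      -(∑ i, cst sX W.1 (lam i) • dlogForm sX W.1 (g i (σ 0) (σ 2) W.1 (W.2 0) (W.2 2))) +
      (∑ i, cst sX W.1 (lam i) • dlogForm sX W.1 (g i (σ 0) (σ 1) W.1 (W.2 0) (W.2 1))) = 0
    rw [← Finset.sum_neg_distrib, ← Finset.sum_add_distrib, ← Finset.sum_add_distrib]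
    refine Finset.sum_eq_zero fun i _ => ?_
    rw [← smul_neg, ← smul_add, ← smul_add]
    refine smul_eq_zero_of_right _ ?_
    rw [← hm i (σ 0) (σ 1) (σ 2) W.1 (W.2 0) (W.2 1) (W.2 2), dlogForm_mul sX W.1 (hu ..) (hu ..)]
    abel
  have hinj : Function.Injective (K.iCycles 1) := (AddCommGrpCat.mono_iff_injective _).1 inferInstance
  have hker := ShortComplex.exact_of_f_is_kernel (ShortComplex.mk (K.iCycles 1) (K.d 1 2) (K.iCycles_d 1 2))
    (K.cyclesIsKernel 1 2 (CochainComplex.next ℕ 1))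
  have hex1 : ∀ lam, ∃ z : K.cycles 1, K.iCycles 1 z = c lam := fun lam =>
    (ShortComplex.ab_exact_iff _).1 hker (c lam) (by
      show K.d 1 2 (c lam) = 0
      rw [QCoh.Ab.natCx_d]
      exact Subtype.ext (hdc lam))
  choose z hz using hex1
  let φ : (Fin n → k) →ₗ[k] Coh.HH X (Omega.sheaf sX) 1 :=
    { toFun := fun lam => e (K.homologyπ 1 (z lam))
      map_add' := fun lam mu => by
        show e _ = e _ + e _
        rw [← map_add, ← map_add]
        refine congrArg (fun w => e (K.homologyπ 1 w)) (hinj ?_)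
        rw [map_add, hz, hz, hz]
        refine Subtype.ext (funext₂ fun σ W => ?_)
        show (∑ i, cst sX W.1 ((lam + mu) i) • dlogForm sX W.1 (g i (σ 0) (σ 1) W.1 (W.2 0) (W.2 1))) =
          (∑ i, cst sX W.1 (lam i) • dlogForm sX W.1 (g i (σ 0) (σ 1) W.1 (W.2 0) (W.2 1))) +
            ∑ i, cst sX W.1 (mu i) • dlogForm sX W.1 (g i (σ 0) (σ 1) W.1 (W.2 0) (W.2 1))
        rw [← Finset.sum_add_distrib]
        exact Finset.sum_congr rfl fun i _ => by rw [← add_smul, ← map_add]; rfl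
      map_smul' := fun r lam => by
        let φr := Coh.smulAb (Omega.sheaf sX) (Coh.toGlobal sX r)
        refine Eq.trans ?_ (he φr (K.homologyπ 1 (z lam)))
        refine congrArg e ?_
        rw [← ConcreteCategory.comp_apply (K.homologyπ 1), HomologicalComplex.homologyπ_naturality,
          ConcreteCategory.comp_apply]
        refine congrArg (K.homologyπ 1) (hinj ?_)
        rw [← ConcreteCategory.comp_apply, HomologicalComplex.cyclesMap_i, ConcreteCategory.comp_apply, hz, hz]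
        refine Subtype.ext (funext₂ fun σ W => ?_)
        show (∑ i, cst sX W.1 ((r • lam) i) • dlogForm sX W.1 (g i (σ 0) (σ 1) W.1 (W.2 0) (W.2 1))) =
          cst sX W.1 r • ∑ i, cst sX W.1 (lam i) • dlogForm sX W.1 (g i (σ 0) (σ 1) W.1 (W.2 0) (W.2 1))
        rw [Finset.smul_sum]
        exact Finset.sum_congr rfl fun i _ => by rw [smul_smul, ← map_mul]; rfl }
  have hni : ¬ Function.Injective φ := fun h => by
    have := LinearMap.finrank_le_finrank_of_injective h
    rw [Module.finrank_fin_fun] at this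
    omega
  rw [← LinearMap.ker_eq_bot] at hni
  replace hni := (Submodule.ne_bot_iff _).1 hni
  obtain ⟨lam, hlam, hne⟩ := hni
  have h0 : K.homologyπ 1 (z lam) = 0 := e.injective (hlam.trans (map_zero e).symm)
  have hex := ShortComplex.exact_of_g_is_cokernel (ShortComplex.mk (K.toCycles 0 1)
    (K.homologyπ 1) (K.toCycles_comp_homologyπ _ 1)) (K.homologyIsCokernel 0 1 (CochainComplex.prev_nat_succ 0))
  obtain ⟨w, hw⟩ := (ShortComplex.ab_exact_iff _).1 hex (z lam) h0
  have hw' : K.d 0 1 w = c lam := by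
    rw [← hz lam, ← hw]
    exact (ConcreteCategory.congr_hom (K.toCycles_i 0 1) w).symm
  have hw'' : QCoh.Ab.d (w : QCoh.Ab.natCochains P V 1).1 = (c lam).1 := by
    have := congrArg Subtype.val hw'
    rwa [QCoh.Ab.natCx_d] at this
  let w0 : QCoh.Ab.natCochains P V 1 := w
  refine ⟨lam, hne, fun a => w0.1 (fun _ => a) ⟨V a, fun _ => le_rfl⟩, fun a b W ha hb => ?_⟩
  let σ : Fin 2 → ι := ![a, b]
  have hσ : ∀ i, W ≤ V (σ i) := by intro i; fin_cases i <;> assumption
  have := congrFun (congrFun hw'' σ) ⟨W, hσ⟩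
  refine Eq.trans ?_ this
  show _ = @Finset.sum (Fin 2) (P.obj (op W)) _ Finset.univ fun i => (-1 : ℤ) ^ (i : ℕ) •
    (w0.1 (fun j => σ (i.succAbove j)) ⟨W, fun j => hσ (i.succAbove j)⟩ : P.obj (op W))
  rw [Fin.sum_univ_two]
  have e0 : (fun j => σ ((0 : Fin 2).succAbove j)) = fun _ => b := funext fun j => by fin_cases j; rfl
  have e1 : (fun j => σ ((1 : Fin 2).succAbove j)) = fun _ => a := funext fun j => by fin_cases j; rfl
  have key : ∀ (τ : Fin 1 → ι) (i : ι) (e : τ = fun _ => i) (h : ∀ j, W ≤ V (τ j)) (h' : W ≤ V i),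
      w0.1 τ ⟨W, h⟩ = P.map (homOfLE h').op (w0.1 (fun _ => i) ⟨V i, fun _ => le_rfl⟩) := by
    rintro τ i rfl h h'
    exact (w0.2 (fun _ => i) (V i) W (fun _ => le_rfl) h (homOfLE h')).symm
  rw [key _ b e0 _ hb, key _ a e1 _ ha]
  simp [sub_eq_add_neg]
  rfl

end Cech

end Groth.Agent.SurfMin.Dlog
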